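/-
Centres and axes of transvections of a subgroup acting on a projective plane.
-/
import Cfsg.Agent.Geo.Transvection
import Mathlib.LinearAlgebra.Projectivization.Action
import Mathlib.LinearAlgebra.Projectivization.Cardinality
import Mathlib.GroupTheory.PGroup

set_option autoImplicit false

namespace CfsgLib.Geo.SL3.Plane

open Matrix Cfsg Cfsg.Geo CfsgLib.Geo

variable {F : Type*} [Field F]

/-- Points of the plane; also used for lines, through covectors. -/
abbrev Pt (F : Type*) [Field F] := Projectivization F (Fin 3 → F)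

/-- The line of the covector class `L` passes through the point `P`. -/
def Inc (P L : Pt F) : Prop := L.rep ⬝ᵥ P.rep = 0

lemma exists_smul_of_mk {P : Pt F} {v : Fin 3 → F} (hv : v ≠ 0) (h : Projectivization.mk F v hv = P) :
    ∃ c : F, c ≠ 0 ∧ v = c • P.rep := by
  obtain ⟨a, ha⟩ := (Projectivization.mk_eq_mk_iff F v P.rep hv P.rep_nonzero).1
    (by rw [Projectivization.mk_rep, h])
  exact ⟨a, a.ne_zero, ha.symm⟩

lemma inc_mk {v φ : Fin 3 → F} (hv : v ≠ 0) (hφ : φ ≠ 0) :
    Inc (Projectivization.mk F v hv) (Projectivization.mk F φ hφ) ↔ φ ⬝ᵥ v = 0 := by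
  obtain ⟨c, hc, e1⟩ := exists_smul_of_mk hv rfl
  obtain ⟨d, hd, e2⟩ := exists_smul_of_mk hφ rfl
  conv_rhs => rw [e1, e2]
  simp [Inc, hc, hd]

lemma inc_symm {P L : Pt F} : Inc P L ↔ Inc L P := by rw [Inc, Inc, dotProduct_comm]

lemma smul_mk' (g : GL (Fin 3) F) {v : Fin 3 → F} (hv : v ≠ 0)
    (hgv : (g : Matrix (Fin 3) (Fin 3) F) *ᵥ v ≠ 0) :
    g • Projectivization.mk F v hv = Projectivization.mk F ((g : Matrix (Fin 3) (Fin 3) F) *ᵥ v) hgv := rfl

lemma mulVec_ne_zero' (g : GL (Fin 3) F) {v : Fin 3 → F} (hv : v ≠ 0) :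
    (g : Matrix (Fin 3) (Fin 3) F) *ᵥ v ≠ 0 := fun h => hv (by
  rw [← inv_mulVec_mulVec g v, h, Matrix.mulVec_zero])

lemma smul_pt (g : GL (Fin 3) F) (P : Pt F) :
    g • P = Projectivization.mk F ((g : Matrix (Fin 3) (Fin 3) F) *ᵥ P.rep) (mulVec_ne_zero' g P.rep_nonzero) := by
  conv_lhs => rw [← P.mk_rep]
  rfl

lemma exists_rep_smul (g : GL (Fin 3) F) (P : Pt F) :
    ∃ c : F, c ≠ 0 ∧ (g : Matrix (Fin 3) (Fin 3) F) *ᵥ P.rep = c • (g • P).rep :=
  exists_smul_of_mk _ (smul_pt g P).symm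

lemma smul_eq_self_iff (g : GL (Fin 3) F) (P : Pt F) :
    g • P = P ↔ ∃ c : F, (g : Matrix (Fin 3) (Fin 3) F) *ᵥ P.rep = c • P.rep := by
  constructor
  · intro h
    obtain ⟨c, -, hc⟩ := exists_rep_smul g P
    rw [h] at hc
    exact ⟨c, hc⟩
  · rintro ⟨c, hc⟩
    have hc0 : c ≠ 0 := fun h => mulVec_ne_zero' g P.rep_nonzero (by rw [hc, h, zero_smul])
    conv_rhs => rw [← P.mk_rep]
    rw [smul_pt]
    exact (Projectivization.mk_eq_mk_iff F _ _ _ _).2 ⟨Units.mk0 c hc0, hc.symm⟩

/-- The contragredient map. -/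
def dual : GL (Fin 3) F →* GL (Fin 3) F where
  toFun g := ⟨((g⁻¹ : GL (Fin 3) F) : Matrix (Fin 3) (Fin 3) F)ᵀ, (g : Matrix (Fin 3) (Fin 3) F)ᵀ,
    by rw [← Matrix.transpose_mul, Units.mul_inv, Matrix.transpose_one],
    by rw [← Matrix.transpose_mul, Units.inv_mul, Matrix.transpose_one]⟩
  map_one' := Units.ext (by simp)
  map_mul' a b := Units.ext (by simp [Matrix.transpose_mul, _root_.mul_inv_rev])

lemma dual_mulVec (g : GL (Fin 3) F) (φ : Fin 3 → F) :
    (dual g : Matrix (Fin 3) (Fin 3) F) *ᵥ φ = φ ᵥ* ((g⁻¹ : GL (Fin 3) F) : Matrix (Fin 3) (Fin 3) F) :=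
  Matrix.mulVec_transpose _ _

lemma dual_dual (g : GL (Fin 3) F) : dual (dual g) = g :=
  Units.ext (by
    change ((g : Matrix (Fin 3) (Fin 3) F)ᵀ)ᵀ = _
    rw [Matrix.transpose_transpose])

lemma dual_injective : Function.Injective (dual (F := F)) := fun a b h => by
  rw [← dual_dual a, h, dual_dual]

lemma dual_tvec {a φ : Fin 3 → F} (h : φ ⬝ᵥ a = 0) :
    dual (tvec a φ h) = tvec φ (-a) (by rw [neg_dotProduct, dotProduct_comm, h, neg_zero]) := by
  refine gl_ext_mulVec fun x => ?_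
  rw [dual_mulVec, tvec_mulVec]
  change x ᵥ* (1 - vecMulVec a φ) = _
  rw [Matrix.vecMul_sub, Matrix.vecMul_one, Matrix.vecMul_vecMulVec, neg_dotProduct, neg_smul, sub_eq_add_neg,
    dotProduct_comm]

lemma dual_mem_specialLinear {g : GL (Fin 3) F} (hg : g ∈ specialLinear (Fin 3) F) :
    dual g ∈ specialLinear (Fin 3) F := by
  rw [mem_specialLinear]
  change ((g⁻¹ : GL (Fin 3) F) : Matrix (Fin 3) (Fin 3) F)ᵀ.det = 1
  rw [Matrix.det_transpose]
  exact mem_specialLinear.1 ((specialLinear (Fin 3) F).inv_mem hg)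

variable {M : Subgroup (GL (Fin 3) F)}

lemma mem_dual {g : GL (Fin 3) F} : g ∈ M.map dual ↔ dual g ∈ M := by
  constructor
  · rintro ⟨x, hx, rfl⟩; rwa [dual_dual]
  · exact fun h => ⟨_, h, dual_dual g⟩

lemma map_dual_dual : (M.map dual).map dual = M := by
  ext g; rw [mem_dual, mem_dual, dual_dual]

lemma hasTv_dual {a φ : Fin 3 → F} : HasTv (M.map dual) φ a ↔ HasTv M a φ := by
  constructor
  · rintro ⟨h, hm⟩
    rw [mem_dual, dual_tvec] at hm
    have := HasTv.neg_axis (⟨_, hm⟩ : HasTv M a (-φ))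
    rwa [neg_neg] at this
  · intro h
    obtain ⟨h', hm⟩ := h.neg_axis
    refine ⟨by rw [dotProduct_comm]; exact h.1, ?_⟩
    rw [mem_dual, dual_tvec]
    exact hm

lemma sl_le_of_dual (h : specialLinear (Fin 3) F ≤ M.map dual) : specialLinear (Fin 3) F ≤ M := fun g hg => by
  have := h (dual_mem_specialLinear hg)
  rw [mem_dual, dual_dual] at this
  exact this

lemma inc_smul (g : GL (Fin 3) F) (P L : Pt F) : Inc (g • P) (dual g • L) ↔ Inc P L := by
  rw [smul_pt, smul_pt, inc_mk, dual_mulVec, vecMul_dotProduct_mulVec]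
  rfl

/-- `P` is the centre and `L` the axis of a nontrivial transvection of `M`. -/
def Flag (M : Subgroup (GL (Fin 3) F)) (P L : Pt F) : Prop :=
  ∃ c : F, c ≠ 0 ∧ HasTv M (c • P.rep) L.rep

/-- `P` is the centre of a nontrivial transvection of `M`. -/
def Centre (M : Subgroup (GL (Fin 3) F)) (P : Pt F) : Prop := ∃ L, Flag M P L

/-- `L` is the axis of a nontrivial transvection of `M`. -/
def Axis (M : Subgroup (GL (Fin 3) F)) (L : Pt F) : Prop := ∃ P, Flag M P L

lemma flag_of_hasTv {a φ : Fin 3 → F} (ha : a ≠ 0) (hφ : φ ≠ 0) (h : HasTv M a φ) :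
    Flag M (Projectivization.mk F a ha) (Projectivization.mk F φ hφ) := by
  obtain ⟨c, hc, e1⟩ := exists_smul_of_mk ha rfl
  obtain ⟨d, hd, e2⟩ := exists_smul_of_mk hφ rfl
  rw [e1, e2, ← hasTv_smul_iff d hd, smul_smul] at h
  exact ⟨d * c, mul_ne_zero hd hc, h⟩

lemma Flag.inc {P L : Pt F} (h : Flag M P L) : Inc P L := by
  obtain ⟨c, hc, h⟩ := h
  have := h.1
  rw [dotProduct_smul, smul_eq_mul] at this
  exact (mul_eq_zero.1 this).resolve_left hc

lemma flag_dual {P L : Pt F} : Flag (M.map dual) L P ↔ Flag M P L := by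
  unfold Flag
  refine exists_congr fun c => and_congr_right fun hc => ?_
  rw [hasTv_dual, hasTv_smul_iff c hc]

lemma axis_iff_centre_dual {L : Pt F} : Axis M L ↔ Centre (M.map dual) L :=
  exists_congr fun _ => flag_dual.symm

lemma centre_iff_axis_dual {P : Pt F} : Centre M P ↔ Axis (M.map dual) P :=
  exists_congr fun _ => flag_dual.symm

lemma Flag.move {P L : Pt F} (h : Flag M P L) {g : GL (Fin 3) F} (hg : g ∈ M) : Flag M (g • P) (dual g • L) := by
  obtain ⟨c, hc, h⟩ := h
  have h1 := h.conj hg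
  obtain ⟨a, ha, e1⟩ := exists_rep_smul g P
  obtain ⟨b, hb, e2⟩ := exists_rep_smul (dual g) L
  rw [dual_mulVec] at e2
  rw [Matrix.mulVec_smul, e1, e2, ← hasTv_smul_iff b hb, smul_smul, smul_smul] at h1
  exact ⟨_, mul_ne_zero (mul_ne_zero hb hc) ha, by simpa only [mul_assoc] using h1⟩

lemma Centre.move {P : Pt F} (h : Centre M P) {g : GL (Fin 3) F} (hg : g ∈ M) : Centre M (g • P) :=
  let ⟨_, hL⟩ := h; ⟨_, hL.move hg⟩

lemma Axis.move {L : Pt F} (h : Axis M L) {g : GL (Fin 3) F} (hg : g ∈ M) : Axis M (dual g • L) :=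
  let ⟨_, hP⟩ := h; ⟨_, hP.move hg⟩

/-- Two distinct lines meet in a single point. -/
lemma eq_of_inc {P Q L L' : Pt F} (hne : L ≠ L') (h1 : Inc P L) (h2 : Inc P L') (h3 : Inc Q L) (h4 : Inc Q L') :
    P = Q := by
  have hli : LinearIndependent F ![L.rep, L'.rep] := by
    rw [LinearIndependent.pair_iff' L.rep_nonzero]
    intro a ha
    apply hne
    rw [← L.mk_rep, ← L'.mk_rep, Projectivization.mk_eq_mk_iff']
    have ha0 : a ≠ 0 := fun e => L'.rep_nonzero (by rw [← ha, e, zero_smul])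
    exact ⟨a⁻¹, by rw [← ha, smul_smul, inv_mul_cancel₀ ha0, one_smul]⟩
  let R : (Fin 3 → F) →ₗ[F] (Fin 2 → F) := (Matrix.of ![L.rep, L'.rep]).mulVecLin
  have hR : ∀ X : Pt F, Inc X L → Inc X L' → X.rep ∈ LinearMap.ker R := fun X a b => by
    refine LinearMap.mem_ker.2 (funext fun i => ?_)
    fin_cases i
    · exact a
    · exact b
  have hr : Module.finrank F (LinearMap.range R) = 2 := by
    change (Matrix.of ![L.rep, L'.rep]).rank = 2
    rw [← Matrix.rank_transpose, Matrix.rank_eq_finrank_span_cols]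
    exact (finrank_span_eq_card hli).trans (Fintype.card_fin 2)
  have hk : Module.finrank F (LinearMap.ker R) = 1 := by
    have := R.finrank_range_add_finrank_ker
    rw [Module.finrank_fin_fun] at this
    omega
  obtain ⟨a, ha⟩ := exists_smul_eq_of_finrank_eq_one hk
    (x := (⟨Q.rep, hR Q h3 h4⟩ : LinearMap.ker R)) (fun e => Q.rep_nonzero (congrArg Subtype.val e))
    ⟨P.rep, hR P h1 h2⟩
  rw [← P.mk_rep, ← Q.mk_rep, Projectivization.mk_eq_mk_iff']
  exact ⟨a, congrArg Subtype.val ha⟩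

/-- A centre on an axis is a centre for that axis. -/
lemma flag_of_inc {P L : Pt F} (hP : Centre M P) (hL : Axis M L) (h : Inc P L) : Flag M P L := by
  obtain ⟨L', hL'⟩ := hP
  obtain ⟨S, hS⟩ := hL
  by_cases hSL : Inc S L'
  · rcases eq_or_ne L' L with rfl | hne
    · exact hL'
    · rwa [eq_of_inc hne hL'.inc h hSL hS.inc]
  · obtain ⟨c, hc, h1⟩ := hL'
    obtain ⟨d, hd, h2⟩ := hS
    have hz : L.rep ⬝ᵥ (c • P.rep) = 0 := by rw [dotProduct_smul, show L.rep ⬝ᵥ P.rep = 0 from h, smul_zero]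
    have h3 := h1.comm h2 hz
    have hk : L'.rep ⬝ᵥ (d • S.rep) ≠ 0 := by
      rw [dotProduct_smul, smul_eq_mul]
      exact mul_ne_zero hd hSL
    rw [← hasTv_smul_iff _ hk, smul_smul] at h3
    exact ⟨_, mul_ne_zero hk hc, h3⟩


/-- A group acting with orbits of one size on an invariant set. -/
lemma dvd_card_of_orbits {G X : Type*} [Group G] [MulAction G X] [Finite X] (H : Subgroup G) (S : Set X) {n : ℕ}
    (hinv : ∀ h ∈ H, ∀ x ∈ S, h • x ∈ S) (horb : ∀ x ∈ S, Nat.card (MulAction.orbit H x) = n) :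
    n ∣ Nat.card S := by
  let T : SubMulAction H X := { carrier := S, smul_mem' := fun h x hx => hinv h h.2 x hx }
  change n ∣ Nat.card T
  rw [Nat.card_congr (MulAction.selfEquivSigmaOrbits H T)]
  letI := Fintype.ofFinite (MulAction.orbitRel.Quotient H T)
  rw [Nat.card_sigma]
  refine Finset.dvd_sum fun ω _ => ?_
  have h1 := horb (ω.out : X) ω.out.2
  rw [show MulAction.orbit H (ω.out : X) = Subtype.val '' MulAction.orbit H ω.out from
    (SubMulAction.val_image_orbit ω.out).symm, Nat.card_image_of_injective Subtype.val_injective] at h1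
  exact h1 ▸ dvd_rfl

/-- A group acting freely on an invariant set. -/
lemma card_dvd_of_free {G X : Type*} [Group G] [MulAction G X] [Finite X] (H : Subgroup G) [Finite H] (S : Set X)
    (hinv : ∀ h ∈ H, ∀ x ∈ S, h • x ∈ S) (hfree : ∀ h ∈ H, ∀ x ∈ S, h • x = x → h = 1) :
    Nat.card H ∣ Nat.card S := by
  refine dvd_card_of_orbits H S hinv fun x hx => ?_
  rw [Nat.card_congr (MulAction.orbitEquivQuotientStabilizer H x)]
  have : MulAction.stabilizer H x = ⊥ := (Subgroup.eq_bot_iff_forall _).2 fun h hh =>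
    Subtype.ext (hfree h h.2 x hx hh)
  rw [this]
  exact Nat.card_congr (QuotientGroup.quotientBot (G := H)).toEquiv

lemma exists_inc_both (L L' : Pt F) : ∃ P : Pt F, Inc P L ∧ Inc P L' := by
  let R : (Fin 3 → F) →ₗ[F] (Fin 2 → F) := (Matrix.of ![L.rep, L'.rep]).mulVecLin
  obtain ⟨v, hv, hv0⟩ := Submodule.exists_mem_ne_zero_of_ne_bot (p := LinearMap.ker R) fun e => by
    have := R.finrank_range_add_finrank_ker
    have h2 : Module.finrank F (LinearMap.range R) ≤ 2 := by simpa using Submodule.finrank_le (LinearMap.range R)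
    rw [e, finrank_bot, Module.finrank_fin_fun] at this
    omega
  have h1 : L.rep ⬝ᵥ v = 0 := congrFun (LinearMap.mem_ker.1 hv) 0
  have h2 : L'.rep ⬝ᵥ v = 0 := congrFun (LinearMap.mem_ker.1 hv) 1
  refine ⟨Projectivization.mk F v hv0, ?_, ?_⟩
  · rw [← L.mk_rep, inc_mk]; exact h1
  · rw [← L'.mk_rep, inc_mk]; exact h2

lemma eq_of_inc' {P Q L L' : Pt F} (hne : P ≠ Q) (h1 : Inc P L) (h2 : Inc Q L) (h3 : Inc P L') (h4 : Inc Q L') :
    L = L' :=
  eq_of_inc hne (inc_symm.1 h1) (inc_symm.1 h2) (inc_symm.1 h3) (inc_symm.1 h4)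

variable [Finite F]

lemma card_points : Nat.card (Pt F) = Nat.card F ^ 2 + Nat.card F + 1 := by
  rw [Projectivization.card_of_finrank F (Fin 3 → F) (Module.finrank_fin_fun F)]
  simp [Finset.sum_range_succ]
  ring

/-- A line has `q + 1` points. -/
lemma card_inc (L : Pt F) : Nat.card {P : Pt F | Inc P L} = Nat.card F + 1 := by
  let f : (Fin 3 → F) →ₗ[F] F :=
    { toFun := fun v => L.rep ⬝ᵥ v, map_add' := fun v w => dotProduct_add _ v w
      map_smul' := fun c v => dotProduct_smul c _ v }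
  have hf : Module.finrank F (LinearMap.ker f) = 2 := by
    have h1 := f.finrank_range_add_finrank_ker
    have h2 : LinearMap.range f = ⊤ := by
      obtain ⟨i, hi⟩ := Function.ne_iff.1 L.rep_nonzero
      refine LinearMap.range_eq_top.2 fun x => ⟨Pi.single i (x / L.rep i), ?_⟩
      show L.rep ⬝ᵥ Pi.single i (x / L.rep i) = x
      rw [dotProduct_single, mul_div_cancel₀ _ hi]
    rw [h2, finrank_top, Module.finrank_self, Module.finrank_fin_fun] at h1
    omega
  rw [← Projectivization.card_of_finrank_two (k := F) (V := LinearMap.ker f) hf]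
  let e : Projectivization F (LinearMap.ker f) → {P : Pt F | Inc P L} := fun P =>
    ⟨Projectivization.map (LinearMap.ker f).subtype (Submodule.injective_subtype _) P, by
      induction P using Projectivization.ind with
      | h v hv =>
        rw [Set.mem_ofPred_eq, Projectivization.map_mk, ← L.mk_rep, inc_mk]
        exact v.2⟩
  refine (Nat.card_congr (Equiv.ofBijective e ⟨fun a b h => ?_, fun Q => ?_⟩)).symm
  · exact Projectivization.map_injective _ (Submodule.injective_subtype _) (congrArg Subtype.val h)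
  · obtain ⟨P, hP⟩ := Q
    refine ⟨Projectivization.mk F ⟨P.rep, hP⟩ (fun e' => P.rep_nonzero (congrArg Subtype.val e')), Subtype.ext ?_⟩
    simp only [e]
    rw [Projectivization.map_mk]
    exact P.mk_rep

/-- The covectors of the transvections of `M` with a given centre. -/
def axesAt (M : Subgroup (GL (Fin 3) F)) (v : Fin 3 → F) : AddSubgroup (Fin 3 → F) where
  carrier := {φ | HasTv M v φ}
  add_mem' := HasTv.add_axis
  zero_mem' := hasTv_zero_right M v
  neg_mem' := HasTv.neg_axis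

variable {p : ℕ} [Fact p.Prime] [CharP F p]

lemma prime_dvd_card {A : AddSubgroup (Fin 3 → F)} (hA : A ≠ ⊥) : p ∣ Nat.card A := by
  obtain ⟨x, hx0⟩ := A.ne_bot_iff_exists_ne_zero.1 hA
  have h1 : p • x = 0 := by
    refine Subtype.ext (funext fun i => ?_)
    simp [CharP.cast_eq_zero]
  rw [← addOrderOf_eq_prime h1 hx0]
  exact addOrderOf_dvd_natCard x

/-- The number of axes at a centre is one modulo the characteristic. -/
theorem axes_through_modEq {P : Pt F} (hP : Centre M P) :
    ((Nat.card {L : Pt F | Axis M L ∧ Inc P L} : ℕ) : ZMod p) = 1 := by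
  classical
  haveI := Fintype.ofFinite F
  haveI := Fintype.ofFinite (Pt F)
  set E := axesAt M P.rep
  let S : Finset (Fin 3 → F) := Finset.univ.filter fun φ => φ ∈ E ∧ φ ≠ 0
  let g : (Fin 3 → F) → Pt F := fun φ => if h : φ = 0 then P else Projectivization.mk F φ h
  let T : Finset (Pt F) := Finset.univ.filter fun L => Axis M L ∧ Inc P L
  have hmap : ∀ φ ∈ S, g φ ∈ T := fun φ hφ => by
    obtain ⟨hφE, hφ0⟩ := (Finset.mem_filter.1 hφ).2
    simp only [T, Finset.mem_filter, Finset.mem_univ, true_and, g, dif_neg hφ0]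
    have h := flag_of_hasTv P.rep_nonzero hφ0 hφE
    rw [P.mk_rep] at h
    exact ⟨⟨P, h⟩, h.inc⟩
  have hfib : ∀ L ∈ T, ((S.filter fun φ => g φ = L).card : ZMod p) = -1 := by
    intro L hL
    obtain ⟨hLA, hLP⟩ := (Finset.mem_filter.1 hL).2
    obtain ⟨c, hc, hcT⟩ := flag_of_inc hP hLA hLP
    rw [hasTv_smul_iff c hc] at hcT
    set A : AddSubgroup (Fin 3 → F) := E ⊓ (F ∙ L.rep).toAddSubgroup
    have hA : A ≠ ⊥ := fun e => by
      have : c • L.rep ∈ A := ⟨hcT, Submodule.smul_mem _ c (Submodule.mem_span_singleton_self _)⟩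
      rw [e, AddSubgroup.mem_bot, smul_eq_zero] at this
      exact this.elim hc L.rep_nonzero
    have e1 : (Finset.univ.filter fun φ => φ ∈ A) = insert 0 (S.filter fun φ => g φ = L) := by
      ext φ
      rcases eq_or_ne φ 0 with rfl | hφ0
      · simp [A.zero_mem]
      · simp only [S, g, Finset.mem_filter, Finset.mem_univ, true_and, Finset.mem_insert, dif_neg hφ0, hφ0,
          false_or, ne_eq, not_false_eq_true, and_true, ↓reduceDIte]
        constructor
        · rintro ⟨h1, h2⟩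
          obtain ⟨a, ha⟩ := Submodule.mem_span_singleton.1 h2
          refine ⟨h1, ?_⟩
          rw [← L.mk_rep, Projectivization.mk_eq_mk_iff']
          exact ⟨a, ha⟩
        · rintro ⟨h1, h2⟩
          obtain ⟨a, -, ha⟩ := exists_smul_of_mk hφ0 h2
          exact ⟨h1, ha ▸ Submodule.smul_mem _ a (Submodule.mem_span_singleton_self _)⟩
    have h3 := congrArg Finset.card e1
    rw [Finset.card_insert_of_notMem (by simp [S]), ← Fintype.card_subtype, ← Nat.card_eq_fintype_card] at h3
    have h5 := congrArg (fun x : ℕ => (x : ZMod p)) h3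
    push_cast at h5
    rw [(CharP.cast_eq_zero_iff (ZMod p) p _).2 (prime_dvd_card (p := p) hA)] at h5
    linear_combination -h5
  have h1 : (S.card : ZMod p) = -1 := by
    have e1 : (Finset.univ.filter fun φ => φ ∈ E) = insert 0 S := by
      ext φ
      rcases eq_or_ne φ 0 with rfl | hφ0
      · simp [E.zero_mem]
      · simp [S, hφ0]
    have hE : E ≠ ⊥ := fun e => by
      obtain ⟨L, c, hc, hcT⟩ := hP
      rw [hasTv_smul_iff c hc] at hcT
      have : c • L.rep ∈ E := hcT
      rw [e, AddSubgroup.mem_bot, smul_eq_zero] at this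
      exact this.elim hc L.rep_nonzero
    have h3 := congrArg Finset.card e1
    rw [Finset.card_insert_of_notMem (by simp [S]), ← Fintype.card_subtype, ← Nat.card_eq_fintype_card] at h3
    have h5 := congrArg (fun x : ℕ => (x : ZMod p)) h3
    push_cast at h5
    rw [(CharP.cast_eq_zero_iff (ZMod p) p _).2 (prime_dvd_card (p := p) hE)] at h5
    linear_combination -h5
  rw [Finset.card_eq_sum_card_fiberwise hmap, Nat.cast_sum, Finset.sum_congr rfl hfib, Finset.sum_const,
    nsmul_eq_mul, mul_neg_one, neg_inj] at h1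
  rw [← h1]
  congr 1
  simp [T, Nat.card_eq_fintype_card, Fintype.card_subtype]

/-- The number of centres on an axis is one modulo the characteristic. -/
theorem centres_on_modEq {L : Pt F} (hL : Axis M L) :
    ((Nat.card {P : Pt F | Centre M P ∧ Inc P L} : ℕ) : ZMod p) = 1 := by
  rw [show {P : Pt F | Centre M P ∧ Inc P L} = {P : Pt F | Axis (M.map dual) P ∧ Inc L P} from
    Set.ext fun P => by rw [Set.mem_ofPred_eq, Set.mem_ofPred_eq, centre_iff_axis_dual, inc_symm]]
  exact axes_through_modEq (axis_iff_centre_dual.1 hL)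

omit [Finite F] in
lemma tvec_pow {a φ : Fin 3 → F} (h : φ ⬝ᵥ a = 0) (k : ℕ) (x : Fin 3 → F) :
    ((tvec a φ h ^ k : GL (Fin 3) F) : Matrix (Fin 3) (Fin 3) F) *ᵥ x = x + ((k : F) * (φ ⬝ᵥ x)) • a := by
  induction k generalizing x with
  | zero => simp
  | succ k ih =>
    rw [pow_succ, mul_mulVec, ih, tvec_mulVec, dotProduct_add, dotProduct_smul, h, smul_zero, add_zero]
    push_cast
    module

omit [Fact p.Prime] in
/-- The number of centres is that on any axis, modulo the characteristic. -/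
theorem centres_modEq [hp : Fact p.Prime] {L : Pt F} (hL : Axis M L) :
    ((Nat.card {P : Pt F | Centre M P} : ℕ) : ZMod p) = 1 := by
  classical
  haveI := Fintype.ofFinite F
  haveI := Fintype.ofFinite (Pt F)
  rw [← centres_on_modEq (p := p) hL, ZMod.natCast_eq_natCast_iff]
  obtain ⟨S, c, hc, hcS, hm⟩ := hL
  set t := tvec (c • S.rep) L.rep hcS
  have htp : t ^ p = 1 := gl_ext_mulVec fun x => by
    rw [tvec_pow, CharP.cast_eq_zero, zero_mul, zero_smul, add_zero, Units.val_one, Matrix.one_mulVec]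
  let σ : Equiv.Perm {P : Pt F // Centre M P} :=
    (MulAction.toPerm t).subtypePerm (fun P => ⟨fun h => by
      have := h.move (M.inv_mem hm)
      rwa [MulAction.toPerm_apply, inv_smul_smul] at this, fun h => h.move hm⟩)
  have hσ : ∀ P : {P : Pt F // Centre M P}, ((σ P) : Pt F) = t • (P : Pt F) := fun P => rfl
  have hpow : σ ^ p ^ 1 = 1 := by
    rw [pow_one]
    refine Equiv.ext fun P => Subtype.ext ?_
    have : ∀ k : ℕ, (((σ ^ k) P) : Pt F) = t ^ k • (P : Pt F) := by
      intro k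
      induction k with
      | zero => simp
      | succ k ih => rw [pow_succ', Equiv.Perm.mul_apply, hσ, ih, pow_succ', mul_smul]
    rw [this, htp, one_smul]
    rfl
  have h1 := Equiv.Perm.card_fixedPoints_modEq (n := 1) (f := ⇑σ) (p := p)
    (funext fun P => by
      rw [pow_one]
      have := Equiv.Perm.ext_iff.1 (pow_one p ▸ hpow) P
      rwa [Equiv.Perm.coe_pow] at this)
  rw [Nat.card_eq_fintype_card, Nat.card_eq_fintype_card]
  refine h1.trans ((congrArg (· % p) ?_))
  refine Fintype.card_congr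
    { toFun := fun P => ⟨P.1.1, P.1.2, ?_⟩
      invFun := fun P => ⟨⟨P.1, P.2.1⟩, ?_⟩
      left_inv := fun P => rfl
      right_inv := fun P => rfl }
  · obtain ⟨⟨R, hR⟩, hfix⟩ := P
    have hfix' : t • R = R := congrArg Subtype.val hfix
    obtain ⟨k, hk⟩ := (smul_eq_self_iff t R).1 hfix'
    rw [tvec_mulVec] at hk
    show L.rep ⬝ᵥ R.rep = 0
    by_contra hne
    have e1 : (L.rep ⬝ᵥ R.rep) • (c • S.rep) = (k - 1) • R.rep := by linear_combination (norm := module) hk
    have e2 := congrArg (fun v => L.rep ⬝ᵥ v) e1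
    simp only [dotProduct_smul, smul_eq_mul] at e2
    rw [dotProduct_smul, smul_eq_mul] at hcS
    rw [hcS, mul_zero] at e2
    rw [(mul_eq_zero.1 e2.symm).resolve_right hne, zero_smul] at e1
    rcases smul_eq_zero.1 e1 with h | h
    · exact hne h
    · exact (smul_ne_zero hc S.rep_nonzero) h
  · apply Subtype.ext
    show t • P.1 = P.1
    refine (smul_eq_self_iff t P.1).2 ⟨1, ?_⟩
    rw [tvec_mulVec, show L.rep ⬝ᵥ P.1.rep = 0 from P.2.2, zero_smul, add_zero, one_smul]

end CfsgLib.Geo.SL3.Plane
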