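/-
One orbit of centres and one orbit of axes in characteristic two is impossible.
-/
import Cfsg.Agent.Geo.SLThree.Plane
import Mathlib.Algebra.Order.Chebyshev

set_option autoImplicit false

namespace CfsgLib.Geo.SL3.Plane

open Matrix Cfsg Cfsg.Geo CfsgLib.Geo

variable {F : Type*} [Field F] [Finite F] {M : Subgroup (GL (Fin 3) F)}

omit [Finite F] in
lemma add_self_eq_zero' [CharP F 2] {V : Type*} [AddCommGroup V] [Module F V] (v : V) : v + v = 0 := by
  rw [← two_smul F v, show (2 : F) = 0 from CharP.cast_eq_zero F 2, zero_smul]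

/-- The transvections with a given centre, as a group. -/
def rootAt (M : Subgroup (GL (Fin 3) F)) (v : Fin 3 → F) : Subgroup (GL (Fin 3) F) where
  carrier := {g | ∃ φ, ∃ h : φ ⬝ᵥ v = 0, g ∈ M ∧ g = tvec v φ h}
  one_mem' := ⟨0, zero_dotProduct v, M.one_mem, gl_ext_mulVec fun x => by simp [tvec_mulVec]⟩
  mul_mem' := by
    rintro _ _ ⟨φ, h, hm, rfl⟩ ⟨ψ, h', hm', rfl⟩
    refine ⟨φ + ψ, by rw [add_dotProduct, h, h', add_zero], M.mul_mem hm hm', gl_ext_mulVec fun x => ?_⟩
    simp only [mul_mulVec, tvec_mulVec, add_dotProduct, dotProduct_add, dotProduct_smul, h, smul_eq_mul,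
      mul_zero, add_zero, add_smul]
    abel
  inv_mem' := by
    rintro _ ⟨φ, h, hm, rfl⟩
    refine ⟨-φ, by rw [neg_dotProduct, h, neg_zero], M.inv_mem hm, Units.ext ?_⟩
    rw [tvec_val, vecMulVec_neg]
    exact sub_eq_add_neg _ _

omit [Finite F] in
lemma tvec_eq_one {v φ : Fin 3 → F} (hv : v ≠ 0) {h : φ ⬝ᵥ v = 0} : tvec v φ h = 1 ↔ φ = 0 := by
  constructor
  · intro e
    funext i
    have := congrArg (fun g : GL (Fin 3) F => (g : Matrix (Fin 3) (Fin 3) F) *ᵥ (Pi.single i 1 : Fin 3 → F)) e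
    simp only [tvec_mulVec, Units.val_one, Matrix.one_mulVec, add_eq_left, dotProduct_single_one,
      smul_eq_zero] at this
    exact this.resolve_right hv
  · rintro rfl
    exact gl_ext_mulVec fun x => by simp [tvec_mulVec]

set_option maxHeartbeats 1000000 in
/-- The impossible configuration. -/
theorem false_of_one_orbit [CharP F 2] {C : Subgroup (GL (Fin 3) F)} (hCM : C ≤ M) {N : ℕ}
    (hpt : ∀ P : Pt F, Nat.card (MulAction.orbit C P) = N)
    (hline : ∀ L : Pt F, Nat.card (MulAction.orbit (C.map dual) L) = N)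
    (hN : 3 * N = Nat.card F ^ 2 + Nat.card F + 1) (hq : 16 ≤ Nat.card F) (hq8 : 8 ∣ Nat.card F)
    {P₀ L₀ : Pt F} (hP₀ : Centre M P₀) (hL₀ : Axis M L₀)
    (hΩ : Nat.card {P : Pt F | Centre M P} = N) (hΛ : Nat.card {L : Pt F | Axis M L} = N) : False := by
  classical
  haveI := Fintype.ofFinite F
  haveI := Fintype.ofFinite (Pt F)
  haveI : Fact (Nat.Prime 2) := ⟨Nat.prime_two⟩
  set Ω : Finset (Pt F) := Finset.univ.filter fun P => Centre M P
  set Λ : Finset (Pt F) := Finset.univ.filter fun L => Axis M L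
  have hΩc : Ω.card = N := by rw [← hΩ]; simp [Ω, Nat.card_eq_fintype_card, Fintype.card_subtype]
  have hΛc : Λ.card = N := by rw [← hΛ]; simp [Λ, Nat.card_eq_fintype_card, Fintype.card_subtype]
  have hN2 : 2 ≤ N := by nlinarith
  -- transitivity
  have htr : ∀ P, Centre M P → ∃ c ∈ C, c • P₀ = P := by
    intro P hP
    have hsub : MulAction.orbit C P₀ ⊆ {P : Pt F | Centre M P} := by
      rintro _ ⟨c, rfl⟩; exact hP₀.move (hCM c.2)
    have := Set.eq_of_subset_of_ncard_le hsub (by rw [← Nat.card_coe_set_eq, ← Nat.card_coe_set_eq, hpt, hΩ])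
    have h2 : P ∈ MulAction.orbit C P₀ := by rw [this]; exact hP
    obtain ⟨c, rfl⟩ := h2
    exact ⟨c, c.2, rfl⟩
  have htr' : ∀ L, Axis M L → ∃ c ∈ C, dual c • L₀ = L := by
    intro L hL
    have hsub : MulAction.orbit (C.map dual) L₀ ⊆ {L : Pt F | Axis M L} := by
      rintro _ ⟨⟨_, c, hc, rfl⟩, rfl⟩; exact hL₀.move (hCM hc)
    have := Set.eq_of_subset_of_ncard_le hsub (by rw [← Nat.card_coe_set_eq, ← Nat.card_coe_set_eq, hline, hΛ])
    have h2 : L ∈ MulAction.orbit (C.map dual) L₀ := by rw [this]; exact hL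
    obtain ⟨⟨_, c, hc, rfl⟩, rfl⟩ := h2
    exact ⟨c, hc, rfl⟩
  let T : Pt F → Finset (Pt F) := fun P => Λ.filter fun L => Inc P L
  let X : Pt F → Finset (Pt F) := fun L => Ω.filter fun P => Inc P L
  have hTn : ∀ P ∈ Ω, (T P).card = (T P₀).card := by
    intro P hP
    obtain ⟨c, hc, rfl⟩ := htr P (Finset.mem_filter.1 hP).2
    symm
    refine Finset.card_nbij' (fun L => dual c • L) (fun L => (dual c)⁻¹ • L) ?_ ?_ (fun L _ => inv_smul_smul _ _)
      (fun L _ => smul_inv_smul _ _)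
    · intro L hL
      simp only [T, Λ, Finset.mem_filter, Finset.mem_univ, true_and, Finset.mem_coe] at hL ⊢
      exact ⟨hL.1.move (hCM hc), (inc_smul c P₀ L).2 hL.2⟩
    · intro L hL
      simp only [T, Λ, Finset.mem_filter, Finset.mem_univ, true_and, Finset.mem_coe] at hL ⊢
      rw [← map_inv]
      refine ⟨hL.1.move (M.inv_mem (hCM hc)), ?_⟩
      have := (inc_smul c⁻¹ (c • P₀) L).2 hL.2
      rwa [inv_smul_smul] at this
  have hXn : ∀ L ∈ Λ, (X L).card = (X L₀).card := by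
    intro L hL
    obtain ⟨c, hc, rfl⟩ := htr' L (Finset.mem_filter.1 hL).2
    symm
    refine Finset.card_nbij' (fun P => c • P) (fun P => c⁻¹ • P) ?_ ?_ (fun L _ => inv_smul_smul _ _)
      (fun L _ => smul_inv_smul _ _)
    · intro P hP
      simp only [X, Ω, Finset.mem_filter, Finset.mem_univ, true_and, Finset.mem_coe] at hP ⊢
      exact ⟨hP.1.move (hCM hc), (inc_smul c P L₀).2 hP.2⟩
    · intro P hP
      simp only [X, Ω, Finset.mem_filter, Finset.mem_univ, true_and, Finset.mem_coe] at hP ⊢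
      refine ⟨hP.1.move (M.inv_mem (hCM hc)), ?_⟩
      have := (inc_smul c⁻¹ P (dual c • L₀)).2 hP.2
      rwa [map_inv, inv_smul_smul] at this
  set n := (T P₀).card
  have hXL : ∀ L ∈ Λ, (X L).card = n := by
    intro L hL
    rw [hXn L hL]
    have h := Finset.sum_card_bipartiteAbove_eq_sum_card_bipartiteBelow (s := Ω) (t := Λ) (fun P L => Inc P L)
    rw [Finset.sum_congr rfl (fun P hP => show (Λ.bipartiteAbove (fun P L => Inc P L) P).card = _ from hTn P hP),
      Finset.sum_congr rfl (fun L hL => show (Ω.bipartiteBelow (fun P L => Inc P L) L).card = _ from hXn L hL),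
      Finset.sum_const, Finset.sum_const, hΩc, hΛc, smul_eq_mul, smul_eq_mul] at h
    exact (Nat.eq_of_mul_eq_mul_left (by omega) h).symm
  have hnodd : (n : ZMod 2) = 1 := by
    rw [← axes_through_modEq (M := M) (p := 2) hP₀]
    congr 1
    simp [n, T, Λ, Nat.card_eq_fintype_card, Fintype.card_subtype, Finset.filter_filter]
  have hlines : ∀ P : Pt F, (Finset.univ.filter fun L => Inc P L).card = Nat.card F + 1 := fun P => by
    rw [← card_inc P, Nat.card_eq_fintype_card (α := {x : Pt F | Inc x P}), ← Fintype.card_coe]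
    exact Fintype.card_congr (Equiv.subtypeEquivRight fun x => by simp [inc_symm])
  rcases Nat.lt_or_ge n 2 with hn | hn
  · have hn1 : n = 1 := by
      rcases Nat.eq_zero_or_pos n with e | e
      · rw [e] at hnodd; simp at hnodd
      · omega
    have hs1 : ∑ L, (X L).card = N * (Nat.card F + 1) := by
      have h := Finset.sum_card_bipartiteAbove_eq_sum_card_bipartiteBelow (s := Ω) (t := (Finset.univ : Finset (Pt F)))
        (fun P L => Inc P L)
      have h' : ∀ P ∈ Ω, ((Finset.univ : Finset (Pt F)).bipartiteAbove (fun P L => Inc P L) P).card =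
          Nat.card F + 1 := fun P _ => hlines P
      rw [Finset.sum_congr rfl h', Finset.sum_const, smul_eq_mul, hΩc] at h
      exact h.symm
    have hs2 : ∑ L, (X L).card ^ 2 = N * (Nat.card F + N) := by
      have h := Finset.sum_card_bipartiteAbove_eq_sum_card_bipartiteBelow (s := Ω ×ˢ Ω)
        (t := (Finset.univ : Finset (Pt F))) (fun PQ L => Inc PQ.1 L ∧ Inc PQ.2 L)
      have h' : ∀ L ∈ (Finset.univ : Finset (Pt F)),
          ((Ω ×ˢ Ω).bipartiteBelow (fun PQ L => Inc PQ.1 L ∧ Inc PQ.2 L) L).card = (X L).card ^ 2 := fun L _ => by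
        rw [sq, ← Finset.card_product]
        refine congrArg Finset.card (Finset.ext fun ⟨a, b⟩ => ?_)
        simp only [X, Finset.bipartiteBelow, Finset.mem_filter, Finset.mem_product]
        tauto
      rw [Finset.sum_congr rfl h', Finset.sum_product] at h
      rw [← h]
      have h'' : ∀ P ∈ Ω, ∑ Q ∈ Ω, ((Finset.univ : Finset (Pt F)).bipartiteAbove
          (fun PQ L => Inc PQ.1 L ∧ Inc PQ.2 L) (P, Q)).card = Nat.card F + N := by
        intro P hP
        rw [← Finset.add_sum_erase _ _ hP]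
        simp only [Finset.bipartiteAbove, and_self]
        rw [hlines P, Finset.sum_congr rfl (g := fun _ => 1) (fun Q hQ => ?_), Finset.sum_const, smul_eq_mul,
          mul_one, Finset.card_erase_of_mem hP, hΩc]
        · omega
        · obtain ⟨L, h1, h2⟩ := exists_inc_both P Q
          refine Finset.card_eq_one.2 ⟨L, Finset.ext fun L' => ?_⟩
          simp only [Finset.mem_filter, Finset.mem_univ, true_and, Finset.mem_singleton]
          refine ⟨fun h => eq_of_inc' (Finset.ne_of_mem_erase hQ).symm h.1 h.2 (inc_symm.1 h1) (inc_symm.1 h2), ?_⟩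
          rintro rfl
          exact ⟨inc_symm.1 h1, inc_symm.1 h2⟩
      rw [Finset.sum_congr rfl h'', Finset.sum_const, smul_eq_mul, hΩc]
    have hcomp : (Finset.univ \ Λ).card = 2 * N := by
      rw [Finset.card_sdiff_of_subset (Finset.subset_univ _), Finset.card_univ, ← Nat.card_eq_fintype_card,
        card_points, hΛc]
      omega
    have hA1 : ∑ L ∈ Λ, (X L).card = N := by
      rw [Finset.sum_congr rfl (g := fun _ => 1) (fun L hL => (hXL L hL).trans hn1), Finset.sum_const, hΛc,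
        smul_eq_mul, mul_one]
    have hA2 : ∑ L ∈ Λ, (X L).card ^ 2 = N := by
      rw [Finset.sum_congr rfl (g := fun _ => 1) (fun L hL => by rw [hXL L hL, hn1, one_pow]), Finset.sum_const,
        hΛc, smul_eq_mul, mul_one]
    have hB1 := Finset.sum_sdiff (f := fun L => (X L).card) (Finset.subset_univ Λ)
    have hB2 := Finset.sum_sdiff (f := fun L => (X L).card ^ 2) (Finset.subset_univ Λ)
    simp only [hA1, hs1] at hB1
    simp only [hA2, hs2] at hB2
    have hcs := sq_sum_le_card_mul_sum_sq (s := Finset.univ \ Λ) (f := fun L => (X L).card)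
    rw [hcomp] at hcs
    set q := Nat.card F
    set a := ∑ L ∈ Finset.univ \ Λ, (X L).card
    set b := ∑ L ∈ Finset.univ \ Λ, (X L).card ^ 2
    have ha : a = N * q := by rw [mul_add, mul_one] at hB1; omega
    rw [ha] at hcs
    have h3 : N * (N * (q * q)) ≤ N * (2 * b) := by nlinarith only [hcs]
    have h4 := Nat.le_of_mul_le_mul_left h3 (by omega)
    have h5 : N * (q * q) ≤ N * (2 * (q + N)) := by nlinarith only [h4, hB2]
    have h6 := Nat.le_of_mul_le_mul_left h5 (by omega)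
    nlinarith only [h6, hN, hq]
  -- two axes at a centre
  set P := P₀
  set E := rootAt M P.rep
  have hEfix : ∀ g ∈ E, g • P = P := by
    rintro _ ⟨φ, h, -, rfl⟩
    exact (smul_eq_self_iff _ _).2 ⟨1, by rw [tvec_mulVec, h, zero_smul, add_zero, one_smul]⟩
  have hEM : E ≤ M := by rintro _ ⟨φ, h, hm, rfl⟩; exact hm
  have hflag : ∀ φ, φ ≠ 0 → HasTv M P.rep φ → ∃ hφ : φ ≠ 0, Projectivization.mk F φ hφ ∈ T P := by
    intro φ hφ h
    refine ⟨hφ, ?_⟩
    have h' := flag_of_hasTv P.rep_nonzero hφ h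
    rw [P.mk_rep] at h'
    simp only [T, Λ, Finset.mem_filter, Finset.mem_univ, true_and]
    exact ⟨⟨P, h'⟩, h'.inc⟩
  let star : Finset (Pt F) := Ω.filter fun R => ∃ L ∈ T P, Inc R L
  have hmove : ∀ g ∈ M, g • P = P → ∀ R, R ∈ Ω \ star → g • R ∈ Ω \ star := by
    intro g hg hgP R hR
    simp only [star, Ω, T, Λ, Finset.mem_sdiff, Finset.mem_filter, Finset.mem_univ, true_and] at hR ⊢
    refine ⟨hR.1.move hg, fun ⟨_, L, ⟨hL, hPL⟩, hRL⟩ => hR.2 ⟨hR.1, dual g⁻¹ • L, ⟨hL.move (M.inv_mem hg), ?_⟩, ?_⟩⟩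
    · have := (inc_smul g⁻¹ P L).2 hPL
      rwa [inv_smul_eq_iff.2 hgP.symm] at this
    · have := (inc_smul g⁻¹ (g • R) L).2 hRL
      rwa [inv_smul_smul] at this
  have hlin : Nat.card E ∣ ((Finset.univ.filter fun L => Axis M L ∧ ¬ Inc P L).card) := by
    rw [← Fintype.card_subtype, ← Nat.card_eq_fintype_card]
    have hc : Nat.card (E.map dual) = Nat.card E :=
      (Nat.card_congr (E.equivMapOfInjective dual dual_injective).toEquiv).symm
    rw [← hc]
    refine card_dvd_of_free (E.map dual) {L : Pt F | Axis M L ∧ ¬ Inc P L} ?_ ?_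
    · rintro _ ⟨g, hg, rfl⟩ L hL
      refine ⟨hL.1.move (hEM hg), fun h => hL.2 ?_⟩
      rw [← hEfix g hg] at h
      exact (inc_smul g P L).1 h
    · rintro _ ⟨g, hg, rfl⟩ L hL hfix
      obtain ⟨φ, hd, hm, rfl⟩ := hg
      rw [map_eq_one_iff dual dual_injective, tvec_eq_one P.rep_nonzero]
      obtain ⟨k, hk⟩ := (smul_eq_self_iff _ L).1 hfix
      rw [dual_tvec, tvec_mulVec, neg_dotProduct, dotProduct_comm] at hk
      have hLP : L.rep ⬝ᵥ P.rep ≠ 0 := hL.2
      have e := congrArg (fun y => y ⬝ᵥ P.rep) hk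
      simp only [add_dotProduct, smul_dotProduct, hd, smul_eq_mul, mul_zero, add_zero] at e
      have hk1 : k = 1 := mul_right_cancel₀ hLP (e.symm.trans (one_mul _).symm)
      rw [hk1, one_smul, add_eq_left, smul_eq_zero, neg_eq_zero] at hk
      exact hk.resolve_left hLP
  have hoff : ∀ g ∈ E, ∀ R ∈ Ω \ star, g • R = R → g = 1 := by
    intro g hg R hR hfix
    obtain ⟨φ, hd, hm, rfl⟩ := hg
    rw [tvec_eq_one P.rep_nonzero]
    by_contra hφ
    obtain ⟨hφ', hT⟩ := hflag φ hφ ⟨hd, hm⟩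
    obtain ⟨hRΩ, hRs⟩ := Finset.mem_sdiff.1 hR
    have hne : φ ⬝ᵥ R.rep ≠ 0 := fun h => hRs (Finset.mem_filter.2 ⟨hRΩ, _, hT, by
      rw [← R.mk_rep, inc_mk]; exact h⟩)
    obtain ⟨k, hk⟩ := (smul_eq_self_iff _ R).1 hfix
    rw [tvec_mulVec] at hk
    have e := congrArg (fun y => φ ⬝ᵥ y) hk
    simp only [dotProduct_add, dotProduct_smul, hd, smul_eq_mul, mul_zero, add_zero] at e
    have hk1 : k = 1 := mul_right_cancel₀ hne (e.symm.trans (one_mul _).symm)
    rw [hk1, one_smul, add_eq_left, smul_eq_zero] at hk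
    exact hk.elim hne P.rep_nonzero
  have hdiv : ∀ U : Subgroup (GL (Fin 3) F), U ≤ M → (∀ g ∈ U, g • P = P) →
      (∀ g ∈ U, ∀ R ∈ Ω \ star, g • R = R → g = 1) → Nat.card U ∣ (Ω \ star).card := by
    intro U hUM hUP hfree
    have h := card_dvd_of_free U {R : Pt F | R ∈ Ω \ star} (fun g hg R hR => hmove g (hUM hg) (hUP g hg) R hR) hfree
    rwa [show {R : Pt F | R ∈ Ω \ star} = ((Ω \ star : Finset (Pt F)) : Set (Pt F)) from rfl, Nat.card_coe_set_eq,
      Set.ncard_coe_finset] at h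
  have hpts := hdiv E hEM hEfix hoff
  -- sizes
  have hPΩ : P ∈ Ω := Finset.mem_filter.2 ⟨Finset.mem_univ _, hP₀⟩
  have hstar : star.card = n * (n - 1) + 1 := by
    have h1 : star = insert P ((T P).biUnion fun L => (X L).erase P) := by
      ext R
      simp only [star, X, Finset.mem_filter, Finset.mem_insert, Finset.mem_biUnion, Finset.mem_erase]
      constructor
      · rintro ⟨hR, L, hL, hRL⟩
        by_cases e : R = P
        exacts [Or.inl e, Or.inr ⟨L, hL, e, hR, hRL⟩]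
      · rintro (rfl | ⟨L, hL, -, hR, hRL⟩)
        · obtain ⟨L, hL⟩ := Finset.card_pos.1 (show 0 < (T P).card by change 0 < n; omega)
          exact ⟨hPΩ, L, hL, (Finset.mem_filter.1 hL).2⟩
        · exact ⟨hR, L, hL, hRL⟩
    rw [h1, Finset.card_insert_of_notMem (by simp), Finset.card_biUnion]
    · rw [Finset.sum_congr rfl (g := fun _ => n - 1) (fun L hL => ?_), Finset.sum_const, smul_eq_mul]
      obtain ⟨hL1, hL2⟩ := Finset.mem_filter.1 hL
      rw [Finset.card_erase_of_mem (Finset.mem_filter.2 ⟨hPΩ, hL2⟩), hXL L hL1]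
    · intro L hL L' hL' hne
      rw [Function.onFun, Finset.disjoint_left]
      intro R hR hR'
      simp only [X, Finset.mem_erase, Finset.mem_filter] at hR hR'
      exact hR.1 (eq_of_inc hne hR.2.2 hR'.2.2 (Finset.mem_filter.1 hL).2 (Finset.mem_filter.1 hL').2)
  have hsum1 : (Ω \ star).card + (n * (n - 1) + 1) = N := by
    rw [← hstar, Finset.card_sdiff_add_card_eq_card (Finset.filter_subset _ _), hΩc]
  have hsum2 : (Finset.univ.filter fun L => Axis M L ∧ ¬ Inc P L).card + n = N := by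
    rw [← hΛc, ← Finset.card_filter_add_card_filter_not (s := Λ) (fun L => Inc P L), add_comm]
    congr 1
    simp [Λ, Finset.filter_filter]
  have hbig : n + 1 ≤ Nat.card E := by
    have hc : ∀ L ∈ T P, ∃ c : F, c ≠ 0 ∧ ∃ h : (c • L.rep) ⬝ᵥ P.rep = 0, tvec P.rep (c • L.rep) h ∈ M := by
      intro L hL
      obtain ⟨hLΛ, hLP⟩ := Finset.mem_filter.1 hL
      obtain ⟨c, hc, h⟩ := flag_of_inc hP₀ (Finset.mem_filter.1 hLΛ).2 hLP
      rw [hasTv_smul_iff c hc] at h
      exact ⟨c, hc, h⟩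
    choose c hc0 hd hm using hc
    let i : Option {L // L ∈ T P} → E := fun o => o.elim 1 fun L =>
      ⟨tvec P.rep (c L.1 L.2 • L.1.rep) (hd L.1 L.2), _, hd L.1 L.2, hm L.1 L.2, rfl⟩
    have hi : Function.Injective i := by
      intro o o' h
      rcases o with _ | L <;> rcases o' with _ | L'
      · rfl
      · have := (tvec_eq_one (h := hd L'.1 L'.2) P.rep_nonzero).1 (congrArg Subtype.val h).symm
        exact absurd this (smul_ne_zero (hc0 _ L'.2) L'.1.rep_nonzero)
      · have := (tvec_eq_one (h := hd L.1 L.2) P.rep_nonzero).1 (congrArg Subtype.val h)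
        exact absurd this (smul_ne_zero (hc0 _ L.2) L.1.rep_nonzero)
      · obtain ⟨j, hj⟩ := Function.ne_iff.1 P.rep_nonzero
        have he : c L.1 L.2 • L.1.rep = c L'.1 L'.2 • L'.1.rep := funext fun l => by
          have := congrArg (fun g : GL (Fin 3) F => (g : Matrix (Fin 3) (Fin 3) F) j l) (congrArg Subtype.val h)
          simp only [i, Option.elim, tvec_val, Matrix.add_apply, Matrix.vecMulVec_apply, add_right_inj] at this
          exact mul_left_cancel₀ hj this
        refine congrArg some (Subtype.ext ?_)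
        rw [← L.1.mk_rep, ← L'.1.mk_rep, Projectivization.mk_eq_mk_iff']
        exact ⟨(c L.1 L.2)⁻¹ * c L'.1 L'.2, by rw [← smul_smul, ← he, inv_smul_smul₀ (hc0 _ L.2)]⟩
    have := Nat.card_le_card_of_injective i hi
    simpa [Nat.card_eq_fintype_card] using this
  obtain ⟨k, hk⟩ : ∃ k, Nat.card E = 2 ^ k := by
    refine IsPGroup.exists_card_eq (p := 2) fun g => ⟨1, Subtype.ext ?_⟩
    obtain ⟨φ, hd, -, hg⟩ := g.2
    rw [pow_one, SubmonoidClass.coe_pow, hg, OneMemClass.coe_one]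
    exact gl_ext_mulVec fun x => by
      rw [tvec_pow, CharP.cast_eq_zero, zero_mul, zero_smul, add_zero, Units.val_one, Matrix.one_mulVec]
  have hN8 : (3 : ZMod 8) * N = 1 := by
    have h := congrArg (fun x : ℕ => (x : ZMod 8)) hN
    push_cast at h
    rw [show ((Nat.card F : ℕ) : ZMod 8) = 0 from (CharP.cast_eq_zero_iff (ZMod 8) 8 _).2 hq8] at h
    simpa using h
  have hnn : ((n * (n - 1) + 1 : ℕ) : ZMod 8) = (n : ZMod 8) * n - n + 1 := by
    rw [Nat.mul_sub_one, Nat.cast_add, Nat.cast_sub (Nat.le_mul_self n), Nat.cast_mul, Nat.cast_one]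
  rcases Nat.lt_or_ge k 3 with hk3 | hk3
  swap
  · have h8 : 8 ∣ Nat.card E := hk ▸ (show 2 ^ 3 ∣ 2 ^ k from pow_dvd_pow 2 hk3)
    have e1 := congrArg (fun x : ℕ => (x : ZMod 8)) hsum1
    have e2 := congrArg (fun x : ℕ => (x : ZMod 8)) hsum2
    simp only [Nat.cast_add, CharP.cast_eq_zero_iff (ZMod 8) 8 _ |>.2 (h8.trans hlin), zero_add] at e2
    rw [Nat.cast_add, (CharP.cast_eq_zero_iff (ZMod 8) 8 _).2 (h8.trans hpts), zero_add, hnn] at e1
    revert e1 e2 hN8
    generalize (n : ZMod 8) = a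
    generalize (N : ZMod 8) = b
    revert a b
    decide
  -- three axes at each centre
  have hn3 : n = 3 ∧ Nat.card E = 4 := by
    rw [ZMod.natCast_eq_one_iff_odd, Nat.odd_iff] at hnodd
    interval_cases k <;> simp_all <;> omega
  obtain ⟨L₁, hL₁⟩ := Finset.card_pos.1 (show 0 < (T P).card by change 0 < n; omega)
  obtain ⟨hL₁Λ, hPL₁⟩ := Finset.mem_filter.1 hL₁
  obtain ⟨Q, hQ, hQP⟩ := Finset.exists_mem_ne (s := X L₁) (by rw [hXL L₁ hL₁Λ]; omega) P
  obtain ⟨hQΩ, hQL⟩ := Finset.mem_filter.1 hQ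
  obtain ⟨c, hc, hv, hvM⟩ := flag_of_inc (Finset.mem_filter.1 hQΩ).2 (Finset.mem_filter.1 hL₁Λ).2 hQL
  set v := tvec (c • Q.rep) L₁.rep hv
  have hvP : (v : Matrix (Fin 3) (Fin 3) F) *ᵥ P.rep = P.rep := by
    rw [tvec_mulVec, show L₁.rep ⬝ᵥ P.rep = 0 from hPL₁, zero_smul, add_zero]
  have hvv : v * v = 1 := gl_ext_mulVec fun x => by
    rw [mul_mulVec, tvec_mulVec, tvec_mulVec, dotProduct_add, dotProduct_smul, hv, smul_zero, add_zero,
      add_assoc, add_self_eq_zero' (F := F), add_zero, Units.val_one, Matrix.one_mulVec]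
  have hvinv : v⁻¹ = v := inv_eq_of_mul_eq_one_right hvv
  have hvE : v ∉ E := by
    rintro ⟨φ, hd, -, e⟩
    apply hQP
    obtain ⟨i, hi⟩ := Function.ne_iff.1 L₁.rep_nonzero
    have := congrArg (fun g : GL (Fin 3) F => (g : Matrix (Fin 3) (Fin 3) F) *ᵥ (Pi.single i 1 : Fin 3 → F)) e
    simp only [v, tvec_mulVec, dotProduct_single_one, add_right_inj, smul_smul] at this
    rw [← Q.mk_rep, ← P.mk_rep, Projectivization.mk_eq_mk_iff']
    exact ⟨(L₁.rep i * c)⁻¹ * φ i, by
      rw [← smul_smul, ← this, inv_smul_smul₀ (mul_ne_zero hi hc)]⟩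
  have hconj : ∀ g ∈ E, v * g * v ∈ E := by
    rintro _ ⟨φ, hd, hm, rfl⟩
    have h : v * tvec P.rep φ hd * v = v * tvec P.rep φ hd * v⁻¹ := by rw [hvinv]
    rw [h]
    refine ⟨φ ᵥ* ((v⁻¹ : GL (Fin 3) F) : Matrix (Fin 3) (Fin 3) F), ?_, M.mul_mem (M.mul_mem hvM hm) (M.inv_mem hvM),
      ?_⟩
    · have := vecMul_dotProduct_mulVec φ v P.rep
      rwa [hvP, hd] at this
    · rw [tvec_conj]
      exact gl_ext_mulVec fun x => by simp [tvec_mulVec, hvP]
  let U : Subgroup (GL (Fin 3) F) :=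
    { carrier := {x | ∃ e ∈ E, x = e ∨ x = e * v}
      one_mem' := ⟨1, E.one_mem, Or.inl rfl⟩
      mul_mem' := by
        rintro x y ⟨e, he, hx⟩ ⟨e', he', hy⟩
        rcases hx with rfl | rfl <;> rcases hy with rfl | rfl
        · exact ⟨x * y, E.mul_mem he he', Or.inl rfl⟩
        · exact ⟨x * e', E.mul_mem he he', Or.inr (mul_assoc _ _ _).symm⟩
        · refine ⟨e * (v * y * v), E.mul_mem he (hconj _ he'), Or.inr ?_⟩
          rw [mul_assoc e (v * y * v) v, mul_assoc (v * y) v v, hvv, mul_one, mul_assoc]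
        · exact ⟨e * (v * e' * v), E.mul_mem he (hconj _ he'), Or.inl (by group)⟩
      inv_mem' := by
        rintro x ⟨e, he, rfl | rfl⟩
        · exact ⟨x⁻¹, E.inv_mem he, Or.inl rfl⟩
        · refine ⟨v * e⁻¹ * v, hconj _ (E.inv_mem he), Or.inr ?_⟩
          rw [mul_assoc (v * e⁻¹), hvv, mul_one, _root_.mul_inv_rev, hvinv] }
  have hUcard : Nat.card U = 8 := by
    have hbij : Function.Bijective (fun eb : E × Bool =>
        (⟨if eb.2 then (eb.1 : GL (Fin 3) F) * v else eb.1, eb.1, eb.1.2, by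
          cases eb.2 <;> simp⟩ : U)) := by
      constructor
      · rintro ⟨e, b⟩ ⟨e', b'⟩ h
        have h' := congrArg Subtype.val h
        cases b <;> cases b' <;> simp at h'
        · exact Prod.ext h' rfl
        · exact absurd (show v ∈ E by rw [show v = (e' : GL (Fin 3) F)⁻¹ * e by rw [h']; group]
                                      exact E.mul_mem (E.inv_mem e'.2) e.2) hvE
        · exact absurd (show v ∈ E by rw [show v = (e : GL (Fin 3) F)⁻¹ * e' by rw [← h']; group]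
                                      exact E.mul_mem (E.inv_mem e.2) e'.2) hvE
        · exact Prod.ext h' rfl
      · rintro ⟨x, e, he, rfl | rfl⟩
        · exact ⟨(⟨x, he⟩, false), rfl⟩
        · exact ⟨(⟨e, he⟩, true), rfl⟩
    rw [← Nat.card_eq_of_bijective _ hbij, Nat.card_prod, hn3.2]
    simp
  have h8 := hdiv U (by
      rintro x ⟨e, he, rfl | rfl⟩
      exacts [hEM he, M.mul_mem (hEM he) hvM]) (by
      rintro x ⟨e, he, rfl | rfl⟩
      · exact hEfix _ he
      · rw [mul_smul, (smul_eq_self_iff v P).2 ⟨1, by rw [hvP, one_smul]⟩, hEfix e he]) (by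
      rintro x ⟨e, he, rfl | rfl⟩ R hR hfix
      · exact hoff _ he R hR hfix
      exfalso
      obtain ⟨hRΩ, hRs⟩ := Finset.mem_sdiff.1 hR
      obtain ⟨φ, hd, hm, rfl⟩ := he
      have hLR : L₁.rep ⬝ᵥ R.rep ≠ 0 := fun h => hRs (Finset.mem_filter.2 ⟨hRΩ, _, hL₁, h⟩)
      obtain ⟨l, hl⟩ := (smul_eq_self_iff _ R).1 hfix
      rw [mul_mulVec, tvec_mulVec, tvec_mulVec] at hl
      have e1 := congrArg (fun y => L₁.rep ⬝ᵥ y) hl
      have hLP : L₁.rep ⬝ᵥ P.rep = 0 := hPL₁
      have hLQ : L₁.rep ⬝ᵥ Q.rep = 0 := hQL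
      simp only [dotProduct_add, dotProduct_smul, hLQ, hLP, smul_eq_mul, mul_zero, add_zero] at e1
      have hl1 : l = 1 := mul_right_cancel₀ hLR (e1.symm.trans (one_mul _).symm)
      rw [hl1, one_smul, add_assoc, add_eq_left] at hl
      apply hQP
      rw [← Q.mk_rep, ← P.mk_rep, Projectivization.mk_eq_mk_iff']
      refine ⟨-(φ ⬝ᵥ (R.rep + (L₁.rep ⬝ᵥ R.rep) • c • Q.rep)) / ((L₁.rep ⬝ᵥ R.rep) * c), ?_⟩
      rw [div_eq_inv_mul, ← smul_smul, inv_smul_eq_iff₀ (mul_ne_zero hLR hc), neg_smul, ← smul_smul]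
      exact neg_eq_of_add_eq_zero_left hl)
  rw [hUcard] at h8
  have e1 := congrArg (fun x : ℕ => (x : ZMod 8)) hsum1
  rw [Nat.cast_add, (CharP.cast_eq_zero_iff (ZMod 8) 8 _).2 h8, zero_add, hnn, hn3.1] at e1
  revert e1 hN8
  generalize (N : ZMod 8) = b
  revert b
  decide

end CfsgLib.Geo.SL3.Plane
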