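/-
Overgroups of the unitary similarity group in dimension three.
-/
import Cfsg.Agent.Geo.UnitaryOvergroup

set_option autoImplicit false

namespace CfsgLib.Geo.SL3.Unitary

open Matrix Cfsg Cfsg.Geo CfsgLib.Geo CfsgLib.Geo.Unit

variable {ι : Type} [Fintype ι] [DecidableEq ι] {F : Type*} [Field F]
  {σ : F ≃+* F} {f : (ι → F) → (ι → F) → F} (hf : IsUnitaryForm σ f)
include hf

/-- The Eichler transformation of an isotropic vector. -/
lemma exists_eichler {v x : ι → F} (hv : f v v = 0) (hxv : f x v = 0) {s : F} (hs : s + σ s + f x x = 0) :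
    ∃ A : GL ι F, (∀ u w, f ((A : Matrix ι ι F) *ᵥ u) ((A : Matrix ι ι F) *ᵥ w) = f u w) ∧
      (A : Matrix ι ι F).det = 1 ∧
      ∀ y, (A : Matrix ι ι F) *ᵥ y = y + f y v • x + (s * f y v - f y x) • v := by
  have L := linLeft hf
  have hvx : f v x = 0 := by rw [hf.herm, hxv, map_zero]
  have h1 : axisOf f v ⬝ᵥ x = 0 := by rw [L.dot, hxv]
  have h2 : (s • axisOf f v - axisOf f x) ⬝ᵥ v = 0 := by
    rw [sub_dotProduct, smul_dotProduct, L.dot, L.dot, hv, hvx, smul_zero, sub_zero]
  have hA : ∀ y, ((tvec x _ h1 * tvec v _ h2 : GL ι F) : Matrix ι ι F) *ᵥ y =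
      y + f y v • x + (s * f y v - f y x) • v := fun y => by
    simp only [mul_mulVec, tvec_mulVec, sub_dotProduct, smul_dotProduct, L.dot, hf.add_left, hf.smul_left,
      hv, smul_eq_mul, mul_zero, add_zero]
    module
  refine ⟨_, fun u w => ?_, ?_, hA⟩
  · rw [hA, hA]
    simp only [hf.add_left, add_right hf, hf.smul_left, smul_right hf, hv, hxv, hvx, map_sub, map_mul,
      ← hf.herm]
    linear_combination (f u v * f v w) * hs
  · exact mem_specialLinear.1
      ((specialLinear ι F).mul_mem (tvec_mem_specialLinear _ _ _) (tvec_mem_specialLinear _ _ _))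

variable [Finite F]

/-- An isotropic pair orthogonal to an anisotropic vector. -/
lemma exists_pair_perp {a : ι → F} (ha : f a a ≠ 0) (h3 : 3 ≤ Fintype.card ι) :
    ∃ z x, f z z = 0 ∧ f z x ≠ 0 ∧ f z a = 0 ∧ f x a = 0 := by
  obtain ⟨x, hx0, hx⟩ := exists_anisotropic_perp hf ![a] (by omega)
  have hxa : f x a = 0 := hx 0
  have hax : f a x = 0 := by rw [hf.herm, hxa, map_zero]
  obtain ⟨y, hy0, hya, hyx⟩ : ∃ y, f y y ≠ 0 ∧ f y a = 0 ∧ f y x = 0 := by
    by_contra hcon
    push Not at hcon
    let R : (ι → F) →ₗ[F] (Fin 2 → F) := LinearMap.pi fun j => (linLeft hf).toLin (![a, x] j)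
    have h1 := R.finrank_range_add_finrank_ker
    have h2 : Module.finrank F (LinearMap.range R) ≤ 2 := by
      simpa using Submodule.finrank_le (LinearMap.range R)
    rw [Module.finrank_fintype_fun_eq_card] at h1
    have hperp : ∀ t ∈ LinearMap.ker R, f t a = 0 ∧ f t x = 0 := fun t ht =>
      ⟨congrFun (LinearMap.mem_ker.1 ht) 0, congrFun (LinearMap.mem_ker.1 ht) 1⟩
    have hiso : ∀ t ∈ LinearMap.ker R, f t t = 0 := fun t ht =>
      by_contra fun h0 => hcon t h0 (hperp t ht).1 (hperp t ht).2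
    obtain ⟨t, ht, ht0⟩ := Submodule.exists_mem_ne_zero_of_ne_bot (p := LinearMap.ker R) fun e => by
      rw [e, finrank_bot] at h1; omega
    obtain ⟨v, hv⟩ := (hf.nondegenerate t ht0).1
    refine hv ?_
    have hm : v + (-(f v a / f a a)) • a + (-(f v x / f x x)) • x ∈ LinearMap.ker R := by
      rw [LinearMap.mem_ker]
      funext j
      fin_cases j
      · change f _ a = 0
        simp only [hf.add_left, hf.smul_left, hxa, mul_zero, add_zero, neg_mul, div_mul_cancel₀ _ ha,
          add_neg_cancel]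
      · change f _ x = 0
        simp only [hf.add_left, hf.smul_left, hax, mul_zero, add_zero, neg_mul, div_mul_cancel₀ _ hx0,
          add_neg_cancel]
    have h4 := eq_zero_of_totally_isotropic hf hiso _ hm t ht
    simp only [hf.add_left, hf.smul_left, hf.herm a t, hf.herm x t, (hperp t ht).1, (hperp t ht).2, map_zero,
      mul_zero, add_zero] at h4
    first
      | exact h4
      | rw [hf.herm, h4, map_zero]
  obtain ⟨c, hc⟩ := exists_norm_eq hf.ne_refl hf.involutive (t := -f x x / f y y)
    (by rw [map_div₀, map_neg, sigma_self hf, sigma_self hf])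
  refine ⟨x + c • y, x, ?_, ?_, ?_, hxa⟩
  · simp only [hf.add_left, add_right hf, hf.smul_left, smul_right hf, hyx, hf.herm x y, map_zero]
    field_simp at hc
    linear_combination hc
  · simpa [hf.add_left, hf.smul_left, hyx] using hx0
  · simp [hf.add_left, hf.smul_left, hxa, hya]

variable {M : Subgroup (GL ι F)} (hM : similarityGroup f ⊓ specialLinear ι F ≤ M) (h3 : Fintype.card ι = 3)
include hM h3

/-- Isotropic centre: all multiples of the centre as axes. -/
lemma line_at {a u : ι → F} (ha : f a a = 0) (hau : f a u = 0) (huu : f u u ≠ 0)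
    (hu : HasTv M a (axisOf f u)) (d : F) : HasTv M a (axisOf f (d • a)) := by
  have hua : f u a = 0 := by rw [hf.herm, hau, map_zero]
  obtain ⟨l, hl⟩ : ∃ l : F, σ l = -d / f u u := σ.surjective _
  obtain ⟨s, hs⟩ := exists_trace_eq hf.ne_refl hf.involutive (t := -f (l • u) (l • u))
    (by rw [map_neg, sigma_self hf])
  obtain ⟨A, hAi, hAd, hA⟩ := exists_eichler hf ha (x := l • u)
    (by rw [hf.smul_left, hua, mul_zero]) (s := s) (by linear_combination hs)
  have h1 := hasTv_axis_conj hf hM hAi hAd hu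
  rw [hA a, hA u, smul_right hf, smul_right hf, hau, hua, ha, hl] at h1
  simp only [mul_zero, zero_smul, sub_zero, add_zero, zero_sub, sub_self] at h1
  rw [div_mul_cancel₀ _ huu, neg_neg, axisOf_add hf] at h1
  simpa using h1.sub_axis hu

/-- Two orthogonal isotropic directions cannot be independent. -/
lemma aniso_of_perp {a u : ι → F} (ha : f a a = 0) (hau : f a u = 0) (ha0 : a ≠ 0) (hua : u ∉ F ∙ a) :
    f u u ≠ 0 := by
  intro huu
  have hua0 : f u a = 0 := by rw [hf.herm, hau, map_zero]
  let T : Submodule F (ι → F) := (F ∙ a) ⊔ (F ∙ u)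
  have hz : ∀ t ∈ T, ∀ s ∈ T, f t s = 0 := by
    intro t ht s hs
    obtain ⟨t₁, ht₁, t₂, ht₂, rfl⟩ := Submodule.mem_sup.1 ht
    obtain ⟨s₁, hs₁, s₂, hs₂, rfl⟩ := Submodule.mem_sup.1 hs
    obtain ⟨_, rfl⟩ := Submodule.mem_span_singleton.1 ht₁
    obtain ⟨_, rfl⟩ := Submodule.mem_span_singleton.1 ht₂
    obtain ⟨_, rfl⟩ := Submodule.mem_span_singleton.1 hs₁
    obtain ⟨_, rfl⟩ := Submodule.mem_span_singleton.1 hs₂
    simp [hf.add_left, add_right hf, hf.smul_left, smul_right hf, ha, hau, hua0, huu]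
  have h1 := finrank_add_le_of_perp hf hz
  have h2 : (F ∙ a) < T := lt_of_le_of_ne le_sup_left fun e => hua (by
    rw [e]; exact Submodule.mem_sup_right (Submodule.mem_span_singleton_self u))
  have h4 := Submodule.finrank_lt_finrank_of_lt h2
  rw [finrank_span_singleton ha0] at h4
  omega

lemma fullAt_of_axis {a u : ι → F} (ha : f a a = 0) (ha0 : a ≠ 0) (hua : u ∉ F ∙ a)
    (hu : HasTv M a (axisOf f u)) : FullAt M a := by
  have L := linLeft hf
  have hau : f a u = 0 := by rw [← L.dot]; exact hu.1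
  have hua0 : f u a = 0 := by rw [hf.herm, hau, map_zero]
  have huu := aniso_of_perp hf hM h3 ha hau ha0 hua
  have hline := line_at hf hM h3 ha hau huu hu
  obtain ⟨c, hc0, hc⟩ := exists_skew hf.ne_refl hf.involutive
  -- an isotropic partner orthogonal to `u`
  have hau' : a ∉ F ∙ u := by
    intro h
    obtain ⟨e, he⟩ := Submodule.mem_span_singleton.1 h
    have : f a u = e * f u u := by rw [← he, hf.smul_left]
    rw [hau] at this
    rcases mul_eq_zero.1 this.symm with h0 | h0
    · rw [h0, zero_smul] at he; exact ha0 he.symm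
    · exact huu h0
  obtain ⟨b₀, hub₀, hab₀⟩ := exists_f_eq hf hau'
  have hb₀a : f b₀ a = 1 := by rw [hf.herm, hab₀, map_one]
  obtain ⟨k, hk⟩ := exists_isotropic_add hf ha (v := b₀) (by rw [hab₀]; exact one_ne_zero)
  set b := b₀ + k • a
  have hba : f b a = 1 := by simp [b, hf.add_left, hf.smul_left, hb₀a, ha]
  have hbu : f b u = 0 := by simp [b, hf.add_left, hf.smul_left, hf.herm b₀ u, hub₀, hau]
  have hab : f a b = 1 := by rw [hf.herm, hba, map_one]
  have h1 : HasTv M b (c • axisOf f b) := ⟨_, hM (tv_mem hf hk hc)⟩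
  have h2 := h1.comm hu (by rw [L.dot, hbu])
  rw [smul_dotProduct, L.dot, hab, smul_eq_mul, mul_one] at h2
  -- all multiples of `u` at `a`
  have hlu : ∀ d : F, HasTv M a (axisOf f (d • u)) := by
    intro d
    have h4 := (hline (d / σ c)).comm h2 (by rw [smul_dotProduct, L.dot, hau, smul_zero])
    rw [L.dot, smul_right hf, hba, mul_one, smul_smul, map_div₀, hf.involutive,
      div_mul_cancel₀ _ hc0] at h4
    rwa [← axisOf_smul hf] at h4
  intro φ hφ
  obtain ⟨v, rfl⟩ := exists_axis hf φ
  rw [L.dot] at hφ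
  have hva : f v a = 0 := by rw [hf.herm, hφ, map_zero]
  set w := v + (-(f v u / f u u)) • u
  have hwa : f w a = 0 := by simp only [w, hf.add_left, hf.smul_left, hva, hua0, mul_zero, add_zero]
  have hwu : f w u = 0 := by
    simp only [w, hf.add_left, hf.smul_left, neg_mul, div_mul_cancel₀ _ huu, add_neg_cancel]
  obtain ⟨e, he⟩ : ∃ e : F, w = e • a := by
    by_contra hno
    push Not at hno
    have hwm : w ∉ F ∙ a := fun h => by
      obtain ⟨e, he⟩ := Submodule.mem_span_singleton.1 h
      exact hno e he.symm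
    have hww := aniso_of_perp hf hM h3 ha (by rw [hf.herm, hwa, map_zero]) ha0 hwm
    have huw : f u w = 0 := by rw [hf.herm, hwu, map_zero]
    have haw : f a w = 0 := by rw [hf.herm, hwa, map_zero]
    have hli : LinearIndependent F ![a, u, w] := by
      rw [Fintype.linearIndependent_iff]
      intro r hr
      rw [Fin.sum_univ_three] at hr
      simp only [Matrix.cons_val_zero, Matrix.cons_val_one, Matrix.cons_val_two, Matrix.head_cons,
        Matrix.tail_cons] at hr
      have e1 := congrArg (fun x => f x u) hr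
      have e2 := congrArg (fun x => f x w) hr
      simp only [hf.add_left, hf.smul_left, hau, hwu, haw, huw, mul_zero, zero_add, add_zero, L.zero_left] at e1 e2
      have r1 := (mul_eq_zero.1 e1).resolve_right huu
      have r2 := (mul_eq_zero.1 e2).resolve_right hww
      rw [r1, r2, zero_smul, zero_smul, add_zero, add_zero] at hr
      intro i
      fin_cases i
      exacts [(smul_eq_zero.1 hr).resolve_right ha0, r1, r2]
    have hsp := hli.span_eq_top_of_card_eq_finrank (by simp [h3])
    obtain ⟨y, hy⟩ := (hf.nondegenerate a ha0).1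
    refine hy ?_
    have hy' : y ∈ Submodule.span F (Set.range ![a, u, w]) := hsp ▸ Submodule.mem_top
    obtain ⟨r, rfl⟩ := (Submodule.mem_span_range_iff_exists_fun F).1 hy'
    simp [Fin.sum_univ_three, hf.add_left, hf.smul_left, ha, hua0, hwa, add_right hf, smul_right hf, hau, haw]
  have e' : v = e • a + (f v u / f u u) • u := by rw [← he]; simp only [w]; module
  rw [e', axisOf_add hf]
  exact (hline e).add_axis (hlu _)

lemma fullAt_of_anisotropic {a u : ι → F} (ha : f a a ≠ 0) (hu0 : u ≠ 0)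
    (hu : HasTv M a (axisOf f u)) : ∃ b, f b b = 0 ∧ b ≠ 0 ∧ FullAt M b := by
  have L := linLeft hf
  have hau : f a u = 0 := by rw [← L.dot]; exact hu.1
  obtain ⟨c, hc0, hc⟩ := exists_skew hf.ne_refl hf.involutive
  obtain ⟨z, x, hz, hzx, hza, hxa⟩ := exists_pair_perp hf ha h3.ge
  let S : Submodule F (ι → F) :=
    { carrier := {v | f v a = 0}
      add_mem' := fun {p q} hp hq => by
        simp only [Set.mem_ofPred_eq] at *
        rw [hf.add_left, hp, hq, add_zero]
      zero_mem' := L.zero_left a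
      smul_mem' := fun e v hv => by
        simp only [Set.mem_ofPred_eq] at *
        rw [hf.smul_left, hv, mul_zero] }
  have hSmem : ∀ v, f a v = 0 → v ∈ S := fun v hv => show f v a = 0 by rw [hf.herm, hv, map_zero]
  -- an isotropic axis in the orthogonal plane, not orthogonal to any given non-zero axis
  have hfind : ∀ u : ι → F, f a u = 0 → u ≠ 0 → ∃ w, f a w = 0 ∧ f w w = 0 ∧ f u w ≠ 0 := by
    intro u hau hu0
    by_contra hcon
    push Not at hcon
    have hST : ∀ y, f a y = 0 → f y u = 0 := fun y hy =>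
      LinearMap.mem_ker.1 ((mem_of_isotropic hf (S := S) (T := LinearMap.ker (L.toLin u)) hza hxa hz hzx
        fun y hy hyy => LinearMap.mem_ker.2 (by
          change f y u = 0
          rw [hf.herm, hcon y (by rw [hf.herm, show f y a = 0 from hy, map_zero]) hyy, map_zero])) (hSmem y hy))
    refine hu0 (eq_zero_of_axis hf (funext fun i => ?_))
    have h1 := hST (Pi.single i 1 - σ (f a (Pi.single i 1) / f a a) • a) (by
      rw [sub_eq_add_neg, ← neg_smul, add_right hf, smul_right hf, map_neg, hf.involutive, neg_mul,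
        div_mul_cancel₀ _ ha, add_neg_cancel])
    rw [L.sub_left, hf.smul_left, hau, mul_zero, sub_zero] at h1
    simpa [axisOf] using h1
  -- an axis gives all multiples of an isotropic axis
  have hmult : ∀ u w : ι → F, HasTv M a (axisOf f u) → f a w = 0 → f w w = 0 → f u w ≠ 0 →
      ∀ d : F, HasTv M w (axisOf f (d • w)) := by
    intro u w hu haw hww huw d
    have hw1 := hasTv_tv_shift hf hM hww hc haw hu
    have hcu : c * f u w ≠ 0 := mul_ne_zero hc0 huw
    have hwa : f w a = 0 := by rw [hf.herm, haw, map_zero]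
    rcases eq_or_ne d 0 with rfl | hd
    · rw [zero_smul, axisOf_zero hf]; exact hasTv_zero_right M _
    set μ := σ (d / (c * f u w))
    have hμ : μ ≠ 0 := by simp [μ, hd, hc0, huw]
    obtain ⟨l, hl⟩ : ∃ l : F, σ l = -μ / f a a := σ.surjective _
    obtain ⟨s, hs⟩ := exists_trace_eq hf.ne_refl hf.involutive (t := -f (l • a) (l • a))
      (by rw [map_neg, sigma_self hf])
    obtain ⟨A, hAi, hAd, hA⟩ := exists_eichler hf hww (x := l • a)
      (by rw [hf.smul_left, haw, mul_zero]) (s := s) (by linear_combination hs)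
    have h1 := hasTv_axis_conj hf hM hAi hAd hw1
    rw [hA a, hA] at h1
    simp only [hf.smul_left, smul_right hf, haw, hww, hwa, hl, div_mul_cancel₀ _ ha, mul_zero, zero_smul,
      sub_zero, add_zero, zero_sub, neg_neg, sub_self] at h1
    have h2 := h1.sub_center hw1
    rw [add_sub_cancel_left, hasTv_smul_iff μ hμ, show μ = σ (d / (c * f u w)) from rfl,
      ← axisOf_smul hf, smul_smul, div_mul_cancel₀ _ hcu] at h2
    exact h2
  obtain ⟨w, haw, hww, huw⟩ := hfind u hau hu0
  -- both isotropic directions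
  have hwl := hmult u w hu haw hww huw
  have hw0 : w ≠ 0 := fun h => huw (by rw [h, zero_right hf])
  obtain ⟨x', hax', hxx', hwx'⟩ := hfind w haw hw0
  have hux := hasTv_tv_shift hf hM hww hc haw hu
  have hu' : f ((c * f u w) • w) x' ≠ 0 := by
    rw [hf.smul_left]; exact mul_ne_zero (mul_ne_zero hc0 huw) hwx'
  have hxl := hmult _ x' hux hax' hxx' hu'
  have hx1 := hasTv_tv_shift hf hM hxx' hc hax' hux
  set k := c * f ((c * f u w) • w) x'
  have hk : k ≠ 0 := mul_ne_zero hc0 hu'
  have hAw : ∀ d : F, HasTv M a (axisOf f (d • w)) := by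
    intro d
    have hn : f w (k • x') ≠ 0 := by rw [smul_right hf]; exact mul_ne_zero ((map_ne_zero σ).2 hk) hwx'
    obtain ⟨e, he⟩ : ∃ e, σ e = f w (k • x') := σ.surjective _
    have he0 : e ≠ 0 := fun h => hn (by rw [← he, h, map_zero])
    have h1 := hx1.comm (hwl (d / e)) (by rw [L.dot, smul_right hf, haw, mul_zero])
    rw [L.dot, ← he, ← axisOf_smul hf, smul_smul] at h1
    rwa [mul_div_cancel₀ _ he0] at h1
  have hAx : ∀ d : F, HasTv M a (axisOf f (d • x')) := by
    intro d
    have hn : f x' w ≠ 0 := by rw [hf.herm]; exact (map_ne_zero σ).2 hwx'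
    obtain ⟨e, he⟩ : ∃ e, σ e = f x' w := σ.surjective _
    have he0 : e ≠ 0 := fun h => hn (by rw [← he, h, map_zero])
    have h1 := (hAw 1).comm (hxl (d / e)) (by rw [L.dot, smul_right hf, hax', mul_zero])
    rw [one_smul, L.dot, ← he, ← axisOf_smul hf, smul_smul] at h1
    rwa [mul_div_cancel₀ _ he0] at h1
  -- an isotropic vector not orthogonal to `a`
  obtain ⟨b, hbb, hab⟩ : ∃ b, f b b = 0 ∧ f a b ≠ 0 := by
    obtain ⟨y, hy0, hy⟩ := exists_anisotropic_perp hf ![a] (by omega)
    have hya : f y a = 0 := hy 0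
    obtain ⟨t, ht⟩ := exists_norm_eq hf.ne_refl hf.involutive (t := -f a a / f y y)
      (by rw [map_div₀, map_neg, sigma_self hf, sigma_self hf])
    refine ⟨a + t • y, ?_, ?_⟩
    · simp only [hf.add_left, add_right hf, hf.smul_left, smul_right hf, hya, hf.herm a y, map_zero]
      field_simp at ht
      linear_combination ht
    · simp [add_right hf, smul_right hf, hf.herm a y, hya, ha]
  -- a combination of the isotropic axes orthogonal to it
  obtain ⟨v, hv, hvb, hv0, hva⟩ : ∃ v, HasTv M a (axisOf f v) ∧ f b v = 0 ∧ v ≠ 0 ∧ f a v = 0 := by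
    rcases eq_or_ne (f b w) 0 with h0 | h0
    · exact ⟨w, by simpa using hAw 1, h0, hw0, haw⟩
    · refine ⟨σ (f b x') • w + σ (-f b w) • x', ?_, ?_, ?_, ?_⟩
      · rw [axisOf_add hf]; exact (hAw _).add_axis (hAx _)
      · rw [add_right hf, smul_right hf, smul_right hf, hf.involutive, hf.involutive]; ring
      · intro h
        have := congrArg (fun y => f y w) h
        simp only [hf.add_left, hf.smul_left, hww, L.zero_left, mul_zero, zero_add] at this
        rcases mul_eq_zero.1 this with h' | h'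
        · exact h0 (neg_eq_zero.1 ((map_eq_zero σ).1 h'))
        · exact hwx' (by rw [hf.herm, h', map_zero])
      · rw [add_right hf, smul_right hf, smul_right hf, haw, hax', mul_zero, mul_zero, add_zero]
  have h1 : HasTv M b (c • axisOf f b) := ⟨_, hM (tv_mem hf hbb hc)⟩
  have h2 := h1.comm hv (by rw [L.dot, hvb])
  rw [smul_dotProduct, L.dot, smul_eq_mul, ← hf.involutive (c * f a b), ← axisOf_smul hf] at h2
  have hb0 : b ≠ 0 := fun h => hab (by rw [h, zero_right hf])
  refine ⟨b, hbb, hb0, fullAt_of_axis hf hM h3 hbb hb0 ?_ h2⟩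
  intro hmem
  obtain ⟨e, he⟩ := Submodule.mem_span_singleton.1 hmem
  have h4 : f a (σ (c * f a b) • v) = 0 := by rw [smul_right hf, hva, mul_zero]
  rw [← he, smul_right hf] at h4
  rcases mul_eq_zero.1 h4 with h | h
  · rw [(map_eq_zero σ).1 h, zero_smul] at he
    rcases smul_eq_zero.1 he.symm with h' | h'
    · exact mul_ne_zero hc0 hab ((map_eq_zero σ).1 h')
    · exact hv0 h'
  · exact hab h

omit hM in
lemma mem_similarity {g : GL ι F}
    (hg : ∀ v, f v v = 0 → ∃ μ : F, ∀ x,
      f ((g : Matrix ι ι F) *ᵥ x) ((g : Matrix ι ι F) *ᵥ v) = μ * f x v) :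
    g ∈ similarityGroup f := by
  have L := linLeft hf
  choose μ hμ using hg
  obtain ⟨z, x₀, hz, hzx, -, -⟩ := exists_isotropic_perp hf (![] : Fin 0 → (ι → F)) (by omega)
  have hz0 : z ≠ 0 := fun h => hzx (by rw [h, L.zero_left])
  have hconst : ∀ v (hv : f v v = 0), v ≠ 0 → μ v hv = μ z hz := by
    intro v hv hv0
    by_cases hmem : v ∈ F ∙ z
    · obtain ⟨e, rfl⟩ := Submodule.mem_span_singleton.1 hmem
      obtain ⟨x, hx⟩ := (hf.nondegenerate _ hv0).1
      have h1 := hμ _ hv x
      rw [Matrix.mulVec_smul, smul_right hf, hμ z hz x, mul_left_comm, ← smul_right hf] at h1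
      exact (mul_right_cancel₀ hx h1).symm
    · have hmem' : z ∉ F ∙ v := by
        intro h
        obtain ⟨e, he⟩ := Submodule.mem_span_singleton.1 h
        rcases eq_or_ne e 0 with rfl | he0
        · exact hz0 (by simpa using he.symm)
        · exact hmem (Submodule.mem_span_singleton.2 ⟨e⁻¹, by rw [← he, smul_smul, inv_mul_cancel₀ he0, one_smul]⟩)
      obtain ⟨d, hd0, hd⟩ := exists_isotropic_combination hf hv hz
      obtain ⟨p, hzp, hvp⟩ := exists_f_eq hf hmem
      obtain ⟨q, hvq, hzq⟩ := exists_f_eq hf hmem'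
      have hpz : f p z = 0 := by rw [hf.herm, hzp, map_zero]
      have hpv : f p v = 1 := by rw [hf.herm, hvp, map_one]
      have hqv : f q v = 0 := by rw [hf.herm, hvq, map_zero]
      have hqz : f q z = 1 := by rw [hf.herm, hzq, map_one]
      have e1 := hμ _ hd p
      have e2 := hμ _ hd q
      rw [Matrix.mulVec_add, Matrix.mulVec_smul, add_right hf, smul_right hf, hμ v hv, hμ z hz,
        add_right hf, smul_right hf, hpz, hpv] at e1
      rw [Matrix.mulVec_add, Matrix.mulVec_smul, add_right hf, smul_right hf, hμ v hv, hμ z hz,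
        add_right hf, smul_right hf, hqz, hqv] at e2
      simp only [mul_zero, mul_one, add_zero, zero_add] at e1 e2
      have hσd : σ d ≠ 0 := by simpa using hd0
      rw [e1]
      exact mul_right_cancel₀ hσd (by linear_combination -e2)
  let T : Submodule F (ι → F) :=
    { carrier := {y | ∀ x, f ((g : Matrix ι ι F) *ᵥ x) ((g : Matrix ι ι F) *ᵥ y) = μ z hz * f x y}
      add_mem' := fun {p q} hp hq x => by
        rw [Matrix.mulVec_add, add_right hf, add_right hf, hp x, hq x, mul_add]
      zero_mem' := fun x => by rw [Matrix.mulVec_zero, zero_right hf, zero_right hf, mul_zero]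
      smul_mem' := fun e p hp x => by
        rw [Matrix.mulVec_smul, smul_right hf, smul_right hf, hp x, mul_left_comm] }
  have hT : (⊤ : Submodule F (ι → F)) ≤ T :=
    mem_of_isotropic hf (z := z) (x := x₀) trivial trivial hz hzx fun v _ hv => by
      rcases eq_or_ne v 0 with rfl | hv0
      · exact T.zero_mem
      · intro x; rw [← hconst v hv hv0]; exact hμ v hv x
  refine ⟨Units.mk0 (μ z hz) fun h0 => ?_, fun u v => hT (x := v) trivial u⟩
  have hgz : (g : Matrix ι ι F) *ᵥ z ≠ 0 := fun e => hz0 (by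
    rw [← inv_mulVec_mulVec g z, e, Matrix.mulVec_zero])
  obtain ⟨y, hy⟩ := (hf.nondegenerate _ hgz).1
  have := hμ z hz (((g⁻¹ : GL ι F) : Matrix ι ι F) *ᵥ y)
  rw [mulVec_inv_mulVec, h0, zero_mul] at this
  exact hy this

theorem key (hne : ¬ M ≤ similarityGroup f) : specialLinear ι F ≤ M := by
  have L := linLeft hf
  obtain ⟨c, hc0, hc⟩ := exists_skew hf.ne_refl hf.involutive
  obtain ⟨g, hg, hgX⟩ := SetLike.not_le_iff_exists.1 hne
  obtain ⟨b, hb, hb0, hfull⟩ : ∃ b, f b b = 0 ∧ b ≠ 0 ∧ FullAt M b := by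
    by_contra hcon
    push Not at hcon
    refine hgX (mem_similarity hf h3 fun v hv => ?_)
    rcases eq_or_ne v 0 with rfl | hv0
    · exact ⟨0, fun x => by rw [Matrix.mulVec_zero, zero_right hf, zero_right hf, mul_zero]⟩
    have h1 := (show HasTv M v (c • axisOf f v) from ⟨_, hM (tv_mem hf hv hc)⟩).conj hg
    obtain ⟨u, hu⟩ := exists_axis hf ((c • axisOf f v) ᵥ* ((g⁻¹ : GL ι F) : Matrix ι ι F))
    obtain ⟨a, hadef⟩ : ∃ a, a = (g : Matrix ι ι F) *ᵥ v := ⟨_, rfl⟩
    rw [← hadef, ← hu] at h1
    have hukey : ∀ x, c * f x v = f ((g : Matrix ι ι F) *ᵥ x) u := fun x => by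
      rw [← L.dot u, hu, vecMul_dotProduct_mulVec, smul_dotProduct, L.dot, smul_eq_mul]
    obtain ⟨x₁, hx₁⟩ := (hf.nondegenerate v hv0).1
    have hu0 : u ≠ 0 := fun h => mul_ne_zero hc0 hx₁ (by rw [hukey, h, zero_right hf])
    have ha0 : a ≠ 0 := fun h => hv0 (by
      rw [← inv_mulVec_mulVec g v, ← hadef, h, Matrix.mulVec_zero])
    rw [← hadef]
    by_cases haa : f a a = 0
    · by_cases hua : u ∈ F ∙ a
      · obtain ⟨e, rfl⟩ := Submodule.mem_span_singleton.1 hua
        have he : σ e ≠ 0 := fun h => hu0 (by rw [(map_eq_zero σ).1 h, zero_smul])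
        refine ⟨c / σ e, fun x => ?_⟩
        have h2 := hukey x
        rw [smul_right hf] at h2
        rw [div_mul_eq_mul_div, eq_div_iff he, h2, mul_comm]
      · exact absurd (fullAt_of_axis hf hM h3 haa ha0 hua h1) (hcon a haa ha0)
    · obtain ⟨b, hb, hb0, hb'⟩ := fullAt_of_anisotropic hf hM h3 haa hu0 h1
      exact absurd hb' (hcon b hb hb0)
  refine specialLinear_le_of_fullSubmodule (eq_top_iff.2 ?_)
  obtain ⟨z, x, hz, hzx, -, -⟩ := exists_isotropic_perp hf (![] : Fin 0 → (ι → F)) (by omega)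
  have hout : ∀ w, f w w = 0 → f b w ≠ 0 → w ∈ fullSubmodule M := by
    intro w hw hbw
    have h1 := fullSubmodule_invariant (M := M) (a := b) hfull (hM (tv_mem hf hw hc))
    rw [tvec_mulVec, smul_dotProduct, L.dot, smul_eq_mul] at h1
    exact ((fullSubmodule M).smul_mem_iff (mul_ne_zero hc0 hbw)).1
      (((fullSubmodule M).add_mem_iff_right (show b ∈ fullSubmodule M from hfull)).1 h1)
  refine mem_of_isotropic hf (z := z) (x := x) trivial trivial hz hzx fun v _ hv => ?_
  by_cases hbv : f b v = 0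
  · obtain ⟨w, hw, hbw⟩ : ∃ w, f w w = 0 ∧ f b w ≠ 0 := by
      obtain ⟨y, hy⟩ := (hf.nondegenerate b hb0).2
      obtain ⟨e, he⟩ := exists_isotropic_add hf hb hy
      exact ⟨y + e • b, he, by simpa [add_right hf, smul_right hf, hb] using hy⟩
    obtain ⟨d, hd0, hd⟩ := exists_isotropic_combination hf hv hw
    have h1 := hout (v + d • w) hd (by simp [add_right hf, smul_right hf, hbv, hbw, hd0])
    exact ((fullSubmodule M).add_mem_iff_left ((fullSubmodule M).smul_mem d (hout w hw hbw))).1 h1
  · exact hout v hv hbv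

omit hM in
theorem proper : ¬ specialLinear ι F ≤ similarityGroup f := by
  intro hle
  have L := linLeft hf
  obtain ⟨a, ha, -⟩ := exists_anisotropic_perp hf (![] : Fin 0 → (ι → F)) (by omega)
  obtain ⟨v, hv, hv'⟩ := exists_anisotropic_perp hf ![a] (by omega)
  have hva : f v a = 0 := hv' 0
  have hav : f a v = 0 := by rw [hf.herm, hva, map_zero]
  have hφ : axisOf f v ⬝ᵥ a = 0 := by rw [L.dot, hav]
  obtain ⟨e, he⟩ := hle (tvec_mem_specialLinear a (axisOf f v) hφ)
  have h1 := he a a
  have h2 := he v a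
  simp only [tvec_mulVec, L.dot, hav, zero_smul, add_zero] at h1 h2
  rw [hf.add_left, hf.smul_left, hva, zero_add, mul_zero] at h2
  exact mul_ne_zero hv ha h2

end CfsgLib.Geo.SL3.Unitary
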