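/-
The monomial group is maximal in the special linear group of dimension three over at least five elements.
-/
import Cfsg.Agent.Geo.MonomialMaximal
import Cfsg.Agent.Geo.MonomialOvergroup
import Cfsg.Agent.Geo.LinearDecomposition

set_option autoImplicit false

namespace CfsgLib.Geo.SL3.Lines

open Matrix Cfsg Cfsg.Geo CfsgLib.Geo CfsgLib.Geo.Mono

variable {F : Type*} [Field F]

lemma third : ∀ a b : Fin 3, ∃ c, c ≠ a ∧ c ≠ b := by decide

lemma cases_three : ∀ a b c i : Fin 3, a ≠ b → c ≠ a → c ≠ b → i = a ∨ i = b ∨ i = c := by decide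

lemma perm_fix : ∀ (a : Fin 3) (π : Equiv.Perm (Fin 3)), π a = a → π * π * π = 1 → π = 1 := by decide

lemma perm_two : ∀ (a b c : Fin 3) (π : Equiv.Perm (Fin 3)), a ≠ b → c ≠ a → c ≠ b → π a = a →
    (π b = b ∧ π c = c) ∨ (π b = c ∧ π c = b) := by decide

lemma perm_pair : ∀ a b i l : Fin 3, a ≠ b → i ≠ l → ∃ π : Equiv.Perm (Fin 3), π a = i ∧ π b = l := by
  decide

lemma perm_std : ∀ a b c : Fin 3, a ≠ b → c ≠ a → c ≠ b →
    ∃ π : Equiv.Perm (Fin 3), π a = 0 ∧ π b = 1 ∧ π c = 2 := by decide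

lemma succ_cases : ∀ i k : Fin 3, k = i ∨ k = i + 1 ∨ k = i + 1 + 1 := by decide

lemma sum_three {a b c : Fin 3} (hab : a ≠ b) (hca : c ≠ a) (hcb : c ≠ b) (f : Fin 3 → F) :
    ∑ i, f i = f a + f b + f c := by
  have : (Finset.univ : Finset (Fin 3)) = {a, b, c} := by
    ext i; simpa using cases_three a b c i hab hca hcb
  rw [this, Finset.sum_insert (by simp [hab, hca.symm]), Finset.sum_insert (by simp [hcb.symm]),
    Finset.sum_singleton, add_assoc]

lemma prod_three {a b c : Fin 3} (hab : a ≠ b) (hca : c ≠ a) (hcb : c ≠ b) (f : Fin 3 → F) :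
    ∏ i, f i = f a * f b * f c := by
  have : (Finset.univ : Finset (Fin 3)) = {a, b, c} := by
    ext i; simpa using cases_three a b c i hab hca hcb
  rw [this, Finset.prod_insert (by simp [hab, hca.symm]), Finset.prod_insert (by simp [hcb.symm]),
    Finset.prod_singleton, mul_assoc]

/-- A vector of units given by its three values. -/
def tri (a b : Fin 3) (x y z : Fˣ) : Fin 3 → Fˣ := fun i => if i = a then x else if i = b then y else z

lemma tri_a (a b : Fin 3) (x y z : Fˣ) : tri a b x y z a = x := by simp [tri]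

lemma tri_b {a b : Fin 3} (hab : a ≠ b) (x y z : Fˣ) : tri a b x y z b = y := by simp [tri, hab.symm]

lemma tri_c {a b c : Fin 3} (hca : c ≠ a) (hcb : c ≠ b) (x y z : Fˣ) : tri a b x y z c = z := by
  simp [tri, hca, hcb]

variable [Fintype F]

lemma exists_pow_ne (n : ℕ) (hn : n = 3 ∨ n = 9) (hq : 5 ≤ Fintype.card F) : ∃ s : Fˣ, (s : F) ^ n ≠ 1 := by
  classical
  by_contra h
  push Not at h
  obtain ⟨g, hg⟩ := IsCyclic.exists_ofOrder_eq_natCard (α := Fˣ)
  have h1 : g ^ n = 1 := Units.ext (by rw [Units.val_pow_eq_pow_val]; exact h g)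
  have h2 : Fintype.card F - 1 ∣ n := by
    rw [← Fintype.card_units, ← Nat.card_eq_fintype_card, ← hg]
    exact orderOf_dvd_of_pow_eq_one h1
  have h4 : Fintype.card F ≤ n + 1 := by
    have := Nat.le_of_dvd (by omega) h2
    omega
  rcases hn with rfl | rfl
  · omega
  · have h10 : Fintype.card F = 10 := by
      have h3 : ∀ k : Fin 11, (k : ℕ) - 1 ∣ 9 → 5 ≤ (k : ℕ) → (k : ℕ) = 10 := by decide
      exact h3 ⟨Fintype.card F, by omega⟩ h2 hq
    obtain ⟨p, hp⟩ := CharP.exists F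
    obtain ⟨k, hpp, hk⟩ := FiniteField.card F p
    rw [h10] at hk
    have h5 : 2 = p := (Nat.prime_dvd_prime_iff_eq Nat.prime_two hpp).1
      (Nat.prime_two.dvd_of_dvd_pow (n := (k : ℕ)) (by omega))
    have h6 : 5 = p := (Nat.prime_dvd_prime_iff_eq (by norm_num) hpp).1
      ((show Nat.Prime 5 by norm_num).dvd_of_dvd_pow (n := (k : ℕ)) (by omega))
    omega

variable {M : Subgroup (GL (Fin 3) F)}

lemma torus_mem3 (hX : monomialGroup (Fin 3) F ⊓ specialLinear (Fin 3) F ≤ M) {a b c : Fin 3} (hab : a ≠ b)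
    (hca : c ≠ a) (hcb : c ≠ b) (x y z : Fˣ) (h : x * y * z = 1) : torus (tri a b x y z) ∈ M := by
  refine hX ⟨mon_mem _ _, mem_specialLinear.2 ?_⟩
  rw [torus, det_mon, prod_three hab hca hcb, tri_a, tri_b hab, tri_c hca hcb, ← Units.val_mul,
    ← Units.val_mul, h]
  simp

/-- Permuting the coordinates keeps `M`. -/
lemma exists_perm_conj (hX : monomialGroup (Fin 3) F ⊓ specialLinear (Fin 3) F ≤ M) (π : Equiv.Perm (Fin 3))
    {g : GL (Fin 3) F} (hg : g ∈ M) : ∃ h ∈ M, ∀ i j,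
      (h : Matrix (Fin 3) (Fin 3) F) (π i) (π j) = (g : Matrix (Fin 3) (Fin 3) F) i j := by
  let e : Fˣ := Units.map (Int.castRingHom F : ℤ →* F) (Equiv.Perm.sign π)
  set x := mon π (fun _ => e)
  have hx : x ∈ M := by
    refine hX ⟨mon_mem _ _, mem_specialLinear.2 ?_⟩
    rw [det_mon]
    have he : (e : F) * (e : F) = 1 := by
      show ((Equiv.Perm.sign π : ℤ) : F) * ((Equiv.Perm.sign π : ℤ) : F) = 1
      rw [← Int.cast_mul, ← Units.val_mul, Int.units_mul_self]; simp
    show (e : F) * ∏ _j : Fin 3, (e : F) = 1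
    rw [Fin.prod_univ_three]
    linear_combination ((e : F) * (e : F) + 1) * he
  refine ⟨x * g * x⁻¹, M.mul_mem (M.mul_mem hx hg) (M.inv_mem hx), fun i j => ?_⟩
  have e0 : ((x * g * x⁻¹ : GL (Fin 3) F) : Matrix (Fin 3) (Fin 3) F) * (x : Matrix (Fin 3) (Fin 3) F) =
      (x : Matrix (Fin 3) (Fin 3) F) * (g : Matrix (Fin 3) (Fin 3) F) := by
    rw [← Units.val_mul, ← Units.val_mul, inv_mul_cancel_right]
  have e1 := congrFun (congrFun e0 (π i)) j
  change (((x * g * x⁻¹ : GL (Fin 3) F) : Matrix (Fin 3) (Fin 3) F) (π i) ᵥ* _) j =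
    ((x : Matrix (Fin 3) (Fin 3) F) *ᵥ fun l => (g : Matrix (Fin 3) (Fin 3) F) l j) (π i) at e1
  rw [vecMul_mon, mon_mulVec] at e1
  exact mul_right_cancel₀ e.ne_zero (e1.trans (mul_comm _ _))

/-- A transvection with a basis centre gives the special linear group. -/
theorem sl_le_of_crossing (hq : 5 ≤ Fintype.card F)
    (hX : monomialGroup (Fin 3) F ⊓ specialLinear (Fin 3) F ≤ M) {a : Fin 3} {ψ : Fin 3 → F}
    (h : HasTv M (Pi.single a 1) ψ) (hψ : ψ ≠ 0) : specialLinear (Fin 3) F ≤ M := by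
  have hψa : ψ a = 0 := by rw [← h.dot, dotProduct_single_one]
  obtain ⟨b, hb⟩ := Function.ne_iff.1 hψ
  simp only [Pi.zero_apply] at hb
  have hab : a ≠ b := fun e => hb (e ▸ hψa)
  obtain ⟨c, hca, hcb⟩ := third a b
  have hconj : ∀ (φ : Fin 3 → F) (x y z : Fˣ), x * y * z = 1 → HasTv M (Pi.single a 1) φ →
      HasTv M (Pi.single a 1) fun i => (x : F) * (φ i * ((tri a b x y z i : Fˣ) : F)⁻¹) := fun φ x y z hxyz hφ => by
    have h2 := hφ.conj (torus_mem3 hX hab hca hcb x y z hxyz)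
    have e1 : (torus (tri a b x y z) : GL (Fin 3) F).val *ᵥ (Pi.single a 1 : Fin 3 → F) =
        (x : F) • Pi.single a 1 := funext fun i => by
      rw [torus_mulVec]
      by_cases hi : i = a
      · subst hi; simp [tri_a]
      · simp [hi]
    rw [e1, hasTv_smul_iff (x : F) x.ne_zero] at h2
    have e2 : ((x : F) • (φ ᵥ* ((torus (tri a b x y z))⁻¹ : GL (Fin 3) F).val)) =
        fun i => (x : F) * (φ i * ((tri a b x y z i : Fˣ) : F)⁻¹) := funext fun i => by
      rw [Pi.smul_apply, torus_inv, vecMul_torus, Pi.inv_apply, Units.val_inv_eq_inv_val, smul_eq_mul]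
    rwa [e2] at h2
  obtain ⟨s, hs⟩ := exists_pow_ne 3 (Or.inl rfl) hq
  have h1 := (hconj ψ s (s ^ 2)⁻¹ s (by group) h).sub_axis h
  set d₀ := ((s : F) ^ 3 - 1) * ψ b
  have hd0 : d₀ ≠ 0 := mul_ne_zero (sub_ne_zero.2 hs) hb
  have hsingle : HasTv M (Pi.single a 1) (Pi.single b d₀ : Fin 3 → F) := by
    convert h1 using 1
    funext i
    rcases cases_three a b c i hab hca hcb with rfl | rfl | rfl
    · simp [hψa, hab]
    · simp [tri_b hab, d₀]; ring
    · simp [tri_c hca hcb, hcb]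
      field_simp
      ring
  have hall : ∀ d : F, HasTv M (Pi.single a 1) (Pi.single b d : Fin 3 → F) := by
    intro d
    rcases eq_or_ne d 0 with rfl | hd
    · rw [Pi.single_zero]; exact hasTv_zero_right M _
    set l : Fˣ := Units.mk0 (d / d₀) (div_ne_zero hd hd0)
    convert hconj _ l 1 l⁻¹ (by group) hsingle using 1
    funext i
    by_cases hi : i = b
    · subst hi; simp [tri_b hab, l, div_mul_cancel₀ _ hd0]
    · simp [hi]
  refine specialLinear_le_of_elementary fun i l hil d => ?_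
  rcases eq_or_ne d 0 with rfl | hd
  · rw [zero_smul]; exact hasTv_zero_left M _
  rw [hasTv_smul_iff d hd, ← Pi.single_smul, smul_eq_mul, mul_one]
  obtain ⟨π, hπa, hπb⟩ := perm_pair a b i l hab hil
  let e : Fˣ := Units.map (Int.castRingHom F : ℤ →* F) (Equiv.Perm.sign π)
  let cc : Fin 3 → Fˣ := Function.update 1 c e
  have hx : mon π cc ∈ M := by
    refine hX ⟨mon_mem _ _, mem_specialLinear.2 ?_⟩
    rw [det_mon, Finset.prod_eq_single c (fun k _ hk => by simp [cc, Function.update_of_ne hk]) (by simp)]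
    simp only [cc, Function.update_self]
    show ((Equiv.Perm.sign π : ℤ) : F) * ((Equiv.Perm.sign π : ℤ) : F) = 1
    rw [← Int.cast_mul, ← Units.val_mul, Int.units_mul_self]; simp
  have h2 := (hall d).conj hx
  have e1 : (mon π cc : GL (Fin 3) F).val *ᵥ (Pi.single a 1 : Fin 3 → F) = Pi.single i 1 := by
    funext x
    obtain ⟨y, rfl⟩ := π.surjective x
    rw [mon_mulVec]
    by_cases hy : y = a
    · subst hy; simp [← hπa, cc, Function.update_of_ne hca.symm]
    · simp [← hπa, π.injective.eq_iff, hy]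
  have e2 : (Pi.single b d : Fin 3 → F) ᵥ* ((mon π cc)⁻¹ : GL (Fin 3) F).val = Pi.single l d := by
    have : (Pi.single l d : Fin 3 → F) ᵥ* (mon π cc : GL (Fin 3) F).val = Pi.single b d := by
      funext x
      rw [vecMul_mon]
      by_cases hxb : x = b
      · subst hxb; simp [← hπb, cc, Function.update_of_ne hcb.symm]
      · simp [← hπb, π.injective.eq_iff, hxb]
    rw [← this, Matrix.vecMul_vecMul, ← Units.val_mul, mul_inv_cancel, Units.val_one, Matrix.vecMul_one]
  rwa [e1, e2] at h2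

/-- The standing hypothesis. -/
structure Proper (M : Subgroup (GL (Fin 3) F)) : Prop where
  field : 5 ≤ Fintype.card F
  le : monomialGroup (Fin 3) F ⊓ specialLinear (Fin 3) F ≤ M
  special : M ≤ specialLinear (Fin 3) F
  proper : ¬ specialLinear (Fin 3) F ≤ M

variable (hP : Proper M)
include hP

/-- An element fixing a coordinate line preserves the complementary coordinate plane. -/
lemma Proper.row_zero {g : GL (Fin 3) F} (hg : g ∈ M) {a : Fin 3}
    (hcol : ∀ i, i ≠ a → (g : Matrix (Fin 3) (Fin 3) F) i a = 0) {l : Fin 3} (hl : l ≠ a) :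
    (g : Matrix (Fin 3) (Fin 3) F) a l = 0 := by
  obtain ⟨c, hca, hcl⟩ := third a l
  obtain ⟨s, hs⟩ := exists_pow_ne 3 (Or.inl rfl) hP.field
  set w := tri a l (s ^ 2)⁻¹ s s
  have hh : torus w ∈ M := torus_mem3 hP.le hl.symm hca hcl _ _ _ (by group)
  set G : Matrix (Fin 3) (Fin 3) F := (g : Matrix (Fin 3) (Fin 3) F)
  set k : F := ((s : F) ^ 2)⁻¹ * (s : F)⁻¹ - 1
  let ψ : Fin 3 → F := fun j => if j = a then 0 else k * G a j
  have hconj : ((torus w * g * (torus w)⁻¹ : GL (Fin 3) F) : Matrix (Fin 3) (Fin 3) F) =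
      G + vecMulVec (Pi.single a 1) ψ := by
    ext i j
    rw [torus_inv, mul_torus_apply, torus_mul_apply, Matrix.add_apply, vecMulVec_apply, Pi.inv_apply, Units.val_inv_eq_inv_val]
    have := s.ne_zero
    rcases cases_three a l c i hl.symm hca hcl with h1 | h1 | h1 <;>
      rcases cases_three a l c j hl.symm hca hcl with h2 | h2 | h2 <;>
      simp [w, ψ, k, G, h1, h2, tri_a, tri_b hl.symm, tri_c hca hcl, hl, hca, hcol _ hl, hcol _ hca] <;> field_simp <;> ring
  have hd : (ψ ᵥ* ((g⁻¹ : GL (Fin 3) F) : Matrix (Fin 3) (Fin 3) F)) ⬝ᵥ (Pi.single a 1 : Fin 3 → F) = 0 := by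
    have e : G *ᵥ Pi.single a 1 = G a a • (Pi.single a 1 : Fin 3 → F) := funext fun j => by
      rw [Matrix.mulVec_single_one, Pi.smul_apply, smul_eq_mul]
      rcases eq_or_ne j a with rfl | hj
      · simp
      · simp [hj, show G j a = 0 from hcol j hj]
    have e' := vecMul_dotProduct_mulVec ψ g (Pi.single a 1)
    rw [e, dotProduct_smul, smul_eq_mul, dotProduct_single_one, dotProduct_single_one, show ψ a = 0 by simp [ψ]] at e'
    rcases mul_eq_zero.1 (show G a a * (ψ ᵥ* ((g⁻¹ : GL (Fin 3) F) : Matrix (Fin 3) (Fin 3) F)) a = 0 from e')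
      with h0 | h0
    · exfalso
      rw [h0, zero_smul] at e
      have := congrArg (fun x => ((g⁻¹ : GL (Fin 3) F) : Matrix (Fin 3) (Fin 3) F) *ᵥ x) e
      simp only [G, inv_mulVec_mulVec, Matrix.mulVec_zero] at this
      exact one_ne_zero (Pi.single_eq_zero_iff.1 this)
    · rw [dotProduct_single_one]; exact h0
  have hu : HasTv M (Pi.single a 1) (ψ ᵥ* ((g⁻¹ : GL (Fin 3) F) : Matrix (Fin 3) (Fin 3) F)) := by
    refine ⟨hd, ?_⟩
    have e : tvec (Pi.single a 1) (ψ ᵥ* ((g⁻¹ : GL (Fin 3) F) : Matrix (Fin 3) (Fin 3) F)) hd =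
        torus w * g * (torus w)⁻¹ * g⁻¹ := Units.ext (by
      rw [tvec_val, Units.val_mul (torus w * g * (torus w)⁻¹), hconj, add_mul, ← Units.val_mul, mul_inv_cancel,
        Units.val_one, Matrix.vecMulVec_mul])
    rw [e]; exact M.mul_mem (M.mul_mem (M.mul_mem hh hg) (M.inv_mem hh)) (M.inv_mem hg)
  by_contra h0
  refine hP.proper (sl_le_of_crossing hP.field hP.le hu fun h1 => ?_)
  have h2 := congrFun (congrArg (fun φ => φ ᵥ* (g : Matrix (Fin 3) (Fin 3) F)) h1) l
  simp only [Matrix.vecMul_vecMul, ← Units.val_mul, inv_mul_cancel, Units.val_one, Matrix.vecMul_one,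
    Matrix.zero_vecMul, ψ, if_neg hl, Pi.zero_apply] at h2
  refine h0 ((mul_eq_zero.1 h2).resolve_left fun h3 => hs ?_)
  rw [sub_eq_zero] at h3
  have := s.ne_zero
  field_simp at h3
  linear_combination -h3

/-- A zero below the diagonal of the block. -/
lemma Proper.diag_of_zero {g : GL (Fin 3) F} (hg : g ∈ M) {a b c : Fin 3} (hab : a ≠ b) (hca : c ≠ a)
    (hcb : c ≠ b) (hcol : ∀ i, i ≠ a → (g : Matrix (Fin 3) (Fin 3) F) i a = 0)
    (h : (g : Matrix (Fin 3) (Fin 3) F) c b = 0) : g ∈ monomialGroup (Fin 3) F := by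
  have hcolb : ∀ i, i ≠ b → (g : Matrix (Fin 3) (Fin 3) F) i b = 0 := fun i hi => by
    rcases cases_three a b c i hab hca hcb with rfl | rfl | rfl
    · exact hP.row_zero hg hcol hab.symm
    · exact absurd rfl hi
    · exact h
  refine ⟨1, fun i j hij => ?_⟩
  rw [Equiv.Perm.one_apply] at hij
  rcases cases_three a b c j hab hca hcb with rfl | rfl | rfl
  · exact hcol i hij
  · exact hcolb i hij
  · rcases cases_three a b j i hab hca hcb with rfl | rfl | rfl
    · exact hP.row_zero hg hcol hca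
    · exact hP.row_zero hg hcolb hcb
    · exact absurd rfl hij

omit hP in
lemma mon_of_mul {x g : GL (Fin 3) F} (hx : x ∈ monomialGroup (Fin 3) F)
    (h : x * g ∈ monomialGroup (Fin 3) F) : g ∈ monomialGroup (Fin 3) F := by
  have := (monomialGroup (Fin 3) F).mul_mem ((monomialGroup (Fin 3) F).inv_mem hx) h
  rwa [inv_mul_cancel_left] at this

lemma Proper.exists_swap {a b c : Fin 3} (hab : a ≠ b) (hca : c ≠ a) (hcb : c ≠ b) :
    ∃ x ∈ M, x ∈ monomialGroup (Fin 3) F ∧ ∀ g : GL (Fin 3) F, ∀ j,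
      ((x * g : GL (Fin 3) F) : Matrix (Fin 3) (Fin 3) F) a j = -(g : Matrix (Fin 3) (Fin 3) F) a j ∧
      ((x * g : GL (Fin 3) F) : Matrix (Fin 3) (Fin 3) F) b j = (g : Matrix (Fin 3) (Fin 3) F) c j ∧
      ((x * g : GL (Fin 3) F) : Matrix (Fin 3) (Fin 3) F) c j = (g : Matrix (Fin 3) (Fin 3) F) b j := by
  set x := mon (Equiv.swap b c) (tri a b (-1 : Fˣ) 1 1) with hx
  refine ⟨x, hP.le ⟨mon_mem _ _, mem_specialLinear.2 ?_⟩, mon_mem _ _, fun g j => ?_⟩
  · rw [det_mon, prod_three hab hca hcb, tri_a, tri_b hab, tri_c hca hcb, Equiv.Perm.sign_swap hcb.symm]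
    simp
  · have e : ∀ i, ((x * g : GL (Fin 3) F) : Matrix (Fin 3) (Fin 3) F) (Equiv.swap b c i) j =
        (tri a b (-1 : Fˣ) 1 1 i : F) * (g : Matrix (Fin 3) (Fin 3) F) i j := fun i => by
      rw [Units.val_mul]
      exact mon_mulVec _ _ (fun l => (g : Matrix (Fin 3) (Fin 3) F) l j) i
    refine ⟨?_, ?_, ?_⟩
    · have := e a; rw [Equiv.swap_apply_of_ne_of_ne hab hca.symm, tri_a] at this; simpa using this
    · have := e c; rw [Equiv.swap_apply_right, tri_c hca hcb] at this; simpa using this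
    · have := e b; rw [Equiv.swap_apply_left, tri_b hab] at this; simpa using this

/-- A zero in the block. -/
lemma Proper.mono_of_zero {g : GL (Fin 3) F} (hg : g ∈ M) {a b c : Fin 3} (hab : a ≠ b) (hca : c ≠ a)
    (hcb : c ≠ b) (hcol : ∀ i, i ≠ a → (g : Matrix (Fin 3) (Fin 3) F) i a = 0)
    (h : (g : Matrix (Fin 3) (Fin 3) F) b b = 0) : g ∈ monomialGroup (Fin 3) F := by
  obtain ⟨x, hx, hxm, he⟩ := hP.exists_swap hab hca hcb
  refine mon_of_mul hxm (hP.diag_of_zero (M.mul_mem hx hg) hab hca hcb (fun i hi => ?_) ?_)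
  · rcases cases_three a b c i hab hca hcb with rfl | rfl | rfl
    · exact absurd rfl hi
    · rw [(he g a).2.1]; exact hcol c hca
    · rw [(he g a).2.2]; exact hcol b hab.symm
  · rw [(he g b).2.2]; exact h

omit hP in
lemma block_mul {g h : GL (Fin 3) F} {a b c : Fin 3} (hab : a ≠ b) (hca : c ≠ a) (hcb : c ≠ b)
    (w : Fin 3 → Fˣ) {i j : Fin 3} (hi : (g : Matrix (Fin 3) (Fin 3) F) i a = 0) :
    ((g * torus w * h : GL (Fin 3) F) : Matrix (Fin 3) (Fin 3) F) i j =
      (g : Matrix (Fin 3) (Fin 3) F) i b * (w b : F) * (h : Matrix (Fin 3) (Fin 3) F) b j +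
      (g : Matrix (Fin 3) (Fin 3) F) i c * (w c : F) * (h : Matrix (Fin 3) (Fin 3) F) c j := by
  rw [Units.val_mul, Matrix.mul_apply, sum_three hab hca hcb, mul_torus_apply, mul_torus_apply, mul_torus_apply,
    hi]
  ring

/-- The relation between the entries of a block without zeros. -/
lemma Proper.block_rel {g : GL (Fin 3) F} (hg : g ∈ M) {a b c : Fin 3} (hab : a ≠ b) (hca : c ≠ a)
    (hcb : c ≠ b) (hcol : ∀ i, i ≠ a → (g : Matrix (Fin 3) (Fin 3) F) i a = 0)
    (hne : g ∉ monomialGroup (Fin 3) F) :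
    (g : Matrix (Fin 3) (Fin 3) F) b b * (g : Matrix (Fin 3) (Fin 3) F) c c +
      (g : Matrix (Fin 3) (Fin 3) F) b c * (g : Matrix (Fin 3) (Fin 3) F) c b = 0 := by
  set G : Matrix (Fin 3) (Fin 3) F := (g : Matrix (Fin 3) (Fin 3) F)
  have hbb : G b b ≠ 0 := fun h => hne (hP.mono_of_zero hg hab hca hcb hcol h)
  have hbc : G b c ≠ 0 := fun h => hne (hP.diag_of_zero hg hca.symm hab.symm hcb.symm hcol h)
  have hcbne : G c b ≠ 0 := fun h => hne (hP.diag_of_zero hg hab hca hcb hcol h)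
  have hrowa : G a b = 0 := hP.row_zero hg hcol hab.symm
  have hrowc : G a c = 0 := hP.row_zero hg hcol hca
  have hdet : G b b * G c c - G b c * G c b ≠ 0 := by
    intro h0
    have e : G *ᵥ (G b c • Pi.single b 1 - G b b • Pi.single c 1) = 0 := funext fun i => by
      simp only [Matrix.mulVec_sub, Matrix.mulVec_smul, Matrix.mulVec_single_one, Pi.sub_apply, Pi.smul_apply,
        Matrix.col_apply, smul_eq_mul, Pi.zero_apply]
      rcases cases_three a b c i hab hca hcb with rfl | rfl | rfl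
      · rw [hrowa, hrowc]; ring
      · ring
      · linear_combination -h0
    have := congrArg (fun x => ((g⁻¹ : GL (Fin 3) F) : Matrix (Fin 3) (Fin 3) F) *ᵥ x) e
    simp only [G, inv_mulVec_mulVec, Matrix.mulVec_zero] at this
    have := congrFun this c
    simp [hcb] at this
    exact hbb this
  set u : Fˣ := Units.mk0 (G b c * G c b) (mul_ne_zero hbc hcbne)
  set v : Fˣ := Units.mk0 (-(G b b * G b b)) (neg_ne_zero.2 (mul_ne_zero hbb hbb))
  set w := tri a b (u * v)⁻¹ u v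
  set y := g * torus w * g
  have hy : y ∈ M := M.mul_mem (M.mul_mem hg (torus_mem3 hP.le hab hca hcb _ _ _ (by group))) hg
  have hycol : ∀ i, i ≠ a → (y : Matrix (Fin 3) (Fin 3) F) i a = 0 := fun i hi => by
    rw [block_mul hab hca hcb w (hcol i hi), show (g : Matrix (Fin 3) (Fin 3) F) b a = 0 from hcol b hab.symm,
      show (g : Matrix (Fin 3) (Fin 3) F) c a = 0 from hcol c hca]; ring
  have hybb : (y : Matrix (Fin 3) (Fin 3) F) b b = 0 := by
    rw [block_mul hab hca hcb w (hcol b hab.symm)]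
    simp [w, u, v, G, tri_b hab, tri_c hca hcb]; ring
  obtain ⟨π, hπ⟩ := hP.mono_of_zero hy hab hca hcb hycol hybb
  have hya : π a = a := by
    by_contra h
    obtain ⟨i, hi⟩ := col_ne_zero y a
    rcases eq_or_ne i a with rfl | hia
    · exact hi (hπ i i (Ne.symm h))
    · exact hi (hycol i hia)
  have hybπ : π b ≠ b := fun h => by
    obtain ⟨i, hi⟩ := col_ne_zero y b
    by_cases hib : i = b
    · exact hi (hib ▸ hybb)
    · exact hi (hπ i b (h.symm ▸ hib))
  have hπc : π c = b := ((perm_two a b c π hab hca hcb hya).resolve_left fun h => hybπ h.1).2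
  have hycc : (y : Matrix (Fin 3) (Fin 3) F) c c = 0 := hπ c c (hπc.symm ▸ hcb)
  rw [block_mul hab hca hcb w (hcol c hca)] at hycc
  simp [w, u, v, G, tri_b hab, tri_c hca hcb] at hycc
  have e : (G b b * G c c + G b c * G c b) * (G b b * G c c - G b c * G c b) = 0 := by
    linear_combination -hycc
  exact (mul_eq_zero.1 e).resolve_right hdet

lemma Proper.block_large (h7 : 7 ≤ Fintype.card F) {g : GL (Fin 3) F} (hg : g ∈ M) {a b c : Fin 3}
    (hab : a ≠ b) (hca : c ≠ a) (hcb : c ≠ b) (hcol : ∀ i, i ≠ a → (g : Matrix (Fin 3) (Fin 3) F) i a = 0) :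
    g ∈ monomialGroup (Fin 3) F := by
  classical
  by_contra hne
  set G : Matrix (Fin 3) (Fin 3) F := (g : Matrix (Fin 3) (Fin 3) F)
  have hrel : G b b * G c c + G b c * G c b = 0 := hP.block_rel hg hab hca hcb hcol hne
  have hbb : G b b ≠ 0 := fun h => hne (hP.mono_of_zero hg hab hca hcb hcol h)
  have hcc : G c c ≠ 0 := fun h => hne (hP.mono_of_zero hg hca.symm hab.symm hcb.symm hcol h)
  have hbc : G b c ≠ 0 := fun h => hne (hP.diag_of_zero hg hca.symm hab.symm hcb.symm hcol h)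
  have hcbne : G c b ≠ 0 := fun h => hne (hP.diag_of_zero hg hab hca hcb hcol h)
  obtain ⟨s, hs0, hs1, hsm, hsq⟩ : ∃ s : F, s ≠ 0 ∧ s ≠ 1 ∧ s ≠ -1 ∧ s ^ 2 ≠ -1 := by
    by_contra h
    push Not at h
    have hsub : (Finset.univ : Finset F) ⊆ {0, 1, -1} ∪ (Polynomial.nthRoots 2 (-1 : F)).toFinset := fun x _ => by
      by_cases h1 : x = 0 ∨ x = 1 ∨ x = -1
      · exact Finset.mem_union_left _ (by simpa using h1)
      · push Not at h1
        exact Finset.mem_union_right _ (Multiset.mem_toFinset.2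
          ((Polynomial.mem_nthRoots two_pos).2 (h x h1.1 h1.2.1 h1.2.2)))
    have h1 := (Finset.card_le_card hsub).trans (Finset.card_union_le _ _)
    rw [Finset.card_univ] at h1
    have h2 := (Multiset.toFinset_card_le (Polynomial.nthRoots 2 (-1 : F))).trans (Polynomial.card_nthRoots 2 (-1))
    have h3 : ({0, 1, -1} : Finset F).card ≤ 3 := Finset.card_le_three
    omega
  set u : Fˣ := Units.mk0 (G b c * G c b) (mul_ne_zero hbc hcbne)
  set v : Fˣ := Units.mk0 (s * (G b b * G b b)) (mul_ne_zero hs0 (mul_ne_zero hbb hbb))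
  set w := tri a b (u * v)⁻¹ u v
  set y := g * torus w * g
  have hy : y ∈ M := M.mul_mem (M.mul_mem hg (torus_mem3 hP.le hab hca hcb _ _ _ (by group))) hg
  have hycol : ∀ i, i ≠ a → (y : Matrix (Fin 3) (Fin 3) F) i a = 0 := fun i hi => by
    rw [block_mul hab hca hcb w (hcol i hi), show (g : Matrix (Fin 3) (Fin 3) F) b a = 0 from hcol b hab.symm,
      show (g : Matrix (Fin 3) (Fin 3) F) c a = 0 from hcol c hca]; ring
  have ybb : (y : Matrix (Fin 3) (Fin 3) F) b b = (1 + s) * (G b b * G b b * (G b c * G c b)) := by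
    rw [block_mul hab hca hcb w (hcol b hab.symm)]
    simp [w, u, v, G, tri_b hab, tri_c hca hcb]; ring
  have ybc : (y : Matrix (Fin 3) (Fin 3) F) b c = (1 - s) * (G b b * G b c * (G b c * G c b)) := by
    rw [block_mul hab hca hcb w (hcol b hab.symm)]
    simp [w, u, v, G, tri_b hab, tri_c hca hcb]
    linear_combination (s * (g : Matrix (Fin 3) (Fin 3) F) b b * (g : Matrix (Fin 3) (Fin 3) F) b c) * hrel
  have ycb : (y : Matrix (Fin 3) (Fin 3) F) c b = (1 - s) * (G b b * G c b * (G b c * G c b)) := by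
    rw [block_mul hab hca hcb w (hcol c hca)]
    simp [w, u, v, G, tri_b hab, tri_c hca hcb]
    linear_combination (s * (g : Matrix (Fin 3) (Fin 3) F) b b * (g : Matrix (Fin 3) (Fin 3) F) c b) * hrel
  have ycc : (y : Matrix (Fin 3) (Fin 3) F) c c = (1 + s) * (G b c * G c b * (G b c * G c b)) := by
    rw [block_mul hab hca hcb w (hcol c hca)]
    simp [w, u, v, G, tri_b hab, tri_c hca hcb]
    linear_combination (s * ((g : Matrix (Fin 3) (Fin 3) F) b b * (g : Matrix (Fin 3) (Fin 3) F) c c -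
      (g : Matrix (Fin 3) (Fin 3) F) b c * (g : Matrix (Fin 3) (Fin 3) F) c b)) * hrel
  have h1s : (1 : F) + s ≠ 0 := fun h => hsm (by linear_combination h)
  have h1s' : (1 : F) - s ≠ 0 := sub_ne_zero.2 hs1.symm
  have hym : y ∉ monomialGroup (Fin 3) F := by
    rintro ⟨π, hπ⟩
    have a1 : b = π b := by_contra fun e => mul_ne_zero h1s (mul_ne_zero (mul_ne_zero hbb hbb)
      (mul_ne_zero hbc hcbne)) (ybb.symm.trans (hπ b b e))
    have a2 : c = π b := by_contra fun e => mul_ne_zero h1s' (mul_ne_zero (mul_ne_zero hbb hcbne)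
      (mul_ne_zero hbc hcbne)) (ycb.symm.trans (hπ c b e))
    exact hcb (a2.trans a1.symm)
  have h := hP.block_rel hy hab hca hcb hycol hym
  rw [ybb, ybc, ycb, ycc] at h
  have e : (G b b * G b c * G c b) ^ 2 * (G b c * G c b) * (2 * (1 + s ^ 2)) = 0 := by linear_combination h
  have h2 : (2 : F) ≠ 0 := fun h2 => by
    have : G b b * G c c - G b c * G c b = 0 := by linear_combination hrel - G b c * G c b * h2
    have hd := mem_specialLinear.1 (hP.special hg)
    have e' : G *ᵥ (G b c • Pi.single b 1 - G b b • Pi.single c 1) = 0 := funext fun i => by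
      simp only [Matrix.mulVec_sub, Matrix.mulVec_smul, Matrix.mulVec_single_one, Pi.sub_apply, Pi.smul_apply,
        Matrix.col_apply, smul_eq_mul, Pi.zero_apply]
      rcases cases_three a b c i hab hca hcb with rfl | rfl | rfl
      · rw [show G i b = 0 from hP.row_zero hg hcol hab.symm, show G i c = 0 from hP.row_zero hg hcol hca]; ring
      · ring
      · linear_combination -this
    have h3 := congrArg (fun x => ((g⁻¹ : GL (Fin 3) F) : Matrix (Fin 3) (Fin 3) F) *ᵥ x) e'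
    simp only [G, inv_mulVec_mulVec, Matrix.mulVec_zero] at h3
    have := congrFun h3 c
    simp [hcb] at this
    exact hbb this
  rcases mul_eq_zero.1 e with h' | h'
  · exact mul_ne_zero (pow_ne_zero 2 (mul_ne_zero (mul_ne_zero hbb hbc) hcbne)) (mul_ne_zero hbc hcbne) h'
  · exact hsq (by linear_combination (mul_eq_zero.1 h').resolve_left h2)

lemma Proper.block_five (h5 : Fintype.card F = 5) {g : GL (Fin 3) F} (hg : g ∈ M) {a b c : Fin 3}
    (hab : a ≠ b) (hca : c ≠ a) (hcb : c ≠ b) (hcol : ∀ i, i ≠ a → (g : Matrix (Fin 3) (Fin 3) F) i a = 0) :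
    g ∈ monomialGroup (Fin 3) F := by
  by_contra hne
  have hF : (5 : F) = 0 := by
    have := FiniteField.cast_card_eq_zero F
    rw [h5] at this
    exact_mod_cast this
  set G : Matrix (Fin 3) (Fin 3) F := (g : Matrix (Fin 3) (Fin 3) F)
  have hrel : G b b * G c c + G b c * G c b = 0 := hP.block_rel hg hab hca hcb hcol hne
  have hbb : G b b ≠ 0 := fun h => hne (hP.mono_of_zero hg hab hca hcb hcol h)
  have hbc : G b c ≠ 0 := fun h => hne (hP.diag_of_zero hg hca.symm hab.symm hcb.symm hcol h)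
  have hcbne : G c b ≠ 0 := fun h => hne (hP.diag_of_zero hg hab hca hcb hcol h)
  have hrab : G a b = 0 := hP.row_zero hg hcol hab.symm
  have hrac : G a c = 0 := hP.row_zero hg hcol hca
  set p : Fˣ := Units.mk0 _ hbb
  set q : Fˣ := Units.mk0 _ hcbne
  set r : Fˣ := Units.mk0 _ hbc
  have hm1 := torus_mem3 hP.le hab hca hcb (p * q) p⁻¹ q⁻¹ (by rw [mul_comm p q, mul_inv_cancel_right, mul_inv_cancel])
  have hm2 := torus_mem3 hP.le hab hca hcb (r * p⁻¹) 1 (p * r⁻¹) (by group)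
  set H := torus (tri a b (p * q) p⁻¹ q⁻¹) * g * torus (tri a b (r * p⁻¹) 1 (p * r⁻¹))
  have hH : H ∈ M := M.mul_mem (M.mul_mem hm1 hg) hm2
  have hHv : ∀ i j, (H : Matrix (Fin 3) (Fin 3) F) i j = (tri a b (p * q) p⁻¹ q⁻¹ i : F) * G i j *
      (tri a b (r * p⁻¹) 1 (p * r⁻¹) j : F) := fun i j => by rw [mul_torus_apply, torus_mul_apply]
  -- bring to the first coordinate
  obtain ⟨π, hπa, hπb, hπc⟩ := perm_std a b c hab hca hcb
  obtain ⟨A, hA, hAv⟩ := exists_perm_conj hP.le π hH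
  have vv : ∀ i j, (A : Matrix (Fin 3) (Fin 3) F) (π i) (π j) = (H : Matrix (Fin 3) (Fin 3) F) i j := hAv
  have A11 : (A : Matrix (Fin 3) (Fin 3) F) 1 1 = 1 := by
    rw [← hπb, vv, hHv]; simp [tri_b hab, p, G, hbb]
  have A12 : (A : Matrix (Fin 3) (Fin 3) F) 1 2 = 1 := by
    rw [← hπb, ← hπc, vv, hHv]; simp [tri_b hab, tri_c hca hcb, p, r, G]
    field_simp
    exact div_self (mul_ne_zero hbb hbc)
  have A21 : (A : Matrix (Fin 3) (Fin 3) F) 2 1 = 1 := by
    rw [← hπb, ← hπc, vv, hHv]; simp [tri_b hab, tri_c hca hcb, q, G, hcbne]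
  have A22 : (A : Matrix (Fin 3) (Fin 3) F) 2 2 = -1 := by
    rw [← hπc, vv, hHv, show G c c = -(G b c * G c b) / G b b by rw [eq_div_iff hbb]; linear_combination hrel]
    simp [tri_c hca hcb, p, q, r]
    field_simp
  have A10 : (A : Matrix (Fin 3) (Fin 3) F) 1 0 = 0 := by
    rw [← hπb, ← hπa, vv, hHv, show G b a = 0 from hcol b hab.symm]; ring
  have A20 : (A : Matrix (Fin 3) (Fin 3) F) 2 0 = 0 := by
    rw [← hπc, ← hπa, vv, hHv, show G c a = 0 from hcol c hca]; ring
  have A01 : (A : Matrix (Fin 3) (Fin 3) F) 0 1 = 0 := by rw [← hπa, ← hπb, vv, hHv, hrab]; ring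
  have A02 : (A : Matrix (Fin 3) (Fin 3) F) 0 2 = 0 := by rw [← hπa, ← hπc, vv, hHv, hrac]; ring
  have A00 : (A : Matrix (Fin 3) (Fin 3) F) 0 0 = 2 := by
    have hd := mem_specialLinear.1 (hP.special hA)
    rw [Matrix.det_fin_three, A11, A12, A21, A22, A10, A20, A01, A02] at hd
    linear_combination (2 : F) * hd + ((A : Matrix (Fin 3) (Fin 3) F) 0 0) * hF
  obtain ⟨B, hB, hBv⟩ := exists_perm_conj hP.le (Equiv.swap 0 1) hA
  obtain ⟨C, hC, hCv⟩ := exists_perm_conj hP.le (finRotate 3)⁻¹ hA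
  have eA : (A : Matrix (Fin 3) (Fin 3) F) = !![2, 0, 0; 0, 1, 1; 0, 1, -1] := by
    ext i j; fin_cases i <;> fin_cases j <;> simp [A00, A01, A02, A10, A11, A12, A20, A21, A22]
  have eB : (B : Matrix (Fin 3) (Fin 3) F) = !![1, 0, 1; 0, 2, 0; 1, 0, -1] := by
    ext i j
    obtain ⟨i, rfl⟩ := (Equiv.swap (0 : Fin 3) 1).surjective i
    obtain ⟨j, rfl⟩ := (Equiv.swap (0 : Fin 3) 1).surjective j
    rw [hBv, eA]
    fin_cases i <;> fin_cases j <;> simp [Equiv.swap_apply_def]
  have eC : (C : Matrix (Fin 3) (Fin 3) F) = !![1, 1, 0; 1, -1, 0; 0, 0, 2] := by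
    ext i j
    obtain ⟨i, rfl⟩ := (finRotate 3)⁻¹.surjective i
    obtain ⟨j, rfl⟩ := (finRotate 3)⁻¹.surjective j
    rw [hCv, eA]
    fin_cases i <;> fin_cases j <;> simp [finRotate_succ_apply, Equiv.Perm.inv_def, Equiv.symm_apply_eq]
  have h3 : (3 : F) ≠ 0 := fun h => by
    exact one_ne_zero (show (1 : F) = 0 by linear_combination 2 * h - hF)
  set t : GL (Fin 3) F := torus (tri 0 1 1 (Units.mk0 3 h3) (Units.mk0 3 h3)⁻¹)
  have ht : t ∈ M := torus_mem3 (c := 2) hP.le (by decide) (by decide) (by decide) _ _ _ (by group)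
  have et : (t : Matrix (Fin 3) (Fin 3) F) = !![1, 0, 0; 0, 3, 0; 0, 0, 2] := by
    have h32 : (3 : F)⁻¹ = 2 := inv_eq_of_mul_eq_one_right (by linear_combination hF)
    ext i j
    fin_cases i <;> fin_cases j <;> simp [t, torus, mon_apply, tri, h32]
  set W := B * A * C * t * B
  have hW : W ∈ M := M.mul_mem (M.mul_mem (M.mul_mem (M.mul_mem hB hA) hC) ht) hB
  have eW : (W : Matrix (Fin 3) (Fin 3) F) = !![2, 0, 0; 0, 1, 1; 0, 1, -1] * 0 +
      !![1, 0, 1; 0, 2, 0; 1, 0, -1] * !![2, 0, 0; 0, 1, 1; 0, 1, -1] * !![1, 1, 0; 1, -1, 0; 0, 0, 2] *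
        !![1, 0, 0; 0, 3, 0; 0, 0, 2] * !![1, 0, 1; 0, 2, 0; 1, 0, -1] := by
    simp only [W, Units.val_mul, eA, eB, eC, et, mul_zero, zero_add]
  have h := hP.row_zero hW (a := 0) (fun i hi => ?_) (l := 1) (by decide)
  · rw [eW] at h
    simp [Matrix.mul_apply, Fin.sum_univ_three] at h
    exact one_ne_zero (show (1 : F) = 0 by grind)
  · rw [eW]
    fin_cases i
    · exact absurd rfl hi
    · simp [Matrix.mul_apply, Fin.sum_univ_three]; grind
    · simp [Matrix.mul_apply, Fin.sum_univ_three]; grind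

/-- Elements fixing a coordinate line are monomial. -/
lemma Proper.line {g : GL (Fin 3) F} (hg : g ∈ M) {a : Fin 3}
    (hcol : ∀ i, i ≠ a → (g : Matrix (Fin 3) (Fin 3) F) i a = 0) : g ∈ monomialGroup (Fin 3) F := by
  obtain ⟨b, hba, -⟩ := third a a
  obtain ⟨c, hca, hcb⟩ := third a b
  by_cases h7 : 7 ≤ Fintype.card F
  · exact hP.block_large h7 hg hba.symm hca hcb hcol
  · refine hP.block_five ?_ hg hba.symm hca hcb hcol
    obtain ⟨p, hp⟩ := CharP.exists F
    obtain ⟨k, hpp, hk⟩ := FiniteField.card F p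
    have h5 := hP.field
    by_contra h
    have h6 : Fintype.card F = 6 := by omega
    rw [h6] at hk
    have e2 : 2 = p := (Nat.prime_dvd_prime_iff_eq Nat.prime_two hpp).1
      (Nat.prime_two.dvd_of_dvd_pow (n := (k : ℕ)) (by omega))
    have e3 : 3 = p := (Nat.prime_dvd_prime_iff_eq Nat.prime_three hpp).1
      (Nat.prime_three.dvd_of_dvd_pow (n := (k : ℕ)) (by omega))
    omega

/-- An element with a column of one entry is monomial. -/
lemma Proper.of_single {g : GL (Fin 3) F} (hg : g ∈ M) {a i : Fin 3}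
    (h : ∀ k, k ≠ i → (g : Matrix (Fin 3) (Fin 3) F) k a = 0) : g ∈ monomialGroup (Fin 3) F := by
  by_cases hia : i = a
  · exact hP.line hg (hia ▸ h)
  obtain ⟨c, hca, hci⟩ := third a i
  obtain ⟨x, hx, hxm, he⟩ := hP.exists_swap (a := c) (b := a) (c := i) hca hci.symm hia
  refine mon_of_mul hxm (hP.line (M.mul_mem hx hg) (a := a) fun k hk => ?_)
  rcases cases_three c a i k hca hci.symm hia with rfl | rfl | rfl
  · rw [(he g a).1, h k hci, neg_zero]
  · exact absurd rfl hk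
  · rw [(he g a).2.2]; exact h a (Ne.symm hia)

/-- A conjugated monomial element permutes the other two columns. -/
lemma Proper.conj_col {g x : GL (Fin 3) F} (hg : g ∈ M) (hxM : x ∈ M) {a : Fin 3} {γ : F}
    (hxa : (x : Matrix (Fin 3) (Fin 3) F) *ᵥ (fun i => (g : Matrix (Fin 3) (Fin 3) F) i a) =
      γ • fun i => (g : Matrix (Fin 3) (Fin 3) F) i a) :
    g⁻¹ * x * g ∈ monomialGroup (Fin 3) F ∧ ∀ π, IsMonoAt (g⁻¹ * x * g) π → π a = a ∧ ∀ l, ∃ μ : F, μ ≠ 0 ∧
      (x : Matrix (Fin 3) (Fin 3) F) *ᵥ (fun i => (g : Matrix (Fin 3) (Fin 3) F) i l) =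
        μ • fun i => (g : Matrix (Fin 3) (Fin 3) F) i (π l) := by
  set y := g⁻¹ * x * g
  have hcol : ∀ l, (fun i => (g : Matrix (Fin 3) (Fin 3) F) i l) = (g : Matrix (Fin 3) (Fin 3) F) *ᵥ Pi.single l 1 :=
    fun l => by funext i; rw [Matrix.mulVec_single_one]; rfl
  have hyl : ∀ l, (y : Matrix (Fin 3) (Fin 3) F) *ᵥ Pi.single l 1 = ((g⁻¹ : GL (Fin 3) F) : Matrix (Fin 3) (Fin 3) F) *ᵥ
      ((x : Matrix (Fin 3) (Fin 3) F) *ᵥ fun i => (g : Matrix (Fin 3) (Fin 3) F) i l) := fun l => by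
    simp only [y, mul_mulVec, hcol]
  have hya : ∀ i, i ≠ a → (y : Matrix (Fin 3) (Fin 3) F) i a = 0 := fun i hi => by
    have := congrFun (hyl a) i
    rw [Matrix.mulVec_single_one, hxa, hcol, Matrix.mulVec_smul, inv_mulVec_mulVec] at this
    simpa [Pi.single_eq_of_ne hi] using this
  refine ⟨hP.line (M.mul_mem (M.mul_mem (M.inv_mem hg) hxM) hg) hya, fun π hπ => ⟨?_, fun l => ?_⟩⟩
  · by_contra h
    obtain ⟨i, hi⟩ := col_ne_zero y a
    rcases eq_or_ne i a with rfl | hia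
    · exact hi (hπ i i (Ne.symm h))
    · exact hi (hya i hia)
  · obtain ⟨i, hi⟩ := col_ne_zero y l
    obtain rfl : i = π l := by_contra fun e => hi (hπ i l e)
    refine ⟨_, hi, ?_⟩
    have e : (y : Matrix (Fin 3) (Fin 3) F) *ᵥ Pi.single l 1 =
        (y : Matrix (Fin 3) (Fin 3) F) (π l) l • (Pi.single (π l) 1 : Fin 3 → F) := funext fun k => by
      rw [Matrix.mulVec_single_one, Pi.smul_apply, smul_eq_mul]
      by_cases hk : k = π l
      · subst hk; simp
      · rw [Pi.single_eq_of_ne hk, mul_zero]; exact hπ k l hk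
    have e2 := congrArg (fun v => (g : Matrix (Fin 3) (Fin 3) F) *ᵥ v) ((hyl l).symm.trans e)
    simpa only [mulVec_inv_mulVec, Matrix.mulVec_smul, ← hcol] using e2

/-- A column without zeros makes all columns multiples of it by cube roots of unity. -/
lemma Proper.ratios {g : GL (Fin 3) F} (hg : g ∈ M) {a : Fin 3}
    (hv : ∀ i, (g : Matrix (Fin 3) (Fin 3) F) i a ≠ 0) (l : Fin 3) :
    ∃ κ : F, κ ^ 3 = 1 ∧ (l ≠ a → κ ≠ 1) ∧ (∀ i, (g : Matrix (Fin 3) (Fin 3) F) i l ≠ 0) ∧
      ∀ i, (g : Matrix (Fin 3) (Fin 3) F) (i + 1) l * (g : Matrix (Fin 3) (Fin 3) F) i a =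
        κ * (g : Matrix (Fin 3) (Fin 3) F) i l * (g : Matrix (Fin 3) (Fin 3) F) (i + 1) a := by
  set G : Matrix (Fin 3) (Fin 3) F := (g : Matrix (Fin 3) (Fin 3) F)
  let c : Fin 3 → Fˣ := fun y => Units.mk0 (G (y + 1) a / G y a) (div_ne_zero (hv _) (hv _))
  set σ : Equiv.Perm (Fin 3) := finRotate 3
  have hσ : ∀ y, σ y = y + 1 := fun y => finRotate_succ_apply y
  set X := mon σ c
  have hXv : ∀ (v : Fin 3 → F) (y : Fin 3), ((X : Matrix (Fin 3) (Fin 3) F) *ᵥ v) (y + 1) = (c y : F) * v y :=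
    fun v y => by rw [← hσ]; exact mon_mulVec σ c v y
  have hXM : X ∈ M := by
    refine hP.le ⟨mon_mem _ _, mem_specialLinear.2 ?_⟩
    rw [det_mon, show Equiv.Perm.sign σ = 1 by decide, Fin.prod_univ_three]
    simp only [c, Units.val_mk0, Units.val_one, Int.cast_one, one_mul, show (0 : Fin 3) + 1 = 1 from rfl,
      show (1 : Fin 3) + 1 = 2 from rfl, show (2 : Fin 3) + 1 = 0 from rfl]
    have := hv 0; have := hv 1; have := hv 2
    field_simp
  have hXa : (X : Matrix (Fin 3) (Fin 3) F) *ᵥ (fun i => G i a) = (1 : F) • fun i => G i a := funext fun i => by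
    obtain ⟨y, rfl⟩ : ∃ y, i = y + 1 := ⟨i - 1, (sub_add_cancel i 1).symm⟩
    rw [hXv]; simp [c, div_mul_cancel₀ _ (hv y)]
  obtain ⟨⟨π, hπ⟩, hp⟩ := hP.conj_col hg hXM hXa
  obtain ⟨hπa, hcols⟩ := hp π hπ
  have hX3 : ∀ v, (X : Matrix (Fin 3) (Fin 3) F) *ᵥ ((X : Matrix (Fin 3) (Fin 3) F) *ᵥ
      ((X : Matrix (Fin 3) (Fin 3) F) *ᵥ v)) = v := fun v => funext fun i => by
    obtain ⟨y, rfl⟩ : ∃ y, i = y + 1 + 1 + 1 := ⟨i, by revert i; decide⟩
    rw [hXv, hXv, hXv]
    simp only [c, Units.val_mk0]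
    rw [show v (y + 1 + 1 + 1) = v y by congr 1; revert y; decide, show y + 1 + 1 + 1 = y by revert y; decide]
    have := hv y; have := hv (y + 1); have := hv (y + 1 + 1)
    field_simp
  have hπ3 : π = 1 := by
    refine perm_fix a π hπa (Equiv.ext fun j => ?_)
    rw [Equiv.Perm.mul_apply, Equiv.Perm.mul_apply, Equiv.Perm.one_apply]
    obtain ⟨μ₁, h₁, e₁⟩ := hcols j
    obtain ⟨μ₂, h₂, e₂⟩ := hcols (π j)
    obtain ⟨μ₃, h₃, e₃⟩ := hcols (π (π j))
    have e := hX3 fun i => G i j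
    rw [e₁, Matrix.mulVec_smul, e₂, Matrix.mulVec_smul, Matrix.mulVec_smul, e₃] at e
    by_contra hne
    have e' := congrArg (fun v => ((g⁻¹ : GL (Fin 3) F) : Matrix (Fin 3) (Fin 3) F) *ᵥ v) e
    have hcol : ∀ k, (fun i => G i k) = G *ᵥ Pi.single k 1 :=
      fun k => by funext i; rw [Matrix.mulVec_single_one]; rfl
    simp only [hcol, Matrix.mulVec_smul, G, inv_mulVec_mulVec] at e'
    have := congrFun e' (π (π (π j)))
    simp [hne, h₁, h₂, h₃] at this
  obtain ⟨μ, hμ, hX⟩ := hcols l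
  rw [hπ3, Equiv.Perm.one_apply] at hX
  have hrec : ∀ y, G (y + 1) a / G y a * G y l = μ * G (y + 1) l := fun y => by
    have h := congrFun hX (y + 1)
    rwa [hXv] at h
  have hfull : ∀ i, G i l ≠ 0 := by
    intro i h0
    have hnext : ∀ y, G y l = 0 → G (y + 1) l = 0 := fun y hy => by
      have := hrec y
      rw [hy, mul_zero] at this
      exact (mul_eq_zero.1 this.symm).resolve_left hμ
    obtain ⟨k, hk⟩ := col_ne_zero g l
    rcases succ_cases i k with rfl | rfl | rfl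
    · exact hk h0
    · exact hk (hnext _ h0)
    · exact hk (hnext _ (hnext _ h0))
  refine ⟨μ⁻¹, ?_, fun hla e => ?_, hfull, fun i => ?_⟩
  · rw [inv_pow, inv_eq_one]
    have h := hX3 fun i => G i l
    rw [hX, Matrix.mulVec_smul, hX, Matrix.mulVec_smul, Matrix.mulVec_smul, hX] at h
    have h0 := congrFun h 0
    simp only [Pi.smul_apply, smul_eq_mul] at h0
    exact mul_right_cancel₀ (hfull 0) (by linear_combination h0)
  · rw [inv_eq_one] at e
    subst e
    have hprop : ∀ i, G i l = G 0 l / G 0 a * G i a := by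
      intro i
      have h01 := hrec 0
      have h12 := hrec 1
      simp only [show (0 : Fin 3) + 1 = 1 from rfl, show (1 : Fin 3) + 1 = 2 from rfl, one_mul] at h01 h12
      have := hv 0; have := hv 1
      fin_cases i
      · simp only [Fin.zero_eta]; field_simp
      · simp only [Fin.mk_one]; rw [← h01]; field_simp
      · simp only [Fin.reduceFinMk]; rw [← h12, ← h01]; field_simp
    have e : G *ᵥ (Pi.single l 1 - (G 0 l / G 0 a) • Pi.single a 1) = 0 := funext fun i => by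
      simp [Matrix.mulVec_sub, Matrix.mulVec_smul, hprop i]
    have := congrArg (fun x => ((g⁻¹ : GL (Fin 3) F) : Matrix (Fin 3) (Fin 3) F) *ᵥ x) e
    simp only [G, inv_mulVec_mulVec, Matrix.mulVec_zero] at this
    have := congrFun this l
    simp [hla] at this
  · have h := hrec i
    have := hv i
    field_simp at h ⊢
    linear_combination -h

/-- Outside the monomial group every entry is non-zero. -/
lemma Proper.entry_ne {g : GL (Fin 3) F} (hg : g ∈ M) (hgm : g ∉ monomialGroup (Fin 3) F) (p a : Fin 3) :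
    (g : Matrix (Fin 3) (Fin 3) F) p a ≠ 0 := by
  intro hp
  set G : Matrix (Fin 3) (Fin 3) F := (g : Matrix (Fin 3) (Fin 3) F)
  obtain ⟨s, hs⟩ := exists_pow_ne 3 (Or.inl rfl) hP.field
  -- the step: the two other columns have the same zeros
  have step : ∀ p a, G p a = 0 → ∀ j l, a ≠ j → l ≠ a → l ≠ j →
      (∀ r, G r j = 0 ↔ G r l = 0) ∧ G p j ≠ 0 := by
    intro p a hp j l haj hla hlj
    obtain ⟨r, hrp, -⟩ := third p p
    obtain ⟨r', hr'p, hr'r⟩ := third p r
    set w := tri p r (s ^ 2)⁻¹ s s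
    have hh : torus w ∈ M := torus_mem3 hP.le hrp.symm hr'p hr'r _ _ _ (by group)
    have hw : ∀ i, i ≠ p → (w i : F) = s := fun i hi => by
      rcases cases_three p r r' i hrp.symm hr'p hr'r with rfl | rfl | rfl
      · exact absurd rfl hi
      · simp [w, tri_b hrp.symm]
      · simp [w, tri_c hr'p hr'r]
    have hwp : (w p : F) ≠ s := by
      simp only [w, tri_a, Units.val_inv_eq_inv_val, Units.val_pow_eq_pow_val]
      intro e
      have := s.ne_zero
      field_simp at e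
      exact hs (by linear_combination -e)
    have hfix : (torus w : Matrix (Fin 3) (Fin 3) F) *ᵥ (fun i => G i a) = (s : F) • fun i => G i a :=
      funext fun i => by
        rw [torus_mulVec, Pi.smul_apply, smul_eq_mul]
        rcases eq_or_ne i p with rfl | hi
        · rw [hp]; ring
        · rw [hw i hi]
    obtain ⟨⟨π, hπ⟩, hp'⟩ := hP.conj_col hg hh hfix
    obtain ⟨hπa, hcols⟩ := hp' π hπ
    have hfixed : ∀ k, π k = k → G p k = 0 := fun k hk => by
      obtain ⟨μ, hμ, e⟩ := hcols k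
      rw [hk] at e
      by_contra h0
      refine hgm (hP.of_single hg (a := k) (i := p) fun i hi => ?_)
      have e1 := congrFun e p
      have e2 := congrFun e i
      simp only [torus_mulVec, Pi.smul_apply, smul_eq_mul] at e1 e2
      rw [hw i hi] at e2
      by_contra h1
      exact hwp ((mul_right_cancel₀ h0 e1).trans (mul_right_cancel₀ h1 e2).symm)
    rcases perm_two a j l π haj hla hlj hπa with ⟨hj, hl⟩ | ⟨hj, hl⟩
    · exfalso
      obtain ⟨k, hk⟩ := row_ne_zero g p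
      rcases cases_three a j l k haj hla hlj with rfl | rfl | rfl
      · exact hk hp
      · exact hk (hfixed _ hj)
      · exact hk (hfixed _ hl)
    · obtain ⟨μ, hμ, e⟩ := hcols j
      rw [hj] at e
      have hiff : ∀ r, G r j = 0 ↔ G r l = 0 := fun r => by
        have := congrFun e r
        rw [torus_mulVec, Pi.smul_apply, smul_eq_mul] at this
        constructor
        · intro h; rw [show (g : Matrix (Fin 3) (Fin 3) F) r j = 0 from h, mul_zero] at this; exact (mul_eq_zero.1 this.symm).resolve_left hμ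
        · intro h; rw [show (g : Matrix (Fin 3) (Fin 3) F) r l = 0 from h, mul_zero] at this; exact (mul_eq_zero.1 this).resolve_left (w r).ne_zero
      refine ⟨hiff, fun h => ?_⟩
      obtain ⟨k, hk⟩ := row_ne_zero g p
      rcases cases_three a j l k haj hla hlj with rfl | rfl | rfl
      · exact hk hp
      · exact hk h
      · exact hk ((hiff p).1 h)
  obtain ⟨j, hja, -⟩ := third a a
  obtain ⟨l, hla, hlj⟩ := third a j
  obtain ⟨hjl, hpj⟩ := step p a hp j l hja.symm hla hlj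
  by_cases hfull : ∀ r, G r j ≠ 0
  · exact (hP.ratios hg hfull a).choose_spec.2.2.1 p hp
  push Not at hfull
  obtain ⟨p', hp'⟩ := hfull
  have hpp : p' ≠ p := fun e => hpj (e ▸ hp')
  obtain ⟨hal, -⟩ := step p' j hp' a l hja hlj hla
  obtain ⟨r, hrp, hrp'⟩ := third p p'
  refine hgm (hP.of_single hg (a := l) (i := r) fun i hi => ?_)
  rcases cases_three p p' r i hpp.symm hrp hrp' with rfl | rfl | rfl
  · exact (hal _).1 hp
  · exact (hjl _).1 hp'
  · exact absurd rfl hi

/-- Every element is monomial. -/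
theorem Proper.le_monomial : M ≤ monomialGroup (Fin 3) F := by
  intro g hg
  by_contra hgm
  set G : Matrix (Fin 3) (Fin 3) F := (g : Matrix (Fin 3) (Fin 3) F)
  set H : Matrix (Fin 3) (Fin 3) F := ((g⁻¹ : GL (Fin 3) F) : Matrix (Fin 3) (Fin 3) F)
  have hG := hP.entry_ne hg hgm
  obtain ⟨κ₁, hκ₁, hne₁, -, e₁⟩ := hP.ratios hg (a := 0) (fun i => hG i 0) 1
  obtain ⟨κ₂, hκ₂, hne₂, -, e₂⟩ := hP.ratios hg (a := 0) (fun i => hG i 0) 2
  have hq₁ : κ₁ ^ 2 + κ₁ + 1 = 0 := (mul_eq_zero.1 (show (κ₁ - 1) * (κ₁ ^ 2 + κ₁ + 1) = 0 by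
    linear_combination hκ₁)).resolve_left (sub_ne_zero.2 (hne₁ (by decide)))
  have hq₂ : κ₂ ^ 2 + κ₂ + 1 = 0 := (mul_eq_zero.1 (show (κ₂ - 1) * (κ₂ ^ 2 + κ₂ + 1) = 0 by
    linear_combination hκ₂)).resolve_left (sub_ne_zero.2 (hne₂ (by decide)))
  have h3 : (3 : F) ≠ 0 := fun h => hne₁ (by decide) (sub_eq_zero.1 (pow_eq_zero_iff two_ne_zero |>.1
    (show (κ₁ - 1) ^ 2 = 0 by linear_combination hq₁ - κ₁ * h)))
  let u : Fin 3 → F := fun i => (3 * G i 0)⁻¹
  have hu : ∀ j, ∑ i, u i * G i j = (Pi.single (0 : Fin 3) (1 : F) : Fin 3 → F) j := by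
    intro j
    have n0 : G 0 0 ≠ 0 := hG 0 0; have n1 : G 1 0 ≠ 0 := hG 1 0; have n2 : G 2 0 ≠ 0 := hG 2 0
    rw [Fin.sum_univ_three]
    simp only [u]
    fin_cases j
    · simp only [Fin.zero_eta, Pi.single_eq_same]
      field_simp
      ring
    · have a1 := e₁ 0; have a2 := e₁ 1
      simp only [show (0 : Fin 3) + 1 = 1 from rfl, show (1 : Fin 3) + 1 = 2 from rfl] at a1 a2
      simp only [Fin.mk_one, Pi.single_eq_of_ne (show (1 : Fin 3) ≠ 0 by decide)]
      have b1 : (g : Matrix (Fin 3) (Fin 3) F) 1 1 = κ₁ * G 0 1 * G 1 0 / G 0 0 := by rw [eq_div_iff n0]; exact a1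
      have b2 : (g : Matrix (Fin 3) (Fin 3) F) 2 1 = κ₁ * G 1 1 * G 2 0 / G 1 0 := by rw [eq_div_iff n1]; exact a2
      simp only [G] at b1 b2 n0 n1 n2 ⊢
      rw [b2, b1]
      field_simp
      linear_combination (g : Matrix (Fin 3) (Fin 3) F) 0 1 * hq₁
    · have a1 := e₂ 0; have a2 := e₂ 1
      simp only [show (0 : Fin 3) + 1 = 1 from rfl, show (1 : Fin 3) + 1 = 2 from rfl] at a1 a2
      simp only [Fin.reduceFinMk, Pi.single_eq_of_ne (show (2 : Fin 3) ≠ 0 by decide)]
      have b1 : (g : Matrix (Fin 3) (Fin 3) F) 1 2 = κ₂ * G 0 2 * G 1 0 / G 0 0 := by rw [eq_div_iff n0]; exact a1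
      have b2 : (g : Matrix (Fin 3) (Fin 3) F) 2 2 = κ₂ * G 1 2 * G 2 0 / G 1 0 := by rw [eq_div_iff n1]; exact a2
      simp only [G] at b1 b2 n0 n1 n2 ⊢
      rw [b2, b1]
      field_simp
      linear_combination (g : Matrix (Fin 3) (Fin 3) F) 0 2 * hq₂
  have hrow : ∀ l, H 0 l = u l := fun l => by
    have e : u ᵥ* G = Pi.single 0 1 := funext hu
    have e' := congrArg (fun φ => φ ᵥ* H) e
    simp only [G, H, Matrix.vecMul_vecMul, ← Units.val_mul, mul_inv_cancel, Units.val_one, Matrix.vecMul_one,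
      Matrix.single_one_vecMul] at e'
    exact (congrFun e' l).symm
  obtain ⟨s, hs9⟩ := exists_pow_ne 9 (Or.inr rfl) hP.field
  set σ : F := ((s : F) ^ 3)⁻¹
  set w : Fin 3 → Fˣ := tri 0 1 (s ^ 2)⁻¹ s s
  set y := g * torus w * g⁻¹
  have hy : y ∈ M :=
    M.mul_mem (M.mul_mem hg (torus_mem3 (c := 2) hP.le (by decide) (by decide) (by decide) _ _ _ (by group)))
      (M.inv_mem hg)
  have hyv : ∀ i l, (y : Matrix (Fin 3) (Fin 3) F) i l =
      (s : F) * ((1 : Matrix (Fin 3) (Fin 3) F) i l + (σ - 1) * (G i 0 * u l)) := fun i l => by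
    have hone : ∑ m, G i m * H m l = (1 : Matrix (Fin 3) (Fin 3) F) i l := by
      rw [← Matrix.mul_apply, ← Units.val_mul, mul_inv_cancel, Units.val_one]
    rw [← hrow, ← hone, Units.val_mul, Matrix.mul_apply, Fin.sum_univ_three, Fin.sum_univ_three,
      mul_torus_apply, mul_torus_apply, mul_torus_apply]
    have := s.ne_zero
    simp [w, tri, σ, G, H]
    field_simp
    ring
  have hσ1 : σ - 1 ≠ 0 := fun e => hs9 (by
    have := inv_eq_one.1 (sub_eq_zero.1 e)
    linear_combination ((s : F) ^ 6 + (s : F) ^ 3 + 1) * this)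
  have hoff : ∀ i l, i ≠ l → (y : Matrix (Fin 3) (Fin 3) F) i l ≠ 0 := fun i l hil => by
    rw [hyv, Matrix.one_apply_ne hil, zero_add]
    exact mul_ne_zero s.ne_zero (mul_ne_zero hσ1 (mul_ne_zero (hG i 0) (inv_ne_zero (mul_ne_zero h3 (hG l 0)))))
  have hym : y ∉ monomialGroup (Fin 3) F := by
    rintro ⟨π, hπ⟩
    have c1 : (1 : Fin 3) = π 0 := by_contra fun e => hoff 1 0 (by decide) (hπ 1 0 e)
    have c2 : (2 : Fin 3) = π 0 := by_contra fun e => hoff 2 0 (by decide) (hπ 2 0 e)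
    exact absurd (c1.trans c2.symm) (by decide)
  have hY := hP.entry_ne hy hym
  obtain ⟨κ, hκ, -, -, eκ⟩ := hP.ratios hy (a := 0) (fun i => hY i 0) 1
  have e2 := eκ 2
  simp only [show (2 : Fin 3) + 1 = 0 from rfl] at e2
  rw [hyv, hyv, hyv, hyv, Matrix.one_apply_ne (show (0 : Fin 3) ≠ 1 by decide),
    Matrix.one_apply_ne (show (2 : Fin 3) ≠ 0 by decide), Matrix.one_apply_ne (show (2 : Fin 3) ≠ 1 by decide),
    Matrix.one_apply_eq] at e2
  have n0 := hG 0 0; have n1 := hG 1 0; have n2 := hG 2 0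
  have key : σ - 1 = κ * (σ + 2) := by
    simp only [u] at e2
    have := s.ne_zero
    field_simp at e2
    refine mul_left_cancel₀ (mul_ne_zero (mul_ne_zero hσ1 n2) h3) ?_
    grind
  have hc : (σ - 1) ^ 3 = (σ + 2) ^ 3 := by rw [key, mul_pow, hκ, one_mul]
  have h9 : σ ^ 2 + σ + 1 = 0 := by
    refine (mul_eq_zero.1 (show (3 * 3) * (σ ^ 2 + σ + 1) = 0 by linear_combination -hc)).resolve_left ?_
    exact mul_ne_zero h3 h3
  refine hs9 ?_
  have h10 : σ ^ 3 = 1 := by linear_combination (σ - 1) * h9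
  rw [inv_pow, inv_eq_one] at h10
  linear_combination h10

omit hP in
/-- The monomial subgroup has no proper overgroup in dimension three. -/
theorem key3 (hq : 5 ≤ Fintype.card F) (hX : monomialGroup (Fin 3) F ⊓ specialLinear (Fin 3) F ≤ M)
    (hMI : M ≤ specialLinear (Fin 3) F) (hMX : ¬ M ≤ monomialGroup (Fin 3) F) :
    specialLinear (Fin 3) F ≤ M :=
  by_contra fun hne => hMX (Proper.le_monomial ⟨hq, hX, hMI, hne⟩)

end CfsgLib.Geo.SL3.Lines
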