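/-
Overgroups of the orthogonal similarity group in dimension three, odd characteristic.
-/
import Cfsg.Agent.Geo.SLFour.Quadric

set_option autoImplicit false

namespace CfsgLib.Geo.SL3.Orth

open Matrix Cfsg Cfsg.Geo CfsgLib.Geo CfsgLib.Geo.Orth

variable {ι : Type} [Fintype ι] [DecidableEq ι] {F : Type*} [Field F] [Finite F]
  {f : (ι → F) → (ι → F) → F} (hf : IsSymmForm f)
  {M : Subgroup (GL ι F)} (hM : similarityGroup f ⊓ specialLinear ι F ≤ M)
include hf

omit [Finite F] in
lemma axis_smul (c : F) (u : ι → F) : axisOf f (c • u) = c • axisOf f u :=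
  funext fun i => smul_right hf c _ u

omit [Finite F] in
lemma axis_add (u v : ι → F) : axisOf f (u + v) = axisOf f u + axisOf f v :=
  funext fun i => add_right hf _ u v

omit [Finite F] in
/-- The negative of the reflection in an anisotropic vector. -/
lemma exists_neg_refl (h3 : Fintype.card ι = 3) {v : ι → F} (hv : f v v ≠ 0) :
    ∃ r : GL ι F, r ∈ similarityGroup f ⊓ specialLinear ι F ∧
      (∀ y z, f ((r : Matrix ι ι F) *ᵥ y) ((r : Matrix ι ι F) *ᵥ z) = f y z) ∧
      ∀ y, (r : Matrix ι ι F) *ᵥ y = -y + (2 * f y v / f v v) • v := by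
  let A : Matrix ι ι F := -(1 + vecMulVec v ((-2 / f v v) • axisOf f v))
  have hdet : A.det = 1 := by
    rw [Matrix.det_neg, h3, det_one_add_vecMulVec, smul_dotProduct, (linLeft hf).dot, smul_eq_mul,
      div_mul_cancel₀ _ hv]
    norm_num
  let r : GL ι F := Matrix.GeneralLinearGroup.mkOfDetNeZero A (by rw [hdet]; exact one_ne_zero)
  have hr : ∀ y, (r : Matrix ι ι F) *ᵥ y = -y + (2 * f y v / f v v) • v := fun y => by
    change A *ᵥ y = _
    simp only [A, Matrix.neg_mulVec, Matrix.add_mulVec, Matrix.one_mulVec, Matrix.vecMulVec_mulVec,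
      op_smul_eq_smul, smul_dotProduct, (linLeft hf).dot, smul_eq_mul]
    match_scalars <;> ring
  have hiso : ∀ y z, f ((r : Matrix ι ι F) *ᵥ y) ((r : Matrix ι ι F) *ᵥ z) = f y z := fun y z => by
    rw [hr, hr, ← neg_one_smul F y, ← neg_one_smul F z]
    simp only [hf.add_left, add_right hf, hf.smul_left, smul_right hf, hf.symm v z]
    field_simp
    ring
  exact ⟨r, ⟨⟨1, fun y z => by rw [hiso, Units.val_one, one_mul]⟩, mem_specialLinear.2 hdet⟩, hiso, hr⟩

/-- Two independent orthogonal singular vectors do not exist. -/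
lemma mem_span_of_singular (h3 : Fintype.card ι = 3) {b c : ι → F} (hb0 : b ≠ 0) (hb : f b b = 0)
    (hbc : f b c = 0) (hc : f c c = 0) : c ∈ F ∙ b := by
  by_contra hcm
  obtain ⟨p, hbp, hpc⟩ := exists_dual_of_fn hf ![c] (w := b) (by
    rw [Matrix.range_cons, Matrix.range_empty, Set.union_empty]
    intro h
    obtain ⟨e, he⟩ := Submodule.mem_span_singleton.1 h
    rcases eq_or_ne e 0 with rfl | he0
    · exact hb0 (by rw [← he, zero_smul])
    · exact hcm (Submodule.mem_span_singleton.2 ⟨e⁻¹, by rw [← he, smul_smul, inv_mul_cancel₀ he0, one_smul]⟩))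
  have hpc : f p c = 0 := by simpa using hpc 0
  have hli : LinearIndependent F ![b, c, p] := by
    rw [Fintype.linearIndependent_iff]
    intro r hr
    rw [Fin.sum_univ_three] at hr
    simp only [Matrix.cons_val_zero, Matrix.cons_val_one, Matrix.cons_val_two, Matrix.head_cons,
      Matrix.tail_cons] at hr
    have e1 := congrArg (fun x => f x b) hr
    simp only [hf.add_left, hf.smul_left, hb, hf.symm c b, hbc, hf.symm p b, hbp, zero_left hf, mul_zero,
      mul_one, zero_add] at e1
    rw [e1, zero_smul, add_zero] at hr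
    have e3 : r 1 = 0 := by
      by_contra h
      exact hcm (Submodule.mem_span_singleton.2 ⟨-r 0 / r 1, smul_right_injective _ h (by
        simp only [smul_smul, mul_div_cancel₀ _ h]
        rw [neg_smul]
        exact neg_eq_of_add_eq_zero_right hr)⟩)
    rw [e3, zero_smul, add_zero] at hr
    intro i
    fin_cases i
    exacts [(smul_eq_zero.1 hr).resolve_right hb0, e3, e1]
  have hsp := hli.span_eq_top_of_card_eq_finrank (by simp [h3])
  have hc0 : c ≠ 0 := fun e => hcm (e ▸ Submodule.zero_mem _)
  obtain ⟨y, hy⟩ := (hf.nondegenerate _ hc0).1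
  refine hy ?_
  have hy' : y ∈ Submodule.span F (Set.range ![b, c, p]) := hsp ▸ Submodule.mem_top
  obtain ⟨s, rfl⟩ := (Submodule.mem_span_range_iff_exists_fun F).1 hy'
  simp [Fin.sum_univ_three, hf.add_left, hf.smul_left, hc, hbc, hpc, add_right hf, smul_right hf, hf.symm c b,
    hf.symm c p]

/-- An anisotropic vector orthogonal to two given orthogonal anisotropic ones. -/
lemma exists_third (h3 : Fintype.card ι = 3) {a u : ι → F} (ha : f a a ≠ 0) (hu : f u u ≠ 0)
    (hau : f a u = 0) :
    ∃ w, f w w ≠ 0 ∧ f w a = 0 ∧ f w u = 0 ∧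
      ∀ y, y = (f y a / f a a) • a + (f y u / f u u) • u + (f y w / f w w) • w := by
  let R : (ι → F) →ₗ[F] (Fin 2 → F) := LinearMap.pi fun j => lin hf (![a, u] j)
  have h1 := R.finrank_range_add_finrank_ker
  have h2 : Module.finrank F (LinearMap.range R) ≤ 2 := by
    simpa using Submodule.finrank_le (LinearMap.range R)
  rw [Module.finrank_fintype_fun_eq_card] at h1
  obtain ⟨w, hw, hw0⟩ := Submodule.exists_mem_ne_zero_of_ne_bot (p := LinearMap.ker R) fun e => by
    rw [e, finrank_bot] at h1; omega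
  have hwa : f w a = 0 := congrFun (LinearMap.mem_ker.1 hw) 0
  have hwu : f w u = 0 := congrFun (LinearMap.mem_ker.1 hw) 1
  have haw : f a w = 0 := by rw [hf.symm, hwa]
  have huw : f u w = 0 := by rw [hf.symm, hwu]
  have hua : f u a = 0 := by rw [hf.symm, hau]
  have hli : LinearIndependent F ![a, u, w] := by
    rw [Fintype.linearIndependent_iff]
    intro r hr
    rw [Fin.sum_univ_three] at hr
    simp only [Matrix.cons_val_zero, Matrix.cons_val_one, Matrix.cons_val_two, Matrix.head_cons,
      Matrix.tail_cons] at hr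
    have e1 := congrArg (fun x => f x a) hr
    have e2 := congrArg (fun x => f x u) hr
    simp only [hf.add_left, hf.smul_left, hua, hwa, hau, hwu, zero_left hf, mul_zero, zero_add, add_zero] at e1 e2
    have r1 := (mul_eq_zero.1 e1).resolve_right ha
    have r2 := (mul_eq_zero.1 e2).resolve_right hu
    rw [r1, r2, zero_smul, zero_smul, zero_add, zero_add] at hr
    intro i
    fin_cases i
    exacts [r1, r2, (smul_eq_zero.1 hr).resolve_right hw0]
  have hsp := hli.span_eq_top_of_card_eq_finrank (by simp [h3])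
  have hrep : ∀ y, ∃ r : Fin 3 → F, r 0 • a + r 1 • u + r 2 • w = y := fun y => by
    have hy : y ∈ Submodule.span F (Set.range ![a, u, w]) := hsp ▸ Submodule.mem_top
    obtain ⟨r, hr⟩ := (Submodule.mem_span_range_iff_exists_fun F).1 hy
    exact ⟨r, by rw [← hr, Fin.sum_univ_three]; simp⟩
  have hww : f w w ≠ 0 := fun h0 => by
    obtain ⟨y, hy⟩ := (hf.nondegenerate w hw0).1
    obtain ⟨r, rfl⟩ := hrep y
    exact hy (by simp [hf.add_left, add_right hf, hf.smul_left, smul_right hf, haw, huw, hwa, hwu, h0])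
  refine ⟨w, hww, hwa, hwu, fun y => ?_⟩
  obtain ⟨r, rfl⟩ := hrep y
  simp only [hf.add_left, hf.smul_left, hua, hwa, hau, hwu, haw, huw, mul_zero, zero_add, add_zero]
  rw [mul_div_cancel_right₀ _ ha, mul_div_cancel_right₀ _ hu, mul_div_cancel_right₀ _ hww]

lemma exists_partner' {z : ι → F} (hz : f z z = 0) (hz0 : z ≠ 0) :
    ∃ z', f z' z' = 0 ∧ f z z' = 1 ∧ f z' z = 1 ∧ True := by
  obtain ⟨p, hzp, -⟩ := exists_dual_of_fn hf (Fin.elim0 : Fin 0 → (ι → F)) (w := z) (by simpa using hz0)
  have h2 := hf.two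
  refine ⟨p + (-f p p / 2) • z, ?_, ?_, ?_, trivial⟩
  · simp only [hf.add_left, add_right hf, hf.smul_left, smul_right hf, hz, hzp, hf.symm p z]
    field_simp
    ring
  · rw [add_right hf, smul_right hf, hzp, hz, mul_zero, add_zero]
  · rw [hf.add_left, hf.smul_left, hf.symm p z, hzp, hz, mul_zero, add_zero]

/-- A frame at a singular vector. -/
lemma exists_frame (h3 : Fintype.card ι = 3) {b : ι → F} (hb : f b b = 0) (hb0 : b ≠ 0) :
    ∃ e c, f e e ≠ 0 ∧ f c c = 0 ∧ f b c = 1 ∧ f c b = 1 ∧ f e b = 0 ∧ f b e = 0 ∧ f e c = 0 ∧ f c e = 0 ∧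
      ∀ y, y = f y c • b + (f y e / f e e) • e + f y b • c := by
  obtain ⟨c, hc, hbc, hcb, -⟩ := exists_partner' hf hb hb0
  have h2 := hf.two
  obtain ⟨w, hw, hwa, hwu, hdec⟩ := exists_third hf h3 (a := b + c) (u := b + (-1 : F) • c)
    (by simp [hf.add_left, add_right hf, hb, hc, hbc, hcb, ← two_mul, h2])
    (by simp only [hf.add_left, add_right hf, hf.smul_left, smul_right hf, hb, hc, hbc, hcb]
        intro e
        exact h2 (by linear_combination -e))
    (by simp only [hf.add_left, add_right hf, hf.smul_left, smul_right hf, hb, hc, hbc, hcb]; ring)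
  rw [add_right hf] at hwa
  rw [add_right hf, smul_right hf] at hwu
  have hwb : f w b = 0 := by
    have : 2 * f w b = 0 := by linear_combination hwa + hwu
    exact (mul_eq_zero.1 this).resolve_left h2
  have hwc : f w c = 0 := by linear_combination hwa - hwb
  refine ⟨w, c, hw, hc, hbc, hcb, hwb, by rw [hf.symm, hwb], hwc, by rw [hf.symm, hwc], fun y => ?_⟩
  conv_lhs => rw [hdec y]
  simp only [hf.add_left, hf.smul_left, add_right hf, smul_right hf, hb, hc, hbc, hcb]
  match_scalars <;> norm_num <;> field_simp <;> ring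

variable (h3 : Fintype.card ι = 3)
include hM h3

omit [Finite F] in
lemma move_neg_refl {v : ι → F} (hv : f v v ≠ 0) {a u : ι → F} (h : HasTv M a (axisOf f u)) :
    HasTv M (-a + (2 * f a v / f v v) • v) (axisOf f (-u + (2 * f u v / f v v) • v)) := by
  obtain ⟨r, hr, hiso, hre⟩ := exists_neg_refl hf h3 hv
  rw [← hre, ← hre]
  exact hasTv_moved hf hM (hM hr) hiso h

omit hf hM h3 in
lemma smul_mulVec' (g : GL ι F) {y z : ι → F} (h : (g : Matrix ι ι F) *ᵥ y = z) (c : F) :
    (g : Matrix ι ι F) *ᵥ (c • y) = c • z := by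
  rw [Matrix.mulVec_smul, h]

omit [Finite F] hM h3 in
/-- Two elements agreeing on a frame are equal. -/
lemma ext_frame {b e c : ι → F}
    (hdec : ∀ y, y = f y c • b + (f y e / f e e) • e + f y b • c) {X Y : GL ι F}
    (hb : (X : Matrix ι ι F) *ᵥ b = (Y : Matrix ι ι F) *ᵥ b)
    (he : (X : Matrix ι ι F) *ᵥ e = (Y : Matrix ι ι F) *ᵥ e)
    (hc : (X : Matrix ι ι F) *ᵥ c = (Y : Matrix ι ι F) *ᵥ c) : X = Y :=
  gl_ext_mulVec fun y => by
    rw [hdec y]
    simp only [Matrix.mulVec_add, Matrix.mulVec_smul, hb, he, hc]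

/-- Two elements of `M` agreeing at a singular point and modulo it are equal, if there is no transvection. -/
lemma eq_of_agree (hno : ∀ a φ : ι → F, a ≠ 0 → HasTv M a φ → φ = 0) {b e c : ι → F}
    (hdec : ∀ y, y = f y c • b + (f y e / f e e) • e + f y b • c) (hb0 : b ≠ 0) {X Y : GL ι F}
    (hX : X ∈ M) (hY : Y ∈ M) {γ : F} (hXb : (X : Matrix ι ι F) *ᵥ b = γ • b)
    (hYb : (Y : Matrix ι ι F) *ᵥ b = γ • b)
    (he : ∃ r : F, (X : Matrix ι ι F) *ᵥ e = (Y : Matrix ι ι F) *ᵥ e + r • b)
    (hc : ∃ r : F, (X : Matrix ι ι F) *ᵥ c = (Y : Matrix ι ι F) *ᵥ c + r • b) : X = Y := by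
  have hγ : γ ≠ 0 := fun h => hb0 (by
    rw [← inv_mulVec_mulVec X b, hXb, h, zero_smul, Matrix.mulVec_zero])
  have hYi : ((Y⁻¹ : GL ι F) : Matrix ι ι F) *ᵥ b = γ⁻¹ • b := by
    conv_rhs => rw [← inv_mulVec_mulVec Y b, hYb, Matrix.mulVec_smul, smul_smul, inv_mul_cancel₀ hγ, one_smul]
  by_contra hne
  obtain ⟨r, hr⟩ := he
  obtain ⟨s, hs⟩ := hc
  have hKb : ((Y⁻¹ * X : GL ι F) : Matrix ι ι F) *ᵥ b = b := by
    rw [mul_mulVec, hXb, Matrix.mulVec_smul, hYi, smul_smul, mul_inv_cancel₀ hγ, one_smul]
  obtain ⟨φ, hφ, h⟩ := Orth4.hasTv_of_fix (M.mul_mem (M.inv_mem hY) hX) hb0 hKb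
    (fun y => ⟨(f y e / f e e) * (r * γ⁻¹) + f y b * (s * γ⁻¹), by
      conv_lhs => rw [hdec y]
      conv_rhs => enter [1]; rw [hdec y]
      simp only [Matrix.mulVec_add, Matrix.mulVec_smul, hKb]
      simp only [mul_mulVec, hr, hs, Matrix.mulVec_add, Matrix.mulVec_smul, inv_mulVec_mulVec, hYi]
      module⟩) (fun h => hne (inv_mul_eq_one.1 h).symm)
  exact hφ (hno b φ hb0 h)

/-- Elements fixing a singular point are similarities unless there is a transvection. -/
lemma point_stabiliser (hMI : M ≤ specialLinear ι F)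
    (hno : ∀ a φ : ι → F, a ≠ 0 → HasTv M a φ → φ = 0) {g : GL ι F} (hg : g ∈ M) {b : ι → F}
    (hb : f b b = 0) (hb0 : b ≠ 0) {γ : F} (hgb : (g : Matrix ι ι F) *ᵥ b = γ • b) :
    g ∈ similarityGroup f := by
  have h2 := hf.two
  obtain ⟨e, c, hee, hc, hbc, hcb, heb, hbe, hec, hce, hdec⟩ := exists_frame hf h3 hb hb0
  have hagree := @eq_of_agree ι _ _ F _ _ f hf M hM h3 hno b e c hdec hb0
  have hγ : γ ≠ 0 := fun h => hb0 (by
    rw [← inv_mulVec_mulVec g b, hgb, h, zero_smul, Matrix.mulVec_zero])
  have hcoord : ∀ p q r : F, p • b + q • e + r • c = 0 → q = 0 ∧ r = 0 := fun p q r h => by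
    have e1 := congrArg (fun v => f v b) h
    have e2 := congrArg (fun v => f v e) h
    simp only [hf.add_left, hf.smul_left, hb, heb, hcb, hbe, hce, zero_left hf, mul_zero, mul_one, zero_add,
      add_zero] at e1 e2
    exact ⟨(mul_eq_zero.1 e2).resolve_right hee, e1⟩
  -- root elements at `b`
  have hroot : ∀ t : F, ∃ E ∈ M, (∀ y z, f ((E : Matrix ι ι F) *ᵥ y) ((E : Matrix ι ι F) *ᵥ z) = f y z) ∧
      (E : Matrix ι ι F) *ᵥ b = b ∧
      (E : Matrix ι ι F) *ᵥ e = e + (-(t * f e e)) • b ∧
      (E : Matrix ι ι F) *ᵥ c = c + t • e + (-(t * t * f e e) / 2) • b := by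
    intro t
    have htb : f (t • e) b = 0 := by rw [hf.smul_left, heb, mul_zero]
    obtain ⟨E, hE, hEe⟩ := exists_root hf hM hb htb
    refine ⟨E, hE, isH_preserves hf hb htb hEe, ?_, ?_, ?_⟩
    all_goals rw [hEe]
    all_goals simp only [hf.smul_left, smul_right hf, hb, hbc, hcb, heb, hbe, hec, hce]
    all_goals match_scalars <;> ring
  choose E hEM hEiso hEb hEe hEc using hroot
  obtain ⟨x0, δ, w0, hge⟩ : ∃ x δ w : F, (g : Matrix ι ι F) *ᵥ e = x • b + δ • e + w • c :=
    ⟨_, _, _, hdec _⟩
  obtain ⟨z0, y0, η, hgc⟩ : ∃ x δ w : F, (g : Matrix ι ι F) *ᵥ c = x • b + δ • e + w • c :=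
    ⟨_, _, _, hdec _⟩
  have hindep : ∀ q r : F, q * δ + r * y0 = 0 → q * w0 + r * η = 0 → q = 0 ∧ r = 0 := by
    intro q r h1 h2'
    have e1 : (g : Matrix ι ι F) *ᵥ (-((q * x0 + r * z0) / γ) • b + q • e + r • c) = 0 := by
      rw [Matrix.mulVec_add, Matrix.mulVec_add, Matrix.mulVec_smul, Matrix.mulVec_smul, Matrix.mulVec_smul,
        hgb, hge, hgc]
      match_scalars
      · field_simp; ring
      · linear_combination h1
      · linear_combination h2'
    have e2 := congrArg (fun v => ((g⁻¹ : GL ι F) : Matrix ι ι F) *ᵥ v) e1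
    simp only [inv_mulVec_mulVec, Matrix.mulVec_zero] at e2
    exact hcoord _ _ _ e2
  -- the plane orthogonal to `b` is preserved
  have hw0 : w0 = 0 := by
    by_contra hw
    -- an element with zero corner
    set p := -(δ / w0)
    set g₁ := E p * g
    have hg₁M : g₁ ∈ M := M.mul_mem (hEM _) hg
    have h1b : (g₁ : Matrix ι ι F) *ᵥ b = γ • b := by simp only [g₁, mul_mulVec, hgb, Matrix.mulVec_smul, hEb]
    obtain ⟨r1, h1e⟩ : ∃ r : F, (g₁ : Matrix ι ι F) *ᵥ e = w0 • c + r • b := by
      refine ⟨x0 - δ * (p * f e e) + w0 * (-(p * p * f e e) / 2), ?_⟩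
      simp only [g₁, mul_mulVec, hge, Matrix.mulVec_add, Matrix.mulVec_smul, hEb, hEe, hEc]
      match_scalars <;> simp only [p] <;> field_simp <;> ring
    obtain ⟨r2, h1c⟩ : ∃ r : F, (g₁ : Matrix ι ι F) *ᵥ c = (y0 + η * p) • e + η • c + r • b := by
      refine ⟨z0 - y0 * (p * f e e) + η * (-(p * p * f e e) / 2), ?_⟩
      simp only [g₁, mul_mulVec, hgc, Matrix.mulVec_add, Matrix.mulVec_smul, hEb, hEe, hEc]
      module
    have hy1 : y0 + η * p ≠ 0 := by
      intro h
      simp only [p] at h
      field_simp at h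
      exact hw (neg_eq_zero.1 (hindep η (-w0) (by linear_combination -h) (by ring)).2)
    -- lower root elements modulo `b`
    have hlow : ∀ s : F, ∃ L ∈ M, (L : Matrix ι ι F) *ᵥ b = b ∧
        (∃ r : F, (L : Matrix ι ι F) *ᵥ e = e + s • c + r • b) ∧ ∃ r : F, (L : Matrix ι ι F) *ᵥ c = c + r • b := by
      intro s
      set t := s * (y0 + η * p) / w0
      set A := g₁ * E t * g₁⁻¹
      have hA : ∀ v, (A : Matrix ι ι F) *ᵥ ((g₁ : Matrix ι ι F) *ᵥ v) =
          (g₁ : Matrix ι ι F) *ᵥ ((E t : Matrix ι ι F) *ᵥ v) := fun v => by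
        simp only [A, mul_mulVec, inv_mulVec_mulVec]
      have hAb : (A : Matrix ι ι F) *ᵥ b = b := by
        have := hA b
        rw [h1b, hEb, h1b, Matrix.mulVec_smul] at this
        exact smul_right_injective _ hγ this
      have hAe := hA e
      rw [h1e, hEe, Matrix.mulVec_add, Matrix.mulVec_add, Matrix.mulVec_smul, Matrix.mulVec_smul, Matrix.mulVec_smul,
        h1e, h1b, hAb] at hAe
      have hAc' : (A : Matrix ι ι F) *ᵥ c = c + (-(t * f e e) * γ / w0) • b := by
        refine smul_right_injective _ hw ?_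
        simp only [smul_add, smul_smul, mul_div_cancel₀ _ hw]
        linear_combination (norm := module) hAe
      have hAc := hA c
      rw [hEc, Matrix.mulVec_add, Matrix.mulVec_add, Matrix.mulVec_smul, Matrix.mulVec_smul, h1c,
        Matrix.mulVec_add, Matrix.mulVec_add, Matrix.mulVec_smul, Matrix.mulVec_smul, Matrix.mulVec_smul, hAc',
        hAb, h1e, h1b] at hAc
      refine ⟨A, M.mul_mem (M.mul_mem hg₁M (hEM _)) (M.inv_mem hg₁M), hAb,
        ⟨(t * r1 + -(t * t * f e e) / 2 * γ - η * (-(t * f e e) * γ / w0)) / (y0 + η * p), ?_⟩, ⟨_, hAc'⟩⟩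
      refine smul_right_injective _ hy1 ?_
      simp only [smul_add, smul_smul, mul_div_cancel₀ _ hy1,
        show (y0 + η * p) * s = t * w0 by simp only [t]; field_simp]
      linear_combination (norm := module) hAc
    -- the word for minus one
    obtain ⟨L, hL, hLb, ⟨l1, hLe⟩, ⟨l2, hLc⟩⟩ := hlow (-1)
    set W := E 1 * L * E 1
    have hW : W ∈ M := M.mul_mem (M.mul_mem (hEM 1) hL) (hEM 1)
    have hWb : (W : Matrix ι ι F) *ᵥ b = b := by simp only [W, mul_mulVec, hEb, hLb]
    obtain ⟨we, hWe⟩ : ∃ r : F, (W : Matrix ι ι F) *ᵥ e = (-1 : F) • c + r • b := by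
      refine ⟨l1 - f e e - f e e + f e e / 2, ?_⟩
      simp only [W, mul_mulVec, hEe, Matrix.mulVec_add, Matrix.mulVec_smul, hEb, hLb, hLe, hEc]
      match_scalars <;> ring
    obtain ⟨wc, hWc⟩ : ∃ r : F, (W : Matrix ι ι F) *ᵥ c = e + r • b := by
      refine ⟨l1 + l2 - f e e / 2 - f e e, ?_⟩
      simp only [W, mul_mulVec, hEc, Matrix.mulVec_add, Matrix.mulVec_smul, hEb, hLb, hLe, hLc, hEe]
      match_scalars <;> ring
    set Z := W * W
    have hZ : Z ∈ M := M.mul_mem hW hW
    have hZb : (Z : Matrix ι ι F) *ᵥ b = b := by simp only [Z, mul_mulVec, hWb]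
    obtain ⟨α, hZe⟩ : ∃ r : F, (Z : Matrix ι ι F) *ᵥ e = (-1 : F) • e + r • b := by
      refine ⟨we - wc, ?_⟩
      simp only [Z, mul_mulVec, hWe, Matrix.mulVec_add, Matrix.mulVec_smul, hWb, hWc]
      module
    obtain ⟨β, hZc⟩ : ∃ r : F, (Z : Matrix ι ι F) *ᵥ c = (-1 : F) • c + r • b := by
      refine ⟨we + wc, ?_⟩
      simp only [Z, mul_mulVec, hWc, Matrix.mulVec_add, Matrix.mulVec_smul, hWb, hWe]
      module
    -- it commutes with the root elements
    have hrel : ∀ t, t * α = t * t * f e e := by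
      intro t
      have h := hagree (M.mul_mem (hEM t) hZ) (M.mul_mem hZ (hEM t)) (γ := 1)
        (by rw [one_smul, mul_mulVec, hZb, hEb]) (by rw [one_smul, mul_mulVec, hEb, hZb])
        ⟨2 * (t * f e e), by
          simp only [mul_mulVec, hZe, hEe, Matrix.mulVec_add, Matrix.mulVec_smul, hEb, hZb]; module⟩
        ⟨t * t * f e e - t * α, by
          simp only [mul_mulVec, hZc, hZe, hEc, Matrix.mulVec_add, Matrix.mulVec_smul, hEb, hEe, hZb]
          match_scalars <;> field_simp <;> ring⟩
      have h4 := congrArg (fun K : GL ι F => f ((K : Matrix ι ι F) *ᵥ c) c) h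
      simp only [mul_mulVec, hZc, hEc, hZe, hZb, hEe, hEb, Matrix.mulVec_add, Matrix.mulVec_smul,
        hf.add_left, hf.smul_left, hc, hec, hbc, mul_zero, mul_one, add_zero, zero_add] at h4
      field_simp at h4
      exact mul_left_cancel₀ h2 (by linear_combination -h4)
    have h4 := hrel 1
    have h5 := hrel (-1)
    have : 2 * f e e = 0 := by linear_combination -h4 - h5
    exact hee ((mul_eq_zero.1 this).resolve_left h2)
  rw [hw0, zero_smul, add_zero] at hge
  have hδ : δ ≠ 0 := fun h => one_ne_zero (hindep 1 0 (by rw [h]; ring) (by rw [hw0]; ring)).1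
  have hη : η ≠ 0 := fun h => one_ne_zero (neg_eq_zero.1 (neg_eq_zero.2
    (show (1 : F) = 0 from (hindep (-y0 / δ) 1 (by field_simp; ring) (by rw [hw0, h]; ring)).2)))
  -- comparing with a root element
  have hmul : γ * η = δ * δ := by
    have h := hagree (M.mul_mem hg (hEM 1)) (M.mul_mem (hEM (δ / η)) hg) (γ := γ)
      (by rw [mul_mulVec, hEb, hgb]) (by rw [mul_mulVec, hgb, Matrix.mulVec_smul, hEb])
      ⟨δ * (δ / η * f e e) - f e e * γ, by
        simp only [mul_mulVec, hEe, hge, hgb, Matrix.mulVec_add, Matrix.mulVec_smul, hEb]; module⟩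
      ⟨x0 + -(f e e) / 2 * γ + y0 * (δ / η * f e e) - η * (-((δ / η) * (δ / η) * f e e) / 2), by
        simp only [mul_mulVec, hEc, hgc, hge, hgb, Matrix.mulVec_add, Matrix.mulVec_smul, hEb, hEe, one_mul,
          one_smul]
        match_scalars <;> field_simp <;> ring⟩
    have h0 := congrArg (fun K : GL ι F => f ((K : Matrix ι ι F) *ᵥ e) c) h
    simp only [mul_mulVec, hEe, hge, hgb, Matrix.mulVec_add, Matrix.mulVec_smul, hEb, hf.add_left, hf.smul_left,
      hbc, hec, mul_zero, mul_one, add_zero, one_mul] at h0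
    field_simp at h0
    exact mul_left_cancel₀ hee (by linear_combination -h0)
  -- compare with the diagonal similarity
  set Y := E (-(y0 / η)) * g with hYdef
  have hYM : Y ∈ M := M.mul_mem (hEM _) hg
  have hYb : (Y : Matrix ι ι F) *ᵥ b = γ • b := by
    simp only [Y, mul_mulVec, hgb, Matrix.mulVec_smul, hEb]
  obtain ⟨xe, hYe⟩ : ∃ r : F, (Y : Matrix ι ι F) *ᵥ e = δ • e + r • b := by
    refine ⟨x0 + δ * (y0 / η * f e e), ?_⟩
    simp only [Y, mul_mulVec, hge, Matrix.mulVec_add, Matrix.mulVec_smul, hEb, hEe]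
    module
  obtain ⟨xc, hYc⟩ : ∃ r : F, (Y : Matrix ι ι F) *ᵥ c = η • c + r • b := by
    refine ⟨z0 + y0 * (y0 / η * f e e) + η * (-((y0 / η) * (y0 / η) * f e e) / 2), ?_⟩
    simp only [Y, mul_mulVec, hgc, Matrix.mulVec_add, Matrix.mulVec_smul, hEb, hEe, hEc]
    match_scalars <;> field_simp <;> ring
  let A : Matrix ι ι F := δ • 1 + vecMulVec b ((γ - δ) • axisOf f c) + vecMulVec c ((η - δ) • axisOf f b)
  have hA : ∀ y, A *ᵥ y = δ • y + ((γ - δ) * f y c) • b + ((η - δ) * f y b) • c := fun y => by
    simp only [A, Matrix.add_mulVec, Matrix.smul_mulVec, Matrix.one_mulVec, Matrix.vecMulVec_mulVec,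
      op_smul_eq_smul, smul_dotProduct, (linLeft hf).dot, smul_eq_mul]
  have hAsim : ∀ u v, f (A *ᵥ u) (A *ᵥ v) = δ * δ * f u v := fun u v => by
    rw [hA, hA]
    simp only [hf.add_left, add_right hf, hf.smul_left, smul_right hf, hb, hc, hbc, hcb, hf.symm b v,
      hf.symm c v]
    linear_combination (f u c * f v b + f u b * f v c) * hmul
  have hAdet : A.det ≠ 0 := by
    intro h0
    obtain ⟨v, hv, hv'⟩ := Matrix.exists_mulVec_eq_zero_iff.2 h0
    obtain ⟨y, hy⟩ := (hf.nondegenerate v hv).1
    have h1 := hAsim v y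
    have h2' := hAsim y v
    rw [hv', zero_left hf] at h1
    rw [hv', zero_right hf] at h2'
    first
      | exact hy ((mul_eq_zero.1 h1.symm).resolve_left (mul_ne_zero hδ hδ))
      | exact hy ((mul_eq_zero.1 h2'.symm).resolve_left (mul_ne_zero hδ hδ))
  let D : GL ι F := Matrix.GeneralLinearGroup.mkOfDetNeZero A hAdet
  let ψ : ι → F := (xe / (γ * f e e)) • axisOf f e + (xc / γ) • axisOf f b
  have hψ : ∀ y, ψ ⬝ᵥ y = xe / (γ * f e e) * f y e + xc / γ * f y b := fun y => by
    simp only [ψ, add_dotProduct, smul_dotProduct, (linLeft hf).dot, smul_eq_mul]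
  have hψb : ψ ⬝ᵥ b = 0 := by rw [hψ, hbe, hb]; ring
  have hYD : Y = D * tvec b ψ hψb := by
    refine ext_frame hf hdec ?_ ?_ ?_
    all_goals conv_rhs => rw [mul_mulVec, tvec_mulVec, hψ]
    all_goals first | rw [hYb] | rw [hYe] | rw [hYc]
    all_goals show _ = A *ᵥ _
    all_goals simp only [hA, hf.add_left, hf.smul_left, hb, hbc, heb, hbe, hec, hce, hcb, hc]
    all_goals match_scalars <;> field_simp <;> ring
  have hDS : D ∈ similarityGroup f := ⟨Units.mk0 _ (mul_ne_zero hδ hδ), hAsim⟩
  have hDI : D ∈ specialLinear ι F := by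
    have h : D = Y * (tvec b ψ hψb)⁻¹ := by rw [hYD, mul_inv_cancel_right]
    rw [h]
    exact (specialLinear ι F).mul_mem (hMI hYM) ((specialLinear ι F).inv_mem (tvec_mem_specialLinear _ _ _))
  have hDM : D ∈ M := hM ⟨hDS, hDI⟩
  have hψ0 : ψ = 0 := hno b ψ hb0 ⟨hψb, by
    have := M.mul_mem (M.inv_mem hDM) hYM
    rwa [hYD, inv_mul_cancel_left] at this⟩
  have hgD : g = (E (-(y0 / η)))⁻¹ * D := by
    rw [eq_inv_mul_iff_mul_eq, ← hYdef, hYD]
    convert mul_one D
    exact gl_ext_mulVec fun y => by simp [tvec_mulVec, hψ0]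
  rw [hgD]
  exact (similarityGroup f).mul_mem ((similarityGroup f).inv_mem
    ⟨1, fun u v => by rw [hEiso, Units.val_one, one_mul]⟩) hDS

/-- Without transvections every element is a similarity. -/
lemma le_similarity (hMI : M ≤ specialLinear ι F)
    (hno : ∀ a φ : ι → F, a ≠ 0 → HasTv M a φ → φ = 0) {b : ι → F} (hb : f b b = 0) (hb0 : b ≠ 0) :
    M ≤ similarityGroup f := by
  have h2 := hf.two
  intro g hg
  set β := (g : Matrix ι ι F) *ᵥ b
  have hβ0 : β ≠ 0 := fun h => hb0 (by rw [← inv_mulVec_mulVec g b]; simp only [β] at h; rw [h, Matrix.mulVec_zero])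
  -- the image of a singular vector is singular
  have hβ : f β β = 0 := by
    by_contra hβ
    obtain ⟨e, c, hee, hc, hbc, hcb, heb, hbe, hec, hce, hdec⟩ := exists_frame hf h3 hb hb0
    obtain ⟨r, hr, -, hre⟩ := exists_neg_refl hf h3 hβ
    set h := g⁻¹ * r * g
    have hh : ∀ y, (h : Matrix ι ι F) *ᵥ y = -y + (2 * f ((g : Matrix ι ι F) *ᵥ y) β / f β β) • b := fun y => by
      simp only [h, mul_mulVec, hre, Matrix.mulVec_add, Matrix.mulVec_neg, Matrix.mulVec_smul, inv_mulVec_mulVec]
      rw [show ((g⁻¹ : GL ι F) : Matrix ι ι F) *ᵥ β = b from inv_mulVec_mulVec g b]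
    have hhb : (h : Matrix ι ι F) *ᵥ b = (1 : F) • b := by
      rw [hh]
      change -b + (2 * f β β / f β β) • b = _
      rw [mul_div_assoc, div_self hβ]
      module
    obtain ⟨μ, hμ⟩ := point_stabiliser hf hM h3 hMI hno
      (M.mul_mem (M.mul_mem (M.inv_mem hg) (hM hr)) hg) hb hb0 hhb
    have hμ1 : (μ : F) = -1 := by
      have h1 := hμ b c
      rw [hhb, one_smul, hh c, add_right hf, smul_right hf, hb, mul_zero, add_zero, ← neg_one_smul F c,
        smul_right hf, hbc, mul_one, mul_one] at h1
      exact h1.symm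
    have h1 := hμ e e
    rw [hh e, hμ1, ← neg_one_smul F e] at h1
    simp only [hf.add_left, add_right hf, hf.smul_left, smul_right hf, hb, heb, hbe, mul_zero, add_zero] at h1
    have : 2 * f e e = 0 := by linear_combination h1
    exact hee ((mul_eq_zero.1 this).resolve_left h2)
  -- bring it back by a reflection
  by_cases hm : β ∈ F ∙ b
  · obtain ⟨k, hk⟩ := Submodule.mem_span_singleton.1 hm
    exact point_stabiliser hf hM h3 hMI hno hg hb hb0 hk.symm
  have hbβ : f b β ≠ 0 := fun h0 => hm (mem_span_of_singular hf h3 hb0 hb h0 hβ)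
  have hβb : f β b ≠ 0 := by rw [hf.symm]; exact hbβ
  have hvv : f (b + (-1 : F) • β) (b + (-1 : F) • β) = -(2 * f b β) := by
    simp only [hf.add_left, add_right hf, hf.smul_left, smul_right hf, hb, hβ, hf.symm β b]; ring
  obtain ⟨r, hr, -, hre⟩ := exists_neg_refl hf h3 (v := b + (-1 : F) • β)
    (by rw [hvv]; exact neg_ne_zero.2 (mul_ne_zero h2 hbβ))
  have hrg : ((r * g : GL ι F) : Matrix ι ι F) *ᵥ b = (-1 : F) • b := by
    rw [mul_mulVec, hre, hvv, add_right hf, smul_right hf, hf.symm β b, hβ]
    match_scalars <;> field_simp <;> ring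
  have h := point_stabiliser hf hM h3 hMI hno (M.mul_mem (hM hr) hg) hb hb0 hrg
  have := (similarityGroup f).mul_mem ((similarityGroup f).inv_mem hr.1) h
  rwa [inv_mul_cancel_left] at this

omit [Finite F] in
lemma fullSubmodule_refl {y v : ι → F} (hy : y ∈ fullSubmodule M) (hv : f v v ≠ 0) (hyv : f y v ≠ 0) :
    v ∈ fullSubmodule M := by
  obtain ⟨r, hr, -, hre⟩ := exists_neg_refl hf h3 hv
  have h1 := fullSubmodule_invariant hy (hM hr)
  rw [hre] at h1
  have h4 := (fullSubmodule M).add_mem h1 hy
  rw [add_comm (-y) _, neg_add_cancel_right] at h4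
  exact ((fullSubmodule M).smul_mem_iff (div_ne_zero (mul_ne_zero hf.two hyv) hv)).1 h4

/-- A full anisotropic centre gives SL. -/
lemma sl_of_fullAt {a : ι → F} (ha : f a a ≠ 0) (h : FullAt M a) : specialLinear ι F ≤ M := by
  have h2 := hf.two
  have haW : a ∈ fullSubmodule M := h
  obtain ⟨y₀, hy0, hy₀⟩ := exists_aniso hf ![a] (by rw [h3]; norm_num)
  have hy₀a : f y₀ a = 0 := by simpa using hy₀ 0
  obtain ⟨z, hz, hza, hzy, hdec⟩ := exists_third hf h3 ha hy0 (by rw [hf.symm, hy₀a])
  have hperp : ∀ y w, f y y ≠ 0 → f w w ≠ 0 → f y a = 0 → f w a = 0 → f w y = 0 → y ∈ fullSubmodule M := by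
    intro y w hy hw hya hwa hwy
    have hay : f a y = 0 := by rw [hf.symm, hya]
    by_cases hv : f (a + y) (a + y) = 0
    · have hv' : f a a + f y y = 0 := by simpa [hf.add_left, add_right hf, hay, hya] using hv
      have hbW : a + y ∈ fullSubmodule M := by
        have hwb : f w (a + y) = 0 := by rw [add_right hf, hwa, hwy, add_zero]
        obtain ⟨E, hE, hEe⟩ := exists_root hf hM hv hwb
        obtain ⟨E', hE', hEe'⟩ := exists_root hf hM hv (x := (-1 : F) • w) (by rw [hf.smul_left, hwb, mul_zero])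
        have e1 := fullSubmodule_invariant haW hE
        have e2 := fullSubmodule_invariant haW hE'
        rw [hEe] at e1
        rw [hEe'] at e2
        have e3 := (fullSubmodule M).sub_mem ((fullSubmodule M).add_mem e1 e2)
          ((fullSubmodule M).smul_mem (2 : F) haW)
        refine ((fullSubmodule M).smul_mem_iff (neg_ne_zero.2 (mul_ne_zero hw ha))).1 ?_
        convert e3 using 1
        simp only [add_right hf, hay, hf.smul_left, smul_right hf, hf.symm a w, hwa]
        match_scalars <;> field_simp <;> ring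
      exact ((fullSubmodule M).add_mem_iff_right haW).1 hbW
    · exact ((fullSubmodule M).add_mem_iff_right haW).1
        (fullSubmodule_refl hf hM h3 haW hv (by rw [add_right hf, hay, add_zero]; exact ha))
  refine specialLinear_le_of_fullSubmodule (eq_top_iff.2 fun v _ => ?_)
  rw [hdec v]
  exact (fullSubmodule M).add_mem ((fullSubmodule M).add_mem ((fullSubmodule M).smul_mem _ haW)
    ((fullSubmodule M).smul_mem _ (hperp y₀ z hy0 hz hy₀a hza hzy)))
    ((fullSubmodule M).smul_mem _ (hperp z y₀ hz hy0 hza hy₀a (by rw [hf.symm, hzy])))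

/-- Anisotropic centre and axis, spanning a plane with a suitable complement. -/
lemma sl_of_aniso_good {a u w : ι → F} (ha : f a a ≠ 0) (hu : f u u ≠ 0) (hw : f w w ≠ 0) (hau : f a u = 0)
    (hwa : f w a = 0) (hwu : f w u = 0)
    (hdec : ∀ y, y = (f y a / f a a) • a + (f y u / f u u) • u + (f y w / f w w) • w)
    (hgood : ∃ s : F, s ≠ 0 ∧ f u u + s * s * f w w ≠ 0) (h : HasTv M a (axisOf f u)) :
    specialLinear ι F ≤ M := by
  classical
  haveI := Fintype.ofFinite F
  have h2 := hf.two
  have L := linLeft hf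
  have hua : f u a = 0 := by rw [hf.symm, hau]
  have haw : f a w = 0 := by rw [hf.symm, hwa]
  have huw : f u w = 0 := by rw [hf.symm, hwu]
  let z : F → F := fun s => f u u / (f u u + s * s * f w w)
  -- the reflections fixing the centre
  have hmove : ∀ d s : F, f u u + s * s * f w w ≠ 0 → HasTv M a (axisOf f (d • u)) →
      HasTv M a (axisOf f ((2 * z s * d) • (u + s • w))) := by
    intro d s hs hd
    have hv : f (u + s • w) (u + s • w) = f u u + s * s * f w w := by
      simp only [hf.add_left, add_right hf, hf.smul_left, smul_right hf, huw, hwu]; ring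
    have h1 := move_neg_refl hf hM h3 (v := u + s • w) (by rw [hv]; exact hs) hd
    rw [add_right hf, smul_right hf, hau, haw, hv] at h1
    simp only [mul_zero, add_zero, zero_div, zero_smul] at h1
    have h4 := h1.neg_center
    rw [neg_neg] at h4
    have h5 := h4.add_axis hd
    rw [← axis_add hf] at h5
    convert h5 using 2
    simp only [z, hf.smul_left, add_right hf, smul_right hf, huw, mul_zero, add_zero]
    match_scalars <;> field_simp <;> ring
  -- the multiples of the axis
  let S : AddSubgroup F :=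
    { carrier := {c | HasTv M a (axisOf f (c • u))}
      add_mem' := fun {p q} hp hq => by
        show HasTv M a (axisOf f ((p + q) • u))
        rw [add_smul, axis_add hf]; exact hp.add_axis hq
      zero_mem' := by
        show HasTv M a (axisOf f ((0 : F) • u))
        rw [zero_smul, show axisOf f (0 : ι → F) = 0 from funext fun i => zero_right hf _]
        exact hasTv_zero_right M a
      neg_mem' := fun {p} hp => by
        show HasTv M a (axisOf f ((-p) • u))
        rw [neg_smul, ← neg_one_smul F (p • u), axis_smul hf, neg_one_smul]; exact hp.neg_axis }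
  have h1S : (1 : F) ∈ S := show HasTv M a (axisOf f ((1 : F) • u)) by rw [one_smul]; exact h
  have hzS : ∀ s, f u u + s * s * f w w ≠ 0 → 4 * z s ∈ S := by
    intro s hs
    show HasTv M a (axisOf f ((4 * z s) • u))
    have hzn : z (-s) = z s := by simp only [z]; ring_nf
    have e1 := (hmove 1 s hs h1S).add_axis (hmove 1 (-s) (by simpa using hs) h1S)
    rw [← axis_add hf, hzn] at e1
    rwa [show (2 * z s * 1) • (u + s • w) + (2 * z s * 1) • (u + (-s) • w) = (4 * z s) • u by module] at e1
  have hSall : ∀ c, c ∈ S := by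
    suffices S = ⊤ from fun c => this ▸ AddSubgroup.mem_top c
    rw [← AddSubgroup.index_eq_one]
    obtain ⟨p, hp⟩ := CharP.exists F
    obtain ⟨k, hpp, hk⟩ := FiniteField.card F p
    have hp2 : p ≠ 2 := by rintro rfl; exact h2 (CharP.cast_eq_zero F 2)
    by_contra hne
    have hd := S.index_dvd_card
    rw [Nat.card_eq_fintype_card, hk] at hd
    obtain ⟨j, -, hj⟩ := (Nat.dvd_prime_pow hpp).1 hd
    have hge : 3 ≤ S.index := by
      rcases Nat.eq_zero_or_pos j with rfl | hj0
      · exact absurd (by simpa using hj) hne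
      · rw [hj]
        have := Nat.le_self_pow hj0.ne' p
        have := hpp.two_le
        omega
    have hmul := S.card_mul_index
    -- many elements
    set Ok : Finset F := Finset.univ.filter fun x => f u u + x * x * f w w ≠ 0
    have himg : (Ok.image fun x => 4 * z x).card + 1 ≤ Nat.card S := by
      rw [Nat.card_eq_fintype_card, Fintype.card_subtype, ← Finset.card_insert_of_notMem
        (a := (0 : F)) (s := Ok.image fun x => 4 * z x) (by
          simp only [Finset.mem_image, not_exists, not_and]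
          intro x hx e
          simp only [Ok, Finset.mem_filter] at hx
          exact mul_ne_zero (show (4 : F) ≠ 0 by
            rw [show (4 : F) = 2 * 2 by norm_num]; exact mul_ne_zero h2 h2) (div_ne_zero hu hx.2) e)]
      refine Finset.card_le_card fun c hc => Finset.mem_filter.2 ⟨Finset.mem_univ _, ?_⟩
      rcases Finset.mem_insert.1 hc with rfl | hc
      · exact S.zero_mem
      · obtain ⟨x, hx, rfl⟩ := Finset.mem_image.1 hc
        exact hzS x (Finset.mem_filter.1 hx).2
    have hfib : Ok.card ≤ 2 * (Ok.image fun x => 4 * z x).card := by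
      refine Finset.card_le_mul_card_image _ 2 fun c hc => ?_
      obtain ⟨x, hx, rfl⟩ := Finset.mem_image.1 hc
      refine (Finset.card_le_card (t := {x, -x}) fun y hy => ?_).trans Finset.card_le_two
      simp only [Finset.mem_filter, Ok] at hy hx
      have h4 : (4 : F) ≠ 0 := by rw [show (4 : F) = 2 * 2 by norm_num]; exact mul_ne_zero h2 h2
      have e := mul_left_cancel₀ h4 hy.2
      simp only [z] at e
      rw [div_eq_div_iff hy.1.2 hx.2] at e
      have : y ^ 2 = x ^ 2 := mul_left_cancel₀ (mul_ne_zero hu hw) (by linear_combination -e)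
      rcases sq_eq_sq_iff_eq_or_eq_neg.1 this with e | e <;> simp [e]
    have hbad : Fintype.card F ≤ Ok.card + 2 := by
      have hsplit := Finset.card_filter_add_card_filter_not (s := (Finset.univ : Finset F))
        (fun x => f u u + x * x * f w w ≠ 0)
      have hle : (Finset.univ.filter fun x => ¬ f u u + x * x * f w w ≠ 0).card ≤ 2 := by
        refine (Finset.card_le_card (t := (Polynomial.nthRoots 2 (-f u u / f w w)).toFinset) fun x hx => ?_).trans
          ((Multiset.toFinset_card_le _).trans (Polynomial.card_nthRoots 2 _))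
        rw [Finset.mem_filter, not_not] at hx
        rw [Multiset.mem_toFinset, Polynomial.mem_nthRoots two_pos, eq_div_iff hw]
        linear_combination hx.2
      rw [Finset.card_univ] at hsplit
      change Ok.card + _ = _ at hsplit
      omega
    rw [Nat.card_eq_fintype_card (α := F)] at hmul
    have hpos : 0 < Fintype.card F := Fintype.card_pos
    have := Nat.mul_le_mul_left (Nat.card S) hge
    have hodd : Fintype.card F % 2 = 1 := by
      rw [hk]
      exact Nat.odd_iff.1 ((hpp.odd_of_ne_two hp2).pow)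
    omega
  refine sl_of_fullAt hf hM h3 ha fun φ hφ => ?_
  obtain ⟨v, rfl⟩ := exists_axis hf φ
  rw [L.dot] at hφ
  have hv : v = (f v u / f u u) • u + (f v w / f w w) • w := by
    conv_lhs => rw [hdec v, hf.symm v a, hφ, zero_div, zero_smul, zero_add]
  obtain ⟨s, hs0, hs⟩ := hgood
  have hzs : z s ≠ 0 := div_ne_zero hu hs
  have hwall : ∀ c : F, HasTv M a (axisOf f (c • w)) := by
    intro c
    have e1 := (hmove (c / (2 * z s * s)) s hs (hSall _)).sub_axis (hSall (c / s))
    rw [sub_eq_add_neg, ← neg_one_smul F (axisOf f _), ← axis_smul hf, ← axis_add hf] at e1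
    rwa [show (2 * z s * (c / (2 * z s * s))) • (u + s • w) + (-1 : F) • ((c / s) • u) = c • w by
      match_scalars <;> field_simp <;> ring] at e1
  rw [hv, axis_add hf]
  exact (hSall _).add_axis (hwall _)

/-- Anisotropic centre and axis. -/
lemma sl_of_aniso {a u : ι → F} (ha : f a a ≠ 0) (hu : f u u ≠ 0) (h : HasTv M a (axisOf f u))
    (hsing : ∀ d b, f b b = 0 → d ≠ 0 → b ≠ 0 → HasTv M d (axisOf f b) → specialLinear ι F ≤ M) :
    specialLinear ι F ≤ M := by
  classical
  haveI := Fintype.ofFinite F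
  have h2 := hf.two
  have L := linLeft hf
  have hau : f a u = 0 := by rw [← L.dot]; exact h.1
  obtain ⟨w, hw, hwa, hwu, hdec⟩ := exists_third hf h3 ha hu hau
  by_cases hgood : ∃ s : F, s ≠ 0 ∧ f u u + s * s * f w w ≠ 0
  · exact sl_of_aniso_good hf hM h3 ha hu hw hau hwa hwu hdec hgood h
  push Not at hgood
  have hμ : f w w = -f u u := by linear_combination hgood 1 one_ne_zero
  -- three elements
  have hF : ∀ x : F, x = 0 ∨ x = 1 ∨ x = -1 := fun x => by
    by_cases hx : x = 0
    · exact Or.inl hx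
    have h1 := hgood x hx
    rw [hμ] at h1
    have : x ^ 2 = 1 ^ 2 := mul_left_cancel₀ hu (by linear_combination -h1)
    rcases sq_eq_sq_iff_eq_or_eq_neg.1 this with e | e
    · exact Or.inr (Or.inl e)
    · exact Or.inr (Or.inr e)
  have h3F : (3 : F) = 0 := by
    rcases hF 2 with e | e | e
    · exact absurd e h2
    · exact absurd (show (1 : F) = 0 by linear_combination e) one_ne_zero
    · linear_combination e
  have hua : f u a = 0 := by rw [hf.symm, hau]
  have haw : f a w = 0 := by rw [hf.symm, hwa]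
  have huw : f u w = 0 := by rw [hf.symm, hwu]
  obtain ⟨k, hk, hk2⟩ : ∃ k : F, f a a = k * f u u ∧ (k = 1 ∨ k = -1) := by
    refine ⟨f a a / f u u, (div_mul_cancel₀ _ hu).symm, ?_⟩
    rcases hF (f a a / f u u) with e | e
    · exact absurd e (div_ne_zero ha hu)
    · exact e
  rcases hk2 with rfl | rfl
  · rw [one_mul] at hk
    set v := (-1 : F) • a + u + w
    have hvv : f v v = f u u := by
      simp only [v, hf.add_left, add_right hf, hf.smul_left, smul_right hf, hua, hau, haw, hwa, huw, hwu, hk, hμ]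
      ring
    have h1 := move_neg_refl hf hM h3 (v := v) (by rw [hvv]; exact hu) h
    have e1 : -a + (2 * f a v / f v v) • v = a + u + w := by
      have : (2 * f a v / f v v) = 1 := by
        rw [hvv, show f a v = -f u u by
          simp only [v, add_right hf, smul_right hf, hau, haw, hk]; ring, div_eq_one_iff_eq hu]
        linear_combination (-f u u) * h3F
      rw [this]
      simp only [v]
      match_scalars
      all_goals first
        | ring1
        | linear_combination h3F
        | linear_combination -h3F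
    have e2 : -u + (2 * f u v / f v v) • v = a + u + (-1 : F) • w := by
      have : (2 * f u v / f v v) = -1 := by
        rw [hvv, show f u v = f u u by
          simp only [v, add_right hf, smul_right hf, hua, huw]; ring, div_eq_iff hu]
        linear_combination f u u * h3F
      rw [this]
      simp only [v]
      match_scalars
      all_goals first
        | ring1
        | linear_combination h3F
        | linear_combination -h3F
    rw [e1, e2] at h1
    obtain ⟨m, hm⟩ : ∃ m : F, m * f u u = 1 := ⟨_, inv_mul_cancel₀ hu⟩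
    have hT : HasTv M (m • (a + u + w)) (axisOf f (a + u + (-1 : F) • w)) := by
      rcases hF m with e | e | e
      · simp [e] at hm
      · rw [e, one_smul]; exact h1
      · rw [e, neg_one_smul]; exact h1.neg_center
    obtain ⟨hd, hm'⟩ := hT
    have h4 := h.conj hm'
    have eaxis : axisOf f u ᵥ* ((tvec _ _ hd)⁻¹ : GL ι F).val = axisOf f ((-1 : F) • a + w) := by
      refine dotProduct_eq _ _ fun y => ?_
      obtain ⟨y', rfl⟩ : ∃ y', y = (tvec _ _ hd : Matrix ι ι F) *ᵥ y' := ⟨_, (mulVec_inv_mulVec _ y).symm⟩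
      rw [← Matrix.dotProduct_mulVec, inv_mulVec_mulVec, tvec_mulVec, L.dot, L.dot, L.dot]
      simp only [hf.add_left, add_right hf, hf.smul_left, smul_right hf, hua, hau, haw, hwa, huw, hwu, hk, hμ]
      linear_combination (2 * (f y' a + f y' u + (-1) * f y' w)) * hm + (f y' a + f y' u - f y' w) * h3F
    rw [eaxis] at h4
    refine hsing _ _ ?_ ?_ ?_ h4
    · simp only [hf.add_left, add_right hf, hf.smul_left, smul_right hf, haw, hwa, hk, hμ]; ring
    · intro e
      apply ha
      have e' := congrArg (fun x => ((tvec _ _ hd)⁻¹ : GL ι F).val *ᵥ x) e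
      simp only [inv_mulVec_mulVec, Matrix.mulVec_zero] at e'
      rw [e', zero_left hf]
    · intro e
      apply hw
      have := congrArg (fun x => f x w) e
      simpa only [hf.add_left, hf.smul_left, haw, zero_left hf, mul_zero, zero_add] using this
  · rw [neg_one_mul] at hk
    have hvv : f (a + w) (a + w) = f u u := by
      simp only [hf.add_left, add_right hf, haw, hwa, hk, hμ]
      linear_combination (-f u u) * h3F
    have h1 := move_neg_refl hf hM h3 (v := a + w) (by rw [hvv]; exact hu) h
    rw [hvv, add_right hf, add_right hf, haw, hua, huw, hk] at h1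
    simp only [add_zero, mul_zero, zero_div, zero_smul] at h1
    rw [← neg_one_smul F u, axis_smul hf, neg_one_smul] at h1
    have h5 := h1.neg_axis
    rw [neg_neg, mul_div_assoc, neg_div, div_self hu] at h5
    rw [show -a + (2 * (-1 : F)) • (a + w) = w by
      match_scalars <;> linear_combination -h3F] at h5
    refine sl_of_aniso_good hf hM h3 (a := a + w) (w := a + (-1 : F) • w) (by rw [hvv]; exact hu) hu ?_ ?_ ?_ ?_ ?_
      ⟨1, one_ne_zero, ?_⟩ (h.add_center h5)
    · simp only [hf.add_left, add_right hf, hf.smul_left, smul_right hf, haw, hwa, hk, hμ]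
      intro e; exact hu (by linear_combination e + f u u * h3F)
    · rw [hf.add_left, hau, hwu, add_zero]
    · simp only [hf.add_left, add_right hf, hf.smul_left, haw, hwa, hk, hμ]; ring
    · rw [hf.add_left, hf.smul_left, hau, hwu, mul_zero, add_zero]
    · intro y
      conv_lhs => rw [hdec y]
      have hd1 : f (a + (-1 : F) • w) (a + (-1 : F) • w) = f u u := by
        simp only [hf.add_left, add_right hf, hf.smul_left, smul_right hf, haw, hwa, hk, hμ]
        linear_combination (-f u u) * h3F
      rw [hvv, hd1, add_right hf, add_right hf, smul_right hf, hk, hμ]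
      match_scalars <;> field_simp
      all_goals first
        | ring1
        | linear_combination (-(f y a)) * h3F
        | linear_combination (f y a) * h3F
        | linear_combination (-(f y w)) * h3F
        | linear_combination (f y w) * h3F
    · simp only [hf.add_left, add_right hf, hf.smul_left, smul_right hf, haw, hwa, hk, hμ]
      intro e; exact hu (by linear_combination -e - (0:F) * h3F)

/-- All multiples on one singular line give SL. -/
lemma sl_of_line {b : ι → F} (hb : f b b = 0) (hb0 : b ≠ 0)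
    (h : ∀ c : F, HasTv M (c • b) (axisOf f b)) : specialLinear ι F ≤ M := by
  have h2 := hf.two
  have L := linLeft hf
  obtain ⟨e, c, hee, hc, hbc, hcb, heb, hbe, hec, hce, hdec⟩ := exists_frame hf h3 hb hb0
  -- the opposite line
  have hv : f (b + (-1 : F) • c) (b + (-1 : F) • c) = -2 := by
    simp only [hf.add_left, add_right hf, hf.smul_left, smul_right hf, hb, hc, hbc, hcb]; ring
  have hl1 : ∀ d : F, HasTv M (d • c) (axisOf f c) := by
    intro d
    have h1 := move_neg_refl hf hM h3 (v := b + (-1 : F) • c) (by rw [hv]; exact neg_ne_zero.2 h2) (h d)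
    rw [hv, hf.smul_left, add_right hf, smul_right hf, hb, hbc] at h1
    rw [show -(d • b) + (2 * (d * (0 + -1 * 1)) / -2) • (b + (-1 : F) • c) = (-1 : F) • (d • c) by
        match_scalars <;> field_simp <;> ring,
      show -b + (2 * (0 + -1 * 1) / -2 : F) • (b + (-1 : F) • c) = (-1 : F) • c by
        match_scalars <;> field_simp <;> ring, axis_smul hf, neg_one_smul, neg_one_smul] at h1
    simpa using h1.neg_center.neg_axis
  set l : F := -f e e / 2
  have hl : l ≠ 0 := div_ne_zero (neg_ne_zero.2 hee) h2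
  -- moved transvections
  obtain ⟨hd, hT⟩ := hl1 l
  set a := b + l • c
  set u := b + (-l) • c
  have haxis : ∀ d : F, HasTv M (d • a) (axisOf f u) := by
    intro d
    have h1 := (h d).conj hT
    have e2 : axisOf f b ᵥ* ((tvec (l • c) (axisOf f c) hd)⁻¹ : GL ι F).val = axisOf f u := by
      refine dotProduct_eq _ _ fun y => ?_
      obtain ⟨y', rfl⟩ : ∃ y', y = (tvec (l • c) (axisOf f c) hd : Matrix ι ι F) *ᵥ y' :=
        ⟨_, (mulVec_inv_mulVec _ y).symm⟩
      rw [← Matrix.dotProduct_mulVec, inv_mulVec_mulVec, tvec_mulVec, L.dot, L.dot, L.dot]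
      simp only [u, hf.add_left, add_right hf, hf.smul_left, smul_right hf, hb, hc, hcb]
      ring
    rw [e2, tvec_mulVec, L.dot, hf.smul_left, hbc] at h1
    rwa [show d • b + (d * 1) • l • c = d • a by simp only [a]; module] at h1
  have haa : f a a = -f e e := by
    simp only [a, l, hf.add_left, add_right hf, hf.smul_left, smul_right hf, hb, hc, hbc, hcb]
    field_simp; ring
  have huu : f u u = f e e := by
    simp only [u, l, hf.add_left, add_right hf, hf.smul_left, smul_right hf, hb, hc, hbc, hcb]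
    field_simp; ring
  have hea : f e a = 0 := by simp only [a, add_right hf, smul_right hf, heb, hec]; ring
  have heu : f e u = 0 := by simp only [u, add_right hf, smul_right hf, heb, hec]; ring
  have hue : f u e = 0 := by rw [hf.symm, heu]
  have hau : f a u = 0 := by rw [← L.dot]; simpa using (haxis 1).1
  -- multiples of the axis
  have hmu : ∀ d : F, HasTv M a (axisOf f (d • u)) := fun d => by
    rcases eq_or_ne d 0 with rfl | hd0
    · rw [zero_smul, show axisOf f (0 : ι → F) = 0 from funext fun i => zero_right hf _]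
      exact hasTv_zero_right M a
    · rw [axis_smul hf]; exact (hasTv_smul_iff d hd0).1 (haxis d)
  have hme : ∀ d : F, HasTv M a (axisOf f (d • e)) := by
    intro d
    have hv' : f (u + e) (u + e) = 2 * f e e := by
      simp only [hf.add_left, add_right hf, huu, hue, heu]; ring
    have h1 := move_neg_refl hf hM h3 (v := u + e) (by rw [hv']; exact mul_ne_zero h2 hee) (hmu d)
    rw [hv', show f a (u + e) = 0 by rw [add_right hf a u e, hau, hf.symm a e, hea, add_zero],
      show f (d • u) (u + e) = d * f e e by rw [hf.smul_left, add_right hf u u e, huu, hue, add_zero]] at h1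
    simp only [add_zero, mul_zero, zero_div, zero_smul] at h1
    rw [show -(d • u) + (2 * (d * f e e) / (2 * f e e)) • (u + e) = d • e by
      match_scalars <;> field_simp <;> ring] at h1
    simpa using h1.neg_center.neg_axis.neg_axis
  refine sl_of_fullAt hf hM h3 (a := a) (by rw [haa]; exact neg_ne_zero.2 hee) fun φ hφ => ?_
  obtain ⟨v, rfl⟩ := exists_axis hf φ
  rw [L.dot, hf.symm] at hφ
  obtain ⟨p, q, hpq⟩ : ∃ p q : F, v = p • u + q • e := by
    refine ⟨f v c, f v e / f e e, ?_⟩
    have : f v b + l * f v c = 0 := by rw [← hφ]; simp only [a, add_right hf, smul_right hf]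
    conv_lhs => rw [hdec v]
    rw [show f v b = -(l * f v c) by linear_combination this]
    simp only [u]
    module
  rw [hpq, axis_add hf]
  exact (hmu p).add_axis (hme q)

/-- A transvection gives SL. -/
theorem sl_of_transvection {a u : ι → F} (ha0 : a ≠ 0) (hu0 : u ≠ 0) (h : HasTv M a (axisOf f u)) :
    specialLinear ι F ≤ M := by
  have h2 := hf.two
  have L := linLeft hf
  -- singular axis
  have hsing : ∀ d b, f b b = 0 → d ≠ 0 → b ≠ 0 → HasTv M d (axisOf f b) → specialLinear ι F ≤ M := by
    intro d b hb hd0 hb0 h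
    refine sl_of_line hf hM h3 hb hb0 fun c => ?_
    obtain ⟨e, cc, hee, hc, hbc, hcb, heb, hbe, hec, hce, hdec⟩ := exists_frame hf h3 hb hb0
    have hdb : f d b = 0 := by rw [← L.dot b d]; exact h.dot
    have hdd : d = f d cc • b + (f d e / f e e) • e := by
      conv_lhs => rw [hdec d, hdb, zero_smul, add_zero]
    rcases eq_or_ne (f d e) 0 with hde | hde
    · rw [hde, zero_div, zero_smul, add_zero] at hdd
      have hk : f d cc ≠ 0 := fun e0 => hd0 (by rw [hdd, e0, zero_smul])
      refine Orth4.of_squares (p := fun x => HasTv M (x • b) (axisOf f b)) h2 (k := f d cc) hk (fun t => ?_)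
        (fun p q hp hq => by rw [add_smul]; exact hp.add_center hq) c
      rcases eq_or_ne t 0 with rfl | ht
      · rw [zero_mul, zero_mul, zero_smul]; exact hasTv_zero_left M _
      -- two reflections induce `b ↦ t b`
      have hv1 : f (b + (-1 : F) • cc) (b + (-1 : F) • cc) = -2 := by
        simp only [hf.add_left, add_right hf, hf.smul_left, smul_right hf, hb, hc, hbc, hcb]; ring
      have hv2 : f (b + (-t⁻¹) • cc) (b + (-t⁻¹) • cc) = -(2 * t⁻¹) := by
        simp only [hf.add_left, add_right hf, hf.smul_left, smul_right hf, hb, hc, hbc, hcb]; ring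
      rw [hdd] at h
      have h1 := move_neg_refl hf hM h3 (v := b + (-1 : F) • cc) (by rw [hv1]; exact neg_ne_zero.2 h2) h
      rw [hv1, hf.smul_left, add_right hf, smul_right hf, hb, hbc] at h1
      rw [show -(f d cc • b) + (2 * (f d cc * (0 + -1 * 1)) / -2) • (b + (-1 : F) • cc) =
          (-(f d cc)) • cc by match_scalars <;> field_simp <;> ring,
        show -b + (2 * (0 + -1 * 1) / -2 : F) • (b + (-1 : F) • cc) = (-1 : F) • cc by
          match_scalars <;> field_simp <;> ring] at h1
      have h4 := move_neg_refl hf hM h3 (v := b + (-t⁻¹) • cc)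
        (by rw [hv2]; exact neg_ne_zero.2 (mul_ne_zero h2 (inv_ne_zero ht))) h1
      rw [hv2, hf.smul_left, hf.smul_left, add_right hf, smul_right hf, hcb, hc] at h4
      rw [show -((-(f d cc)) • cc) + (2 * (-(f d cc) * (1 + -t⁻¹ * 0)) / -(2 * t⁻¹)) • (b + (-t⁻¹) • cc) =
          (t * f d cc) • b by match_scalars <;> field_simp <;> ring,
        show -((-1 : F) • cc) + (2 * (-1 * (1 + -t⁻¹ * 0)) / -(2 * t⁻¹)) • (b + (-t⁻¹) • cc) = t • b by
          match_scalars <;> field_simp <;> ring, axis_smul hf, ← hasTv_smul_iff t ht, smul_smul] at h4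
      rwa [show t * t * f d cc = t * (t * f d cc) by ring]
    · obtain ⟨E, hE, hEe⟩ := exists_root hf hM hb (x := (-(c / f d e)) • e) (by rw [hf.smul_left, heb, mul_zero])
      have hiso := isH_preserves hf hb (by rw [hf.smul_left, heb, mul_zero]) hEe
      have hEb : (E : Matrix ι ι F) *ᵥ b = b := by
        simp only [hEe b, hb, hf.smul_left, smul_right hf, hbe, mul_zero]; module
      have hEd : (E : Matrix ι ι F) *ᵥ d = d + c • b := by
        simp only [hEe d, hdb, hf.smul_left, smul_right hf]
        match_scalars <;> field_simp <;> ring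
      have h1 := hasTv_moved hf hM hE hiso h
      rw [hEb, hEd] at h1
      have h4 := h1.sub_center h
      rwa [add_sub_cancel_left] at h4
  by_cases huu : f u u = 0
  · exact hsing a u huu ha0 hu0 h
  by_cases haa : f a a = 0
  · -- singular centre
    obtain ⟨e, c, hee, hc, hbc, hcb, heb, hbe, hec, hce, hdec⟩ := exists_frame hf h3 haa ha0
    have hua : f u a = 0 := by rw [hf.symm, ← L.dot]; exact h.1
    have hue : f u e ≠ 0 := by
      intro h0
      apply huu
      have : u = f u c • a := by
        conv_lhs => rw [hdec u, h0, hua, zero_div, zero_smul, zero_smul, add_zero, add_zero]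
      rw [this, hf.smul_left, smul_right hf, haa, mul_zero, mul_zero]
    obtain ⟨E, hE, hEe⟩ := exists_root hf hM haa (x := (-(1 / f u e)) • e) (by rw [hf.smul_left, heb, mul_zero])
    have hiso := isH_preserves hf haa (by rw [hf.smul_left, heb, mul_zero]) hEe
    have hEb : (E : Matrix ι ι F) *ᵥ a = a := by
      simp only [hEe a, haa, hf.smul_left, smul_right hf, hbe, mul_zero]; module
    have hEu : (E : Matrix ι ι F) *ᵥ u = u + a := by
      simp only [hEe u, hua, hf.smul_left, smul_right hf]
      match_scalars <;> field_simp <;> ring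
    have h1 := hasTv_moved hf hM hE hiso h
    rw [hEb, hEu, axis_add hf] at h1
    have h4 := h1.sub_axis h
    rw [add_sub_cancel_left] at h4
    exact hsing a a haa ha0 ha0 h4
  · exact sl_of_aniso hf hM h3 haa huu h hsing

omit M hM in
lemma exists_singular : ∃ b : ι → F, f b b = 0 ∧ b ≠ 0 := by
  have h2 := hf.two
  obtain ⟨a, ha, -⟩ := exists_aniso hf (Fin.elim0 : Fin 0 → (ι → F)) (by rw [h3]; norm_num)
  obtain ⟨u, hu, hua⟩ := exists_aniso hf ![a] (by rw [h3]; norm_num)
  have hua : f u a = 0 := by simpa using hua 0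
  have hau : f a u = 0 := by rw [hf.symm, hua]
  obtain ⟨w, hw, hwa, hwu, -⟩ := exists_third hf h3 ha hu hau
  obtain ⟨x, y, hxy⟩ := CfsgLib.Forms.exists_binary h2 ha hu (-f w w)
  refine ⟨x • a + y • u + w, ?_, fun e => hw ?_⟩
  · simp only [hf.add_left, add_right hf, hf.smul_left, smul_right hf, hua, hau, hwa, hwu, hf.symm a w, hf.symm u w]
    linear_combination hxy
  · have := congrArg (fun v => f v w) e
    simpa [hf.add_left, hf.smul_left, hf.symm a w, hwa, hf.symm u w, hwu, zero_left hf] using this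

theorem key (hMI : M ≤ specialLinear ι F) (hMX : ¬ M ≤ similarityGroup f) : specialLinear ι F ≤ M := by
  by_contra hne
  obtain ⟨b, hb, hb0⟩ := exists_singular hf h3
  refine hMX (le_similarity hf hM h3 hMI (fun a φ ha hφ => ?_) hb hb0)
  by_contra hφ0
  obtain ⟨u, rfl⟩ := exists_axis hf φ
  refine hne (sl_of_transvection hf hM h3 ha (fun e => hφ0 ?_) hφ)
  rw [e]; exact funext fun i => zero_right hf _

omit M hM in
theorem proper : ¬ specialLinear ι F ≤ similarityGroup f := by
  intro hle
  obtain ⟨a, ha, -⟩ := exists_aniso hf (Fin.elim0 : Fin 0 → (ι → F)) (by rw [h3]; norm_num)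
  obtain ⟨v, hv, hv'⟩ := exists_aniso hf ![a] (by rw [h3]; norm_num)
  have hva : f v a = 0 := by simpa using hv' 0
  have hav : f a v = 0 := by rw [hf.symm, hva]
  have hφ : axisOf f v ⬝ᵥ a = 0 := by rw [(linLeft hf).dot, hav]
  obtain ⟨e, he⟩ := hle (tvec_mem_specialLinear a (axisOf f v) hφ)
  have h1 := he a a
  have h2 := he v a
  simp only [tvec_mulVec, (linLeft hf).dot, hav, zero_smul, add_zero] at h1 h2
  rw [hf.add_left, hf.smul_left, hva, zero_add, mul_zero] at h2
  exact mul_ne_zero hv ha h2

end CfsgLib.Geo.SL3.Orth
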