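/-
Geometric maximal subgroups of the special linear group in dimension three: subspaces, three lines, forms.
-/
import Cfsg.Agent.Geo.SLThree.Lines
import Cfsg.Agent.Geo.SLThree.Orth
import Cfsg.Agent.Geo.SLThree.Unitary
import Cfsg.Agent.Geo.SLGeometric

set_option autoImplicit false

namespace CfsgLib.Geo.SL3

open Matrix Cfsg CfsgLib.Geo

/-- The stabiliser of three lines has no proper overgroup. -/
theorem lines3 {F : Type*} [Field F] [Fintype F] (hq : 5 ≤ Fintype.card F) {D : Fin 3 → Submodule F (Fin 3 → F)}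
    (Θ : (Fin 3 → Fin 1 → F) ≃ₗ[F] (Fin 3 → F)) (hΘ : ∀ i v, v ∈ D i ↔ ∀ j, j ≠ i → Θ.symm v j = 0)
    {M : Subgroup (Matrix.GeneralLinearGroup (Fin 3) F)}
    (hM : Cfsg.Geo.decompositionStabilizer D ⊓ Cfsg.Geo.specialLinear (Fin 3) F ≤ M)
    (hMI : M ≤ Cfsg.Geo.specialLinear (Fin 3) F) (hMX : ¬ M ≤ Cfsg.Geo.decompositionStabilizer D) :
    Cfsg.Geo.specialLinear (Fin 3) F ≤ M := by
  let L : (Fin 3 → F) ≃ₗ[F] (Fin 3 → F) :=
    (LinearEquiv.piCongrRight fun _ : Fin 3 => (LinearEquiv.funUnique (Fin 1) F F).symm).trans Θ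
  let A := LinearMap.toMatrix' L.toLinearMap
  let B := LinearMap.toMatrix' L.symm.toLinearMap
  let P : GL (Fin 3) F := ⟨A, B, by rw [← LinearMap.toMatrix'_comp]; simp,
    by rw [← LinearMap.toMatrix'_comp]; simp⟩
  have hP : ∀ v, (P : Matrix _ _ F) *ᵥ v = L v := fun v => LinearMap.toMatrix'_mulVec _ v
  have hL : ∀ v j, L.symm v j = Θ.symm v j 0 := fun v j => by simp [L, LinearEquiv.funUnique]
  have hmem : ∀ i v, v ∈ D i ↔ ∀ j, j ≠ i → L.symm v j = 0 := fun i v => by
    rw [hΘ]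
    refine forall₂_congr fun j _ => ?_
    rw [hL]
    exact ⟨fun h => by rw [h]; rfl, fun h => funext fun l => by rw [Subsingleton.elim l 0]; exact h⟩
  have hPinv : ∀ v, ((P⁻¹ : GL (Fin 3) F) : Matrix _ _ F) *ᵥ v = L.symm v := fun v =>
    LinearMap.toMatrix'_mulVec _ v
  have hline : ∀ i v, v ∈ D i ↔ ∃ a : F, v = a • L (Pi.single i 1) := fun i v => by
    rw [hmem]
    constructor
    · intro h
      refine ⟨L.symm v i, ?_⟩
      rw [← map_smul, ← LinearEquiv.symm_apply_eq]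
      funext j
      by_cases hj : j = i
      · subst hj; simp
      · simp [hj, h j hj]
    · rintro ⟨a, rfl⟩ j hj
      simp [hj]
  have hconj : ∀ g : GL (Fin 3) F,
      g ∈ Mono.monomialGroup (Fin 3) F ↔ P * g * P⁻¹ ∈ Cfsg.Geo.decompositionStabilizer D := by
    intro g
    have hact : ∀ i, ((P * g * P⁻¹ : GL (Fin 3) F) : Matrix _ _ F) *ᵥ L (Pi.single i 1) =
        L ((g : Matrix _ _ F) *ᵥ Pi.single i 1) := fun i => by
      rw [mul_mulVec, mul_mulVec, hPinv, hP, LinearEquiv.symm_apply_apply]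
    constructor
    · rintro ⟨π, hπ⟩
      refine ⟨π, fun i => ?_⟩
      have hcol : (g : Matrix _ _ F) *ᵥ Pi.single i 1 = (g : Matrix _ _ F) (π i) i • Pi.single (π i) 1 :=
        funext fun k => by
          rw [Matrix.mulVec_single_one, Pi.smul_apply, smul_eq_mul]
          by_cases hk : k = π i
          · subst hk; simp
          · rw [Pi.single_eq_of_ne hk, mul_zero]; exact hπ k i hk
      have hc0 : (g : Matrix _ _ F) (π i) i ≠ 0 := fun h0 => by
        rw [h0, zero_smul] at hcol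
        have := congrArg (fun x => ((g⁻¹ : GL (Fin 3) F) : Matrix (Fin 3) (Fin 3) F) *ᵥ x) hcol
        simp only [inv_mulVec_mulVec, Matrix.mulVec_zero] at this
        exact one_ne_zero (Pi.single_eq_zero_iff.1 this)
      ext v
      simp only [Submodule.mem_map, Matrix.toLin'_apply, hline]
      constructor
      · rintro ⟨_, ⟨a, rfl⟩, rfl⟩
        exact ⟨a * (g : Matrix _ _ F) (π i) i, by rw [Matrix.mulVec_smul, hact, hcol, map_smul, smul_smul]⟩
      · rintro ⟨a, rfl⟩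
        refine ⟨_, ⟨a / (g : Matrix _ _ F) (π i) i, rfl⟩, ?_⟩
        rw [Matrix.mulVec_smul, hact, hcol, map_smul, smul_smul, div_mul_cancel₀ _ hc0]
    · rintro ⟨π, hπ⟩
      refine ⟨π, fun k i hk => ?_⟩
      have h : L ((g : Matrix _ _ F) *ᵥ Pi.single i 1) ∈ D (π i) := by
        rw [← hact, ← hπ]
        exact ⟨_, (hline i _).2 ⟨1, (one_smul _ _).symm⟩, by rw [Matrix.toLin'_apply]⟩
      have := (hmem _ _).1 h k hk
      rw [LinearEquiv.symm_apply_apply, Matrix.mulVec_single_one] at this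
      exact this
  have hSL : ∀ g : GL (Fin 3) F, P * g * P⁻¹ ∈ Cfsg.Geo.specialLinear (Fin 3) F ↔
      g ∈ Cfsg.Geo.specialLinear (Fin 3) F := fun g => by
    rw [mem_specialLinear, mem_specialLinear, Units.val_mul, Units.val_mul, Matrix.det_mul, Matrix.det_mul,
      mul_comm, ← mul_assoc, ← Matrix.det_mul, Units.inv_mul, Matrix.det_one, one_mul]
  have hkey := Lines.key3 (M := M.comap (MulAut.conj P).toMonoidHom) hq
    (fun g hg => hM ⟨(hconj g).1 hg.1, (hSL g).2 hg.2⟩) (fun g hg => (hSL g).1 (hMI hg))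
    (fun hle => hMX fun g hg => by
      have h := (hconj (P⁻¹ * g * P)).1 (hle (show P * (P⁻¹ * g * P) * P⁻¹ ∈ M by
        rwa [show P * (P⁻¹ * g * P) * P⁻¹ = g by group]))
      rwa [show P * (P⁻¹ * g * P) * P⁻¹ = g by group] at h)
  intro g hg
  have h : P * (P⁻¹ * g * P) * P⁻¹ ∈ M := hkey ((hSL _).1 (by rwa [show P * (P⁻¹ * g * P) * P⁻¹ = g by group]))
  rwa [show P * (P⁻¹ * g * P) * P⁻¹ = g by group] at h

variable {F : Type*} [Field F] [Fintype F]

/-- Three lines give a maximal subgroup. -/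
theorem decomposition_maximal (hq : 5 ≤ Fintype.card F) {D : Fin 3 → Submodule F (Fin 3 → F)}
    (hD : Cfsg.Geo.IsMDecomposition 1 D) :
    Cfsg.Geo.IsMaximalIn (Cfsg.Geo.specialLinear (Fin 3) F)
      (Cfsg.Geo.decompositionStabilizer D ⊓ Cfsg.Geo.specialLinear (Fin 3) F) := by
  obtain ⟨Θ, hΘ⟩ := Decomp.exists_coords hD
  exact isMaximalIn_of_key (CfsgLib.Aschbacher.specialLinear_not_le_decomposition hD)
    fun M hM hMI hMX => lines3 hq Θ hΘ hM hMI hMX

/-- Orthogonal similarities give a maximal subgroup. -/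
theorem quadratic_maximal (hodd : Odd (Fintype.card F)) {Q : (Fin 3 → F) → F}
    (hQ : Cfsg.Geo.IsNondegenerateQuadraticForm Q) :
    Cfsg.Geo.IsMaximalIn (Cfsg.Geo.specialLinear (Fin 3) F)
      (Cfsg.Geo.quadSimilarityGroup Q ⊓ Cfsg.Geo.specialLinear (Fin 3) F) := by
  have h2 : (2 : F) ≠ 0 := by
    intro h0
    haveI : CharP F 2 := CharTwo.of_one_ne_zero_of_two_eq_zero one_ne_zero h0
    have h3 := FiniteField.even_card_of_char_two (F := F) (ringChar.eq F 2)
    rw [Nat.odd_iff] at hodd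
    omega
  have hf := CfsgLib.Geo.Orth.isSymmForm_polar h2 hQ
  rw [← CfsgLib.Geo.Orth.similarity_polar h2 hQ]
  exact CfsgLib.Geo.isMaximalIn_of_key (Orth.proper hf (Fintype.card_fin 3))
    fun M hM hMI hne => Orth.key hf hM (Fintype.card_fin 3) hMI hne

/-- Unitary similarities give a maximal subgroup. -/
theorem unitary_maximal {σ : F ≃+* F} {f : (Fin 3 → F) → (Fin 3 → F) → F}
    (hf : Cfsg.Geo.IsUnitaryForm σ f) :
    Cfsg.Geo.IsMaximalIn (Cfsg.Geo.specialLinear (Fin 3) F)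
      (Cfsg.Geo.similarityGroup f ⊓ Cfsg.Geo.specialLinear (Fin 3) F) :=
  CfsgLib.Geo.isMaximalIn_of_key (Unitary.proper hf (Fintype.card_fin 3))
    fun M hM hMI hne => Unitary.key hf hM (Fintype.card_fin 3) hne

end CfsgLib.Geo.SL3
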