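/-
All points are centres: the group contains SL.
-/
import Cfsg.Agent.Geo.SLThree.Plane

set_option autoImplicit false

namespace CfsgLib.Geo.SL3.Plane

open Matrix Cfsg Cfsg.Geo CfsgLib.Geo

variable {F : Type*} [Field F] {M : Subgroup (GL (Fin 3) F)}

/-- The scalars of the transvections at one incident pair of a frame. -/
private def scal (M : Subgroup (GL (Fin 3) F)) (e φ : Fin 3 → Fin 3 → F) (i j : Fin 3) : Set F :=
  {c | HasTv M (c • e i) (φ j)}

/-- Three axes in general position and all points centres give SL. -/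
theorem sl_of_all_centres [Finite F] (hall : ∀ P : Pt F, Centre M P) {L : Fin 3 → Pt F} (hL : ∀ i, Axis M (L i))
    (hind : ∀ P : Pt F, ¬ (Inc P (L 0) ∧ Inc P (L 1) ∧ Inc P (L 2))) : specialLinear (Fin 3) F ≤ M := by
  classical
  let A : Matrix (Fin 3) (Fin 3) F := Matrix.of fun i => (L i).rep
  have hA : A.det ≠ 0 := fun h0 => by
    obtain ⟨v, hv, hv'⟩ := Matrix.exists_mulVec_eq_zero_iff.2 h0
    refine hind (Projectivization.mk F v hv) ⟨?_, ?_, ?_⟩
    · rw [← (L 0).mk_rep, inc_mk]; exact congrFun hv' 0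
    · rw [← (L 1).mk_rep, inc_mk]; exact congrFun hv' 1
    · rw [← (L 2).mk_rep, inc_mk]; exact congrFun hv' 2
  let B : GL (Fin 3) F := Matrix.GeneralLinearGroup.mkOfDetNeZero A hA
  let e : Fin 3 → Fin 3 → F := fun i => ((B⁻¹ : GL (Fin 3) F) : Matrix (Fin 3) (Fin 3) F) *ᵥ Pi.single i 1
  let φ : Fin 3 → Fin 3 → F := fun i => (L i).rep
  have hφe : ∀ j i, φ j ⬝ᵥ e i = if j = i then 1 else 0 := fun j i => by
    have h : φ j ⬝ᵥ e i = ((B : Matrix (Fin 3) (Fin 3) F) *ᵥ e i) j := rfl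
    rw [h]
    simp only [e, mulVec_inv_mulVec, Pi.single_apply]
  have he0 : ∀ i, e i ≠ 0 := fun i h => by
    have := hφe i i
    rw [h, dotProduct_zero, if_pos rfl] at this
    exact zero_ne_one this
  have hdecφ : ∀ ψ : Fin 3 → F, ψ = ∑ j, (ψ ⬝ᵥ e j) • φ j := fun ψ => by
    have h1 : (ψ ᵥ* ((B⁻¹ : GL (Fin 3) F) : Matrix (Fin 3) (Fin 3) F)) ᵥ* (B : Matrix (Fin 3) (Fin 3) F) = ψ := by
      rw [Matrix.vecMul_vecMul, ← Units.val_mul, inv_mul_cancel, Units.val_one, Matrix.vecMul_one]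
    conv_lhs => rw [← h1, Matrix.vecMul_eq_sum]
    refine Finset.sum_congr rfl fun j _ => ?_
    rw [show ψ ⬝ᵥ e j = (ψ ᵥ* ((B⁻¹ : GL (Fin 3) F) : Matrix (Fin 3) (Fin 3) F)) j by
      simp only [e, Matrix.dotProduct_mulVec, dotProduct_single_one]]
    rfl
  set S : Fin 3 → Fin 3 → Set F := scal M e φ
  have hadd : ∀ i j, ∀ {a b : F}, a ∈ S i j → b ∈ S i j → a + b ∈ S i j := fun i j a b ha hb => by
    show HasTv M ((a + b) • e i) (φ j)
    rw [add_smul]; exact ha.add_center hb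
  have hzero : ∀ i j, (0 : F) ∈ S i j := fun i j => by
    show HasTv M ((0 : F) • e i) (φ j)
    rw [zero_smul]; exact hasTv_zero_left M _
  have hneg : ∀ i j, ∀ {a : F}, a ∈ S i j → -a ∈ S i j := fun i j a ha => by
    show HasTv M ((-a) • e i) (φ j)
    rw [neg_smul]; exact ha.neg_center
  have hmul : ∀ i j k, i ≠ j → i ≠ k → k ≠ j → ∀ {a b : F}, a ∈ S i k → b ∈ S k j → a * b ∈ S i j := by
    intro i j k hij hik hkj a b ha hb
    rcases eq_or_ne b 0 with rfl | hb0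
    · rw [mul_zero]; exact hzero i j
    have h := ha.comm hb (by rw [dotProduct_smul, hφe, if_neg hij.symm, smul_zero])
    rw [dotProduct_smul, hφe, if_pos rfl, smul_eq_mul, mul_one, ← hasTv_smul_iff b hb0, smul_smul,
      mul_comm] at h
    exact h
  have hne : ∀ i j, i ≠ j → ∃ c ∈ S i j, c ≠ 0 := by
    intro i j hij
    have hinc : Inc (Projectivization.mk F (e i) (he0 i)) (L j) := by
      rw [← (L j).mk_rep, inc_mk]
      exact (hφe j i).trans (if_neg hij.symm)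
    obtain ⟨c, hc, h⟩ := flag_of_inc (hall _) (hL j) hinc
    obtain ⟨d, hd, hde⟩ := exists_smul_of_mk (he0 i) rfl
    refine ⟨c / d, ?_, div_ne_zero hc hd⟩
    show HasTv M ((c / d) • e i) (φ j)
    rw [hde, smul_smul, div_mul_cancel₀ _ hd]
    exact h
  obtain ⟨u, hu, hu0⟩ := hne 0 1 (by decide)
  obtain ⟨v, hv, hv0⟩ := hne 1 2 (by decide)
  -- every point on the third side shows that the scalars are everything
  have hside : ∀ s ∈ S 1 0, ∀ x : F, ∃ c, c ≠ 0 ∧ c * x * u ∈ S 0 2 ∧ c * s ∈ S 1 2 := by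
    intro s hs x
    have hv' : e 0 + x • e 1 ≠ 0 := fun h => by
      have := congrArg (fun y => φ 0 ⬝ᵥ y) h
      simp [dotProduct_add, dotProduct_smul, hφe] at this
    have hinc : Inc (Projectivization.mk F _ hv') (L 2) := by
      rw [← (L 2).mk_rep, inc_mk]
      show φ 2 ⬝ᵥ (e 0 + x • e 1) = 0
      simp [dotProduct_add, dotProduct_smul, hφe]
    obtain ⟨c, hc, h⟩ := flag_of_inc (hall _) (hL 2) hinc
    obtain ⟨d, hd, hde⟩ := exists_smul_of_mk hv' rfl
    have hcd : c / d ≠ 0 := div_ne_zero hc hd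
    have hk : HasTv M ((c / d) • (e 0 + x • e 1)) (φ 2) := by
      rw [hde, smul_smul, div_mul_cancel₀ _ hd]; exact h
    have hz : φ 2 ⬝ᵥ e 0 = 0 := by rw [hφe]; rfl
    have hz' : φ 2 ⬝ᵥ e 1 = 0 := by rw [hφe]; rfl
    have e01 : φ 1 ⬝ᵥ ((c / d) • (e 0 + x • e 1)) = c / d * x := by
      simp [dotProduct_add, dotProduct_smul, hφe]
    have e10 : φ 0 ⬝ᵥ ((c / d) • (e 0 + x • e 1)) = c / d := by
      simp [dotProduct_add, dotProduct_smul, hφe]
    have h1 := hu.comm hk (by rw [dotProduct_smul, hz, smul_zero])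
    have h2 := hs.comm hk (by rw [dotProduct_smul, hz', smul_zero])
    rw [e01] at h1
    rw [e10, ← hasTv_smul_iff _ hcd, smul_smul] at h2
    refine ⟨c / d, hcd, ?_, h2⟩
    rcases eq_or_ne x 0 with rfl | hx
    · rw [mul_zero, zero_mul]; exact hzero 0 2
    rwa [← hasTv_smul_iff _ (mul_ne_zero hcd hx), smul_smul] at h1
  -- the scalars
  obtain ⟨w, hw, hw0⟩ := hne 2 1 (by decide)
  obtain ⟨z, hz, hz0⟩ := hne 1 0 (by decide)
  have hsurj : ∀ (P Q : Set F) (a b : F), a ≠ 0 → b ≠ 0 → (∀ x ∈ P, a * x ∈ Q) → (∀ x ∈ Q, b * x ∈ P) →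
      ∀ y ∈ Q, ∃ x ∈ P, a * x = y := by
    intro P Q a b ha hb h1 h2 y hy
    have hbij : Set.BijOn (fun x => b * a * x) P P :=
      (Set.Finite.injOn_iff_bijOn_of_mapsTo (Set.toFinite P)
        (fun x hx => by simpa only [mul_assoc] using h2 _ (h1 x hx))).1
        (fun x _ x' _ h => mul_left_cancel₀ (mul_ne_zero hb ha) h)
    obtain ⟨x, hx, hxy⟩ := hbij.surjOn (h2 y hy)
    simp only [mul_assoc] at hxy
    exact ⟨x, hx, mul_left_cancel₀ hb hxy⟩
  let L₀ : Set F := {l | u * v * l ∈ S 0 2}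
  have hAL : ∀ l ∈ L₀, u * l ∈ S 0 1 := by
    intro l hl
    obtain ⟨a, ha, hav⟩ := hsurj (S 0 1) (S 0 2) v w hv0 hw0
      (fun a ha => by rw [mul_comm]; exact hmul 0 2 1 (by decide) (by decide) (by decide) ha hv)
      (fun c hc => by rw [mul_comm]; exact hmul 0 1 2 (by decide) (by decide) (by decide) hc hw) _ hl
    rwa [show u * l = a from mul_left_cancel₀ hv0 (by rw [hav]; ring)]
  have hBL : ∀ l ∈ L₀, v * l ∈ S 1 2 := by
    intro l hl
    obtain ⟨a, ha, hav⟩ := hsurj (S 1 2) (S 0 2) u z hu0 hz0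
      (fun a ha => hmul 0 2 1 (by decide) (by decide) (by decide) hu ha)
      (fun c hc => hmul 1 2 0 (by decide) (by decide) (by decide) hz hc) _ hl
    rwa [show v * l = a from mul_left_cancel₀ hu0 (by rw [hav]; ring)]
  have hLm : ∀ a ∈ L₀, ∀ b ∈ L₀, a * b ∈ L₀ := fun a ha b hb => by
    have := hmul 0 2 1 (by decide) (by decide) (by decide) (hAL a ha) (hBL b hb)
    show u * v * (a * b) ∈ S 0 2
    rwa [show u * v * (a * b) = u * a * (v * b) by ring]
  have hL1 : (1 : F) ∈ L₀ := by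
    show u * v * 1 ∈ S 0 2
    rw [mul_one]; exact hmul 0 2 1 (by decide) (by decide) (by decide) hu hv
  have hLinv : ∀ a ∈ L₀, a ≠ 0 → a⁻¹ ∈ L₀ := fun a ha ha0 => by
    have hbij : Set.BijOn (fun x => a * x) L₀ L₀ :=
      (Set.Finite.injOn_iff_bijOn_of_mapsTo (Set.toFinite L₀) (fun x hx => hLm a ha x hx)).1
        (fun x _ x' _ h => mul_left_cancel₀ ha0 h)
    obtain ⟨b, hb, hab⟩ := hbij.surjOn hL1
    rwa [← eq_inv_of_mul_eq_one_right hab]
  have hBsub : ∀ b ∈ S 1 2, b / v ∈ L₀ := fun b hb => by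
    have := hmul 0 2 1 (by decide) (by decide) (by decide) hu hb
    show u * v * (b / v) ∈ S 0 2
    rwa [show u * v * (b / v) = u * b by field_simp]
  have hsz : z * u ∈ L₀ := by
    have := hBsub _ (hmul 1 2 0 (by decide) (by decide) (by decide) hz (show u * v ∈ S 0 2 by simpa [L₀] using hL1))
    rwa [show z * (u * v) / v = z * u by field_simp] at this
  have hall' : ∀ x, x ∈ L₀ := by
    intro x
    obtain ⟨c, hc, hc1, hc2⟩ := hside z hz (x / u)
    have h1 : c * x / (u * v) ∈ L₀ := by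
      show u * v * (c * x / (u * v)) ∈ S 0 2
      rwa [mul_div_cancel₀ _ (mul_ne_zero hu0 hv0), show c * x = c * (x / u) * u by field_simp]
    have h2 := hBsub _ hc2
    have h3 := hLm _ (hLm _ h1 _ (hLinv _ h2 (div_ne_zero (mul_ne_zero hc hz0) hv0))) _ hsz
    rwa [show c * x / (u * v) * (c * z / v)⁻¹ * (z * u) = x by field_simp] at h3
  have h01 : ∀ a, a ∈ S 0 1 := fun a => by
    rw [show a = u * (a / u) by field_simp]; exact hAL _ (hall' _)
  have h02 : ∀ a, a ∈ S 0 2 := fun a => by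
    have := hall' (a / (u * v))
    show HasTv M (a • e 0) (φ 2)
    rwa [show a = u * v * (a / (u * v)) by field_simp]
  have hfull : FullAt M (e 0) := by
    intro ψ hψ
    rw [hdecφ ψ, Fin.sum_univ_three, hψ, zero_smul, zero_add]
    have aux : ∀ (a : F) j, a ∈ S 0 j → HasTv M (e 0) (a • φ j) := fun a j ha => by
      rcases eq_or_ne a 0 with rfl | ha0
      · rw [zero_smul]; exact hasTv_zero_right M _
      · exact (hasTv_smul_iff a ha0).1 ha
    exact (aux _ 1 (h01 _)).add_axis (aux _ 2 (h02 _))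
  have h0W : e 0 ∈ fullSubmodule M := hfull
  have hjW : ∀ j, j ≠ 0 → e j ∈ fullSubmodule M := by
    intro j hj
    obtain ⟨c, hc, hc0⟩ := hne j 0 hj
    obtain ⟨hd, hm⟩ := hc
    have h := fullSubmodule_invariant h0W hm
    rw [tvec_mulVec, hφe, if_pos rfl, one_smul] at h
    exact ((fullSubmodule M).smul_mem_iff hc0).1 (((fullSubmodule M).add_mem_iff_right h0W).1 h)
  refine specialLinear_le_of_fullSubmodule (eq_top_iff.2 fun x _ => ?_)
  have hx : x = ∑ j, (φ j ⬝ᵥ x) • e j := by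
    conv_lhs => rw [← inv_mulVec_mulVec B x]
    conv_lhs => rw [pi_eq_sum_univ' ((B : Matrix (Fin 3) (Fin 3) F) *ᵥ x), Matrix.mulVec_sum]
    exact Finset.sum_congr rfl fun j _ => by rw [Matrix.mulVec_smul]; rfl
  rw [hx]
  refine Submodule.sum_mem _ fun j _ => Submodule.smul_mem _ _ ?_
  rcases eq_or_ne j 0 with rfl | hj
  exacts [h0W, hjW j hj]

end CfsgLib.Geo.SL3.Plane
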