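/-
A transvection together with orbits of equal size on points and lines gives SL.
-/
import Cfsg.Agent.Geo.SLThree.PlaneFull
import Cfsg.Agent.Geo.SLThree.PlaneSmall

set_option autoImplicit false

namespace CfsgLib.Geo.SL3.Plane

open Matrix Cfsg Cfsg.Geo CfsgLib.Geo

variable {F : Type*} [Field F] [Finite F] {M : Subgroup (GL (Fin 3) F)}

/-- All points are centres and some group has nontrivial orbits: SL is inside. -/
lemma sl_of_points_centres {C : Subgroup (GL (Fin 3) F)} (hCM : C ≤ M) {N : ℕ} (hN : 2 ≤ N)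
    (hpt : ∀ P : Pt F, Nat.card (MulAction.orbit C P) = N)
    (hline : ∀ L : Pt F, Nat.card (MulAction.orbit (C.map dual) L) = N)
    (hall : ∀ P : Pt F, Centre M P) {L₀ : Pt F} (hL₀ : Axis M L₀) : specialLinear (Fin 3) F ≤ M := by
  obtain ⟨⟨L₁, hL₁⟩, hne⟩ : ∃ L : MulAction.orbit (C.map dual) L₀, (L : Pt F) ≠ L₀ := by
    by_contra hcon
    push Not at hcon
    haveI : Subsingleton (MulAction.orbit (C.map dual) L₀) :=
      ⟨fun a b => Subtype.ext ((hcon a).trans (hcon b).symm)⟩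
    have := Finite.card_le_one_iff_subsingleton.2 this
    rw [hline] at this
    omega
  have hA₁ : Axis M L₁ := by
    obtain ⟨⟨_, c, hc, rfl⟩, rfl⟩ := hL₁
    exact hL₀.move (hCM hc)
  obtain ⟨P₀, h0, h1⟩ := exists_inc_both L₀ L₁
  obtain ⟨L₂, hA₂, h2⟩ : ∃ L, Axis M L ∧ ¬ Inc P₀ L := by
    by_contra hcon
    push Not at hcon
    have hfix : ∀ c ∈ C, c • P₀ = P₀ := by
      intro c hc
      have hmem : ∀ L, Axis M L → Inc (c • P₀) L := fun L hL => by
        have := hcon _ (hL.move (M.inv_mem (hCM hc)))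
        rw [← inc_smul c] at this
        rwa [map_inv, smul_inv_smul] at this
      exact eq_of_inc (fun e => hne e.symm) (hmem _ hL₀) (hmem _ hA₁) h0 h1
    haveI : Subsingleton (MulAction.orbit C P₀) := by
      refine ⟨fun a b => Subtype.ext ?_⟩
      obtain ⟨⟨c, hc⟩, ha⟩ := a.2
      obtain ⟨⟨d, hd⟩, hb⟩ := b.2
      rw [← ha, ← hb]
      exact (hfix c hc).trans (hfix d hd).symm
    have := Finite.card_le_one_iff_subsingleton.2 this
    rw [hpt] at this
    omega
  refine sl_of_all_centres hall (L := ![L₀, L₁, L₂]) (fun i => ?_) fun P h => ?_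
  · fin_cases i
    exacts [hL₀, hA₁, hA₂]
  · obtain ⟨a, b, c⟩ := h
    simp only [Matrix.cons_val_zero, Matrix.cons_val_one, Matrix.cons_val_two, Matrix.head_cons,
      Matrix.tail_cons] at a b c
    rw [eq_of_inc (fun e => hne e.symm) a b h0 h1] at c
    exact h2 c

omit [Finite F] in
lemma card_orbit_dual_dual (C : Subgroup (GL (Fin 3) F)) (P : Pt F) :
    Nat.card (MulAction.orbit ((C.map dual).map dual) P) = Nat.card (MulAction.orbit C P) := by
  rw [map_dual_dual]

/-- A transvection and orbits of size the number of points, or a third of it, give SL. -/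
theorem sl_of_hasTv {C : Subgroup (GL (Fin 3) F)} (hCM : C ≤ M) {N : ℕ}
    (hpt : ∀ P : Pt F, Nat.card (MulAction.orbit C P) = N)
    (hline : ∀ L : Pt F, Nat.card (MulAction.orbit (C.map dual) L) = N)
    (hN : N = Nat.card F ^ 2 + Nat.card F + 1 ∨ 3 * N = Nat.card F ^ 2 + Nat.card F + 1)
    (hq4 : Nat.card F ≠ 4) {a φ : Fin 3 → F} (ha : a ≠ 0) (hφ : φ ≠ 0) (h : HasTv M a φ) :
    specialLinear (Fin 3) F ≤ M := by
  obtain ⟨p, hp⟩ := CharP.exists F
  haveI : Fact p.Prime := ⟨CharP.char_is_prime F p⟩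
  have hpq : (p : ℕ) ∣ Nat.card F := by
    haveI := Fintype.ofFinite F
    obtain ⟨k, -, hk⟩ := FiniteField.card F p
    rw [Nat.card_eq_fintype_card, hk]
    exact dvd_pow_self p k.ne_zero
  have hq2 : 2 ≤ Nat.card F := Finite.one_lt_card
  have hN2 : 2 ≤ N := by rcases hN with h | h <;> nlinarith
  set P₀ := Projectivization.mk F a ha
  set L₀ := Projectivization.mk F φ hφ
  have hfl : Flag M P₀ L₀ := flag_of_hasTv ha hφ h
  have hCd : C.map dual ≤ M.map dual := Subgroup.map_mono hCM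
  set i := Nat.card {P : Pt F | Centre M P}
  set j := Nat.card {L : Pt F | Axis M L}
  have hi1 : ((i : ℕ) : ZMod p) = 1 := centres_modEq (p := p) ⟨P₀, hfl⟩
  have hj1 : ((j : ℕ) : ZMod p) = 1 := by
    rw [show j = Nat.card {L : Pt F | Centre (M.map dual) L} by
      simp only [j]; congr 2; ext L; exact axis_iff_centre_dual]
    exact centres_modEq (p := p) (L := P₀) (centre_iff_axis_dual.1 ⟨L₀, hfl⟩)
  have hiN : N ∣ i := dvd_card_of_orbits C _ (fun c hc P hP => Centre.move hP (hCM hc)) fun P _ => hpt P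
  have hjN : N ∣ j := dvd_card_of_orbits (C.map dual) _
    (fun _ ⟨c, hc, e⟩ L hL => e ▸ Axis.move hL (hCM hc)) fun L _ => hline L
  have hm : Nat.card (Pt F) = Nat.card F ^ 2 + Nat.card F + 1 := card_points
  have hle : ∀ S : Set (Pt F), Nat.card S ≤ Nat.card (Pt F) := fun S =>
    Nat.card_le_card_of_injective _ Subtype.val_injective
  have hmp : ((Nat.card F ^ 2 + Nat.card F + 1 : ℕ) : ZMod p) = 1 := by
    push_cast
    rw [(CharP.cast_eq_zero_iff (ZMod p) p _).2 hpq]
    ring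
  have hcase : ∀ k, N ∣ k → k ≤ Nat.card F ^ 2 + Nat.card F + 1 → ((k : ℕ) : ZMod p) = 1 →
      k = Nat.card F ^ 2 + Nat.card F + 1 ∨ (k = N ∧ p = 2 ∧ 3 * N = Nat.card F ^ 2 + Nat.card F + 1) := by
    rintro k ⟨s, rfl⟩ hk hk1
    have hs : s ≠ 0 := by
      rintro rfl
      simp at hk1
    rcases hN with hN | hN
    · left
      have : s ≤ 1 := Nat.le_of_mul_le_mul_left (show N * s ≤ N * 1 by omega) (by omega)
      rw [show s = 1 by omega, mul_one, hN]
    · have hs3 : s ≤ 3 := Nat.le_of_mul_le_mul_left (show N * s ≤ N * 3 by omega) (by omega)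
      rw [← hN] at hmp
      push_cast at hmp hk1
      have hs1 : 1 ≤ s := Nat.one_le_iff_ne_zero.2 hs
      interval_cases s
      · right
        refine ⟨mul_one N, ?_, hN⟩
        have h2 : ((2 : ℕ) : ZMod p) = 0 := by push_cast at hk1 ⊢; linear_combination hmp - 3 * hk1
        exact (Nat.prime_dvd_prime_iff_eq Fact.out Nat.prime_two).1 ((CharP.cast_eq_zero_iff (ZMod p) p 2).1 h2)
      · exfalso
        push_cast at hk1
        exact one_ne_zero (α := ZMod p) (by linear_combination 2 * hmp - 3 * hk1)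
      · left; omega
  rcases hcase i hiN (hm ▸ hle _) hi1 with e | ⟨e, hp2, h3⟩
  · refine sl_of_points_centres hCM hN2 hpt hline (fun P => ?_) (L₀ := L₀) ⟨P₀, hfl⟩
    have := Set.eq_of_subset_of_ncard_le (Set.subset_univ {P : Pt F | Centre M P})
      (by rw [Set.ncard_univ, hm, ← Nat.card_coe_set_eq]; exact e.ge)
    exact (Set.ext_iff.1 this P).2 trivial
  rcases hcase j hjN (hm ▸ hle _) hj1 with e' | ⟨e', -, -⟩
  · refine sl_le_of_dual (sl_of_points_centres hCd hN2 hline (fun L => (card_orbit_dual_dual C L).trans (hpt L))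
      (fun L => ?_) (L₀ := P₀) (centre_iff_axis_dual.1 ⟨L₀, hfl⟩))
    have := Set.eq_of_subset_of_ncard_le (Set.subset_univ {L : Pt F | Axis M L})
      (by rw [Set.ncard_univ, hm, ← Nat.card_coe_set_eq]; exact e'.ge)
    exact axis_iff_centre_dual.1 ((Set.ext_iff.1 this L).2 trivial)
  exfalso
  subst hp2
  haveI := Fintype.ofFinite F
  obtain ⟨k, -, hk⟩ := FiniteField.card F 2
  have hkq : Nat.card F = 2 ^ (k : ℕ) := by rw [Nat.card_eq_fintype_card, hk]
  have hk4 : 4 ≤ (k : ℕ) := by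
    by_contra hlt
    have := k.pos
    rw [hkq] at h3 hq4
    interval_cases (k : ℕ) <;> omega
  refine false_of_one_orbit hCM hpt hline h3 ?_ ?_ (P₀ := P₀) (L₀ := L₀) ⟨L₀, hfl⟩ ⟨P₀, hfl⟩ e e'
  · rw [hkq]; exact (show 2 ^ 4 ≤ 2 ^ (k : ℕ) from Nat.pow_le_pow_right (by norm_num) hk4)
  · rw [hkq]; exact (show 2 ^ 3 ∣ 2 ^ (k : ℕ) from pow_dvd_pow 2 (by omega))

end CfsgLib.Geo.SL3.Plane
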