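/-
A field of degree three in the matrix algebra: its norm one elements and their normaliser.
-/
import Cfsg.Agent.Geo.SLThree.Plane
import Cfsg.Prelude.Def_GeometricClasses
import Mathlib.FieldTheory.Finite.GaloisField
import Mathlib.RingTheory.Norm.Transitivity
import Mathlib.GroupTheory.SpecificGroups.Cyclic

set_option autoImplicit false

namespace CfsgLib.Geo.SL3.Singer

open Matrix Cfsg Cfsg.Geo CfsgLib.Geo CfsgLib.Geo.SL3.Plane

variable {F : Type*} [Field F] {K : Subalgebra F (Matrix (Fin 3) (Fin 3) F)}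

/-- The elements of norm one. -/
def cyc (K : Subalgebra F (Matrix (Fin 3) (Fin 3) F)) : Subgroup (GL (Fin 3) F) where
  carrier := {g | (g : Matrix (Fin 3) (Fin 3) F) ∈ K ∧ ((g⁻¹ : GL (Fin 3) F) : Matrix (Fin 3) (Fin 3) F) ∈ K ∧
    g ∈ specialLinear (Fin 3) F}
  one_mem' := ⟨by simpa using K.one_mem, by simpa using K.one_mem, (specialLinear (Fin 3) F).one_mem⟩
  mul_mem' := fun ha hb => ⟨K.mul_mem ha.1 hb.1, by rw [_root_.mul_inv_rev]; exact K.mul_mem hb.2.1 ha.2.1,
    (specialLinear (Fin 3) F).mul_mem ha.2.2 hb.2.2⟩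
  inv_mem' := fun ha => ⟨ha.2.1, by rw [inv_inv]; exact ha.1, (specialLinear (Fin 3) F).inv_mem ha.2.2⟩

section

variable (hK : IsFieldSubalgebra 3 K)
include hK

lemma inv_mem {g : GL (Fin 3) F} (hg : (g : Matrix (Fin 3) (Fin 3) F) ∈ K) :
    ((g⁻¹ : GL (Fin 3) F) : Matrix (Fin 3) (Fin 3) F) ∈ K := by
  obtain ⟨y, hy, hgy⟩ := hK.inv _ hg g.ne_zero
  have : y = ((g⁻¹ : GL (Fin 3) F) : Matrix (Fin 3) (Fin 3) F) := by
    calc y = ((g⁻¹ : GL (Fin 3) F) : Matrix (Fin 3) (Fin 3) F) * ((g : Matrix (Fin 3) (Fin 3) F) * y) := by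
          rw [← mul_assoc, Units.inv_mul, one_mul]
      _ = _ := by rw [hgy, mul_one]
  rwa [← this]

lemma mem_cyc {g : GL (Fin 3) F} (hg : (g : Matrix (Fin 3) (Fin 3) F) ∈ K) (hd : g ∈ specialLinear (Fin 3) F) :
    g ∈ cyc K :=
  ⟨hg, inv_mem hK hg, hd⟩

lemma eq_zero_of_mulVec {k : Matrix (Fin 3) (Fin 3) F} (hk : k ∈ K) {v : Fin 3 → F} (hv : v ≠ 0)
    (h : k *ᵥ v = 0) : k = 0 := by
  by_contra hk0
  obtain ⟨y, hy, hky⟩ := hK.inv k hk hk0
  rw [hK.comm k hk y hy] at hky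
  apply hv
  rw [← Matrix.one_mulVec v, ← hky, ← Matrix.mulVec_mulVec, h, Matrix.mulVec_zero]

lemma eq_zero_of_vecMul {k : Matrix (Fin 3) (Fin 3) F} (hk : k ∈ K) {v : Fin 3 → F} (hv : v ≠ 0)
    (h : v ᵥ* k = 0) : k = 0 := by
  by_contra hk0
  obtain ⟨y, hy, hky⟩ := hK.inv k hk hk0
  apply hv
  rw [← Matrix.vecMul_one v, ← hky, ← Matrix.vecMul_vecMul, h, Matrix.zero_vecMul]

lemma scalar_of_eigen {k : Matrix (Fin 3) (Fin 3) F} (hk : k ∈ K) {v : Fin 3 → F} (hv : v ≠ 0) {c : F}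
    (h : k *ᵥ v = c • v) : k = c • 1 :=
  sub_eq_zero.1 (eq_zero_of_mulVec hK (K.sub_mem hk (K.smul_mem K.one_mem c)) hv
    (by rw [Matrix.sub_mulVec, h, Matrix.smul_mulVec, Matrix.one_mulVec, sub_self]))

lemma scalar_of_eigen' {k : Matrix (Fin 3) (Fin 3) F} (hk : k ∈ K) {v : Fin 3 → F} (hv : v ≠ 0) {c : F}
    (h : v ᵥ* k = c • v) : k = c • 1 :=
  sub_eq_zero.1 (eq_zero_of_vecMul hK (K.sub_mem hk (K.smul_mem K.one_mem c)) hv
    (by rw [Matrix.vecMul_sub, h, Matrix.vecMul_smul, Matrix.vecMul_one, sub_self]))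

/-- Evaluation at a nonzero vector. -/
noncomputable def eval {v : Fin 3 → F} (hv : v ≠ 0) : K ≃ₗ[F] (Fin 3 → F) :=
  LinearMap.linearEquivOfInjective
    { toFun := fun k => (k : Matrix (Fin 3) (Fin 3) F) *ᵥ v
      map_add' := fun a b => by rw [Subalgebra.coe_add, Matrix.add_mulVec]
      map_smul' := fun c a => by rw [RingHom.id_apply, Subalgebra.coe_smul, Matrix.smul_mulVec] }
    (fun a b h => Subtype.ext (sub_eq_zero.1 (eq_zero_of_mulVec hK (K.sub_mem a.2 b.2) hv
      (by rw [Matrix.sub_mulVec]; exact sub_eq_zero.2 h))))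
    (by rw [hK.finrank_eq, Module.finrank_fin_fun])

lemma eval_apply {v : Fin 3 → F} (hv : v ≠ 0) (k : K) : eval hK hv k = (k : Matrix (Fin 3) (Fin 3) F) *ᵥ v := rfl

lemma exists_mulVec {v : Fin 3 → F} (hv : v ≠ 0) (w : Fin 3 → F) : ∃ k ∈ K, k *ᵥ v = w :=
  ⟨((eval hK hv).symm w : K), ((eval hK hv).symm w).2, by rw [← eval_apply hK hv, LinearEquiv.apply_symm_apply]⟩

omit hK in
lemma single_ne : (Pi.single 0 1 : Fin 3 → F) ≠ 0 := by simp

/-- The field is its own centraliser. -/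
lemma mem_of_comm {g : Matrix (Fin 3) (Fin 3) F} (h : ∀ k ∈ K, g * k = k * g) : g ∈ K := by
  obtain ⟨k, hk, hkv⟩ := exists_mulVec hK single_ne (g *ᵥ (Pi.single 0 1 : Fin 3 → F))
  have : g = k := by
    refine Matrix.ext_iff_mulVec.2 fun w => ?_
    obtain ⟨k', hk', rfl⟩ := exists_mulVec hK single_ne w
    rw [Matrix.mulVec_mulVec, h k' hk', ← Matrix.mulVec_mulVec, ← hkv, Matrix.mulVec_mulVec, Matrix.mulVec_mulVec,
      hK.comm k' hk' k hk]
  rwa [this]

/-- The field structure. -/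
@[reducible] noncomputable def field : Field K :=
  letI : CommRing K :=
    { (inferInstance : Ring K) with
      mul_comm := fun x y => Subtype.ext (hK.comm x x.2 y y.2) }
  IsField.toField
    { exists_pair_ne := ⟨0, 1, fun h => zero_ne_one (congrArg Subtype.val h)⟩
      mul_comm := mul_comm
      mul_inv_cancel := fun {x} hx => by
        obtain ⟨y, hy, hxy⟩ := hK.inv x x.2 fun e => hx (Subtype.ext e)
        exact ⟨⟨y, hy⟩, Subtype.ext hxy⟩ }

variable [Finite F]

/-- Anything commuting with a non-scalar element of the field lies in it. -/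
lemma mem_of_comm_one {c x : Matrix (Fin 3) (Fin 3) F} (hc : c ∈ K) (hns : ∀ a : F, c ≠ a • 1)
    (h : x * c = c * x) : x ∈ K := by
  letI := field hK
  let A : Subalgebra F K := (Subalgebra.centralizer F ({x} : Set (Matrix (Fin 3) (Fin 3) F))).comap K.val
  haveI := Subalgebra.isSimpleOrder_of_finrank_prime F K (hK.finrank_eq.symm ▸ Nat.prime_three)
  have hA : A = ⊤ := by
    refine (eq_bot_or_eq_top A).resolve_left fun hbot => ?_
    have : (⟨c, hc⟩ : K) ∈ A := by
      rw [Subalgebra.mem_comap, Subalgebra.mem_centralizer_iff]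
      rintro y rfl
      exact h
    rw [hbot, Algebra.mem_bot] at this
    obtain ⟨a, ha⟩ := this
    exact hns a ((congrArg Subtype.val ha).symm.trans (Algebra.algebraMap_eq_smul_one _))
  refine mem_of_comm hK fun k hk => ?_
  have : (⟨k, hk⟩ : K) ∈ A := hA ▸ Algebra.mem_top
  rw [Subalgebra.mem_comap, Subalgebra.mem_centralizer_iff] at this
  exact this x rfl

/-- Trivial intersection: a non-scalar norm one element conjugate into the field pins the field. -/
lemma mem_normalizer_of_conj {g : GL (Fin 3) F} {c : Matrix (Fin 3) (Fin 3) F} (hc : c ∈ K)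
    (hns : ∀ a : F, c ≠ a • 1)
    (h : ((g⁻¹ : GL (Fin 3) F) : Matrix (Fin 3) (Fin 3) F) * c * (g : Matrix (Fin 3) (Fin 3) F) ∈ K) :
    g ∈ subalgebraNormalizer K := by
  have hfwd : ∀ k ∈ K, (g : Matrix (Fin 3) (Fin 3) F) * k * ((g⁻¹ : GL (Fin 3) F) : Matrix (Fin 3) (Fin 3) F) ∈ K := by
    intro k hk
    refine mem_of_comm_one hK hc hns ?_
    calc (g : Matrix (Fin 3) (Fin 3) F) * k * ((g⁻¹ : GL (Fin 3) F) : Matrix (Fin 3) (Fin 3) F) * c
        = (g : Matrix (Fin 3) (Fin 3) F) * (k * (((g⁻¹ : GL (Fin 3) F) : Matrix (Fin 3) (Fin 3) F) * c * g)) *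
          ((g⁻¹ : GL (Fin 3) F) : Matrix (Fin 3) (Fin 3) F) := by simp [mul_assoc]
      _ = (g : Matrix (Fin 3) (Fin 3) F) * ((((g⁻¹ : GL (Fin 3) F) : Matrix (Fin 3) (Fin 3) F) * c * g) * k) *
          ((g⁻¹ : GL (Fin 3) F) : Matrix (Fin 3) (Fin 3) F) := by rw [hK.comm k hk _ h]
      _ = _ := by simp [mul_assoc]
  intro k
  refine ⟨hfwd k, fun hk => ?_⟩
  let conjg : K →ₗ[F] K :=
    { toFun := fun y => ⟨_, hfwd y y.2⟩
      map_add' := fun a b => Subtype.ext (by simp [mul_add, add_mul])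
      map_smul' := fun a b => Subtype.ext (by simp) }
  have hinj : Function.Injective conjg := fun a b e => Subtype.ext (by
    have := congrArg (fun y : K => ((g⁻¹ : GL (Fin 3) F) : Matrix (Fin 3) (Fin 3) F) * y * g) e
    simpa [conjg, mul_assoc] using this)
  haveI : FiniteDimensional F K := Module.finite_of_finrank_eq_succ (hK.finrank_eq)
  obtain ⟨y, hy⟩ := (LinearMap.injective_iff_surjective.1 hinj) ⟨_, hk⟩
  have := congrArg (fun y : K => ((g⁻¹ : GL (Fin 3) F) : Matrix (Fin 3) (Fin 3) F) * y * g) hy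
  simp [conjg, mul_assoc] at this
  rw [← this]
  exact y.2

lemma card_units : Nat.card Kˣ + 1 = Nat.card F ^ 3 := by
  letI := field hK
  haveI : FiniteDimensional F K := Module.finite_of_finrank_eq_succ (hK.finrank_eq)
  haveI : Finite K := Module.finite_of_finite F
  rw [Nat.card_units, Nat.sub_add_cancel Finite.card_pos, Module.natCard_eq_pow_finrank (K := F) (V := K),
    hK.finrank_eq]

/-- The norm one elements number `q² + q + 1`, and every determinant is a norm. -/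
lemma card_cyc : Nat.card (cyc K) = Nat.card F ^ 2 + Nat.card F + 1 ∧
    ∀ u : Fˣ, ∃ k : GL (Fin 3) F, (k : Matrix (Fin 3) (Fin 3) F) ∈ K ∧
      Matrix.GeneralLinearGroup.det k = u := by
  letI := field hK
  haveI : FiniteDimensional F K := Module.finite_of_finrank_eq_succ (hK.finrank_eq)
  haveI : Finite K := Module.finite_of_finite F
  let ι : Kˣ →* GL (Fin 3) F := Units.map K.val.toRingHom.toMonoidHom
  have hι : Function.Injective ι := Units.map_injective Subtype.val_injective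
  let f : Kˣ →* Fˣ := Matrix.GeneralLinearGroup.det.comp ι
  have hdet : ∀ k : Kˣ, ((f k : Fˣ) : F) = Algebra.norm F (k : K) := by
    intro k
    let ψ := eval hK single_ne
    have h1 : Matrix.toLin' ((k : K) : Matrix (Fin 3) (Fin 3) F) =
        (ψ : K →ₗ[F] (Fin 3 → F)) ∘ₗ (Algebra.lmul F K (k : K)) ∘ₗ (ψ.symm : (Fin 3 → F) →ₗ[F] K) := by
      refine LinearMap.ext fun x => ?_
      obtain ⟨y, rfl⟩ := ψ.surjective x
      rw [LinearMap.comp_apply, LinearMap.comp_apply, LinearEquiv.coe_coe, LinearEquiv.coe_coe, LinearEquiv.symm_apply_apply,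
        Matrix.toLin'_apply, eval_apply, eval_apply, Matrix.mulVec_mulVec]
      rfl
    change ((k : K) : Matrix (Fin 3) (Fin 3) F).det = _
    rw [← LinearMap.det_toLin', h1, LinearMap.det_conj, Algebra.norm_apply]
  have hsurj : Function.Surjective f := fun u => by
    obtain ⟨k, hk⟩ := FiniteField.norm_surjective F K (u : F)
    have hk0 : k ≠ 0 := fun e => u.ne_zero (by rw [← hk, e, Algebra.norm_zero])
    exact ⟨Units.mk0 k hk0, Units.ext (by rw [hdet]; exact hk)⟩
  refine ⟨?_, fun u => ?_⟩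
  · have h1 : Nat.card f.ker * (Nat.card F - 1) = Nat.card Kˣ := by
      rw [← f.ker.card_mul_index, Subgroup.index_ker, MonoidHom.range_eq_top.2 hsurj, Subgroup.card_top,
        Nat.card_units]
    have h2 : Nat.card f.ker = Nat.card (cyc K) := by
      refine Nat.card_congr (Equiv.ofBijective (fun k => ⟨ι k.1, ?_⟩) ⟨?_, ?_⟩)
      · exact mem_cyc hK (k.1 : K).2 k.2
      · exact fun a b h => Subtype.ext (hι (congrArg Subtype.val h))
      · rintro ⟨g, hg, hgi, hgd⟩
        exact ⟨⟨⟨⟨_, hg⟩, ⟨_, hgi⟩, Subtype.ext g.mul_inv, Subtype.ext g.inv_mul⟩, hgd⟩, Subtype.ext (Units.ext rfl)⟩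
    have h3 := card_units hK
    obtain ⟨t, ht⟩ : ∃ t, Nat.card F = t + 2 := ⟨Nat.card F - 2, by
      have := Finite.one_lt_card (α := F); omega⟩
    rw [← h2]
    rw [← h1, ht, show t + 2 - 1 = t + 1 by omega] at h3
    rw [ht]
    refine Nat.eq_of_mul_eq_mul_right (show 0 < t + 1 by omega) ?_
    nlinarith
  · obtain ⟨k, hk⟩ := hsurj u
    exact ⟨ι k, (k : K).2, hk⟩

end

end CfsgLib.Geo.SL3.Singer
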