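/-
Orbits of the norm one elements and their normaliser in SL.
-/
import Cfsg.Agent.Geo.SLThree.SingerBase

set_option autoImplicit false

namespace CfsgLib.Geo.SL3.Singer

open Matrix Cfsg Cfsg.Geo CfsgLib.Geo CfsgLib.Geo.SL3.Plane

variable {F : Type*} [Field F] [Finite F] {K : Subalgebra F (Matrix (Fin 3) (Fin 3) F)}
  (hK : IsFieldSubalgebra 3 K)
include hK

/-- The scalars among the norm one elements. -/
lemma card_scalar :
    Nat.card {g : GL (Fin 3) F // g ∈ cyc K ∧ ∃ a : F, (g : Matrix (Fin 3) (Fin 3) F) = a • 1} =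
      Nat.gcd (Nat.card Fˣ) 3 := by
  rw [← IsCyclic.card_powMonoidHom_ker (G := Fˣ) 3]
  let sc : Fˣ →* GL (Fin 3) F := Units.map (Matrix.scalar (Fin 3) : F →+* Matrix (Fin 3) (Fin 3) F).toMonoidHom
  have hsc : ∀ u, (sc u : Matrix (Fin 3) (Fin 3) F) = (u : F) • 1 := fun u => by
    show Matrix.scalar (Fin 3) (u : F) = _
    rw [Matrix.scalar_apply, Matrix.smul_one_eq_diagonal]
  have hdet : ∀ u : Fˣ, (sc u : Matrix (Fin 3) (Fin 3) F).det = ((u ^ 3 : Fˣ) : F) := fun u => by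
    rw [hsc, Matrix.det_smul, Fintype.card_fin, Matrix.det_one, mul_one, Units.val_pow_eq_pow_val]
  let e : (powMonoidHom 3 : Fˣ →* Fˣ).ker →
      {g : GL (Fin 3) F // g ∈ cyc K ∧ ∃ a : F, (g : Matrix (Fin 3) (Fin 3) F) = a • 1} := fun u =>
    ⟨sc u.1, mem_cyc hK (by rw [hsc]; exact K.smul_mem K.one_mem _) (mem_specialLinear.2 (by
      rw [hdet, show (u : Fˣ) ^ 3 = 1 from u.2, Units.val_one])), u.1, hsc _⟩
  refine (Nat.card_congr (Equiv.ofBijective e ⟨?_, ?_⟩)).symm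
  · intro u v h
    have h1 := congrArg (fun g : GL (Fin 3) F => (g : Matrix (Fin 3) (Fin 3) F) 0 0) (congrArg Subtype.val h)
    simp only [e, hsc, Matrix.smul_apply, Matrix.one_apply_eq, smul_eq_mul, mul_one] at h1
    exact Subtype.ext (Units.ext h1)
  · rintro ⟨g, hg, a, ha⟩
    have ha0 : a ≠ 0 := fun e => g.ne_zero (by rw [ha, e, zero_smul])
    have he : sc (Units.mk0 a ha0) = g := Units.ext (by rw [hsc, ha]; rfl)
    refine ⟨⟨Units.mk0 a ha0, ?_⟩, Subtype.ext he⟩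
    show Units.mk0 a ha0 ^ 3 = 1
    apply Units.ext
    rw [← hdet, he, Units.val_one]
    exact mem_specialLinear.1 hg.2.2

omit hK in
lemma smul_eq_of_scalar {g : GL (Fin 3) F} {a : F} (h : (g : Matrix (Fin 3) (Fin 3) F) = a • 1) (P : Pt F) :
    g • P = P :=
  (smul_eq_self_iff g P).2 ⟨a, by rw [h, Matrix.smul_mulVec, Matrix.one_mulVec]⟩

lemma smul_eq_iff {g : GL (Fin 3) F} (hg : g ∈ cyc K) (P : Pt F) :
    g • P = P ↔ ∃ a : F, (g : Matrix (Fin 3) (Fin 3) F) = a • 1 := by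
  refine ⟨fun h => ?_, fun ⟨a, ha⟩ => smul_eq_of_scalar ha P⟩
  obtain ⟨c, hc⟩ := (smul_eq_self_iff g P).1 h
  exact ⟨c, scalar_of_eigen hK hg.1 P.rep_nonzero hc⟩

lemma dual_smul_eq_iff {g : GL (Fin 3) F} (hg : g ∈ cyc K) (P : Pt F) :
    dual g • P = P ↔ ∃ a : F, (g : Matrix (Fin 3) (Fin 3) F) = a • 1 := by
  constructor
  · intro h
    have h' : (dual g)⁻¹ • P = P := inv_smul_eq_iff.2 h.symm
    rw [← map_inv] at h'
    obtain ⟨c, hc⟩ := (smul_eq_self_iff _ P).1 h'
    rw [dual_mulVec, inv_inv] at hc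
    exact ⟨c, scalar_of_eigen' hK hg.1 P.rep_nonzero hc⟩
  · rintro ⟨a, ha⟩
    have h' : (dual g)⁻¹ • P = P := by
      rw [← map_inv]
      refine (smul_eq_self_iff _ P).2 ⟨a, ?_⟩
      rw [dual_mulVec, inv_inv, ha, Matrix.vecMul_smul, Matrix.vecMul_one]
    exact (inv_smul_eq_iff.1 h').symm

omit hK [Finite F] in
/-- Orbit times scalars. -/
lemma orbit_mul_card {G X : Type*} [Group G] [MulAction G X] (H : Subgroup G) (x : X) {p : G → Prop}
    (hp : ∀ g ∈ H, g • x = x ↔ p g) :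
    Nat.card (MulAction.orbit H x) * Nat.card {g : G // g ∈ H ∧ p g} = Nat.card H := by
  rw [Nat.card_congr (MulAction.orbitEquivQuotientStabilizer H x),
    Subgroup.card_eq_card_quotient_mul_card_subgroup (MulAction.stabilizer H x)]
  congr 1
  exact Nat.card_congr
    { toFun := fun g => ⟨⟨g.1, g.2.1⟩, (hp g.1 g.2.1).2 g.2.2⟩
      invFun := fun g => ⟨g.1.1, g.1.2, (hp g.1.1 g.1.2).1 g.2⟩
      left_inv := fun g => rfl
      right_inv := fun g => rfl }

/-- The numerical data of the orbits. -/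
structure OrbitData (K : Subalgebra F (Matrix (Fin 3) (Fin 3) F)) (N d : ℕ) : Prop where
  card_scal : Nat.card {g : GL (Fin 3) F // g ∈ cyc K ∧ ∃ a : F, (g : Matrix (Fin 3) (Fin 3) F) = a • 1} = d
  mul : d * N = Nat.card F ^ 2 + Nat.card F + 1
  pt : ∀ P : Pt F, Nat.card (MulAction.orbit (cyc K) P) = N
  line : ∀ L : Pt F, Nat.card (MulAction.orbit ((cyc K).map dual) L) = N
  three : d = 1 ∨ (d = 3 ∧ Nat.card F % 3 = 1)
  coprime : Nat.Coprime 3 N

lemma exists_orbitData : ∃ N d, OrbitData K N d := by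
  obtain ⟨hm, -⟩ := card_cyc hK
  set d := Nat.gcd (Nat.card Fˣ) 3
  have hd : d = 1 ∨ d = 3 := (Nat.dvd_prime Nat.prime_three).1 (Nat.gcd_dvd_right _ _)
  have hd0 : d ≠ 0 := by omega
  obtain ⟨P₀⟩ : Nonempty (Pt F) := ⟨Projectivization.mk F _ (single_ne (F := F))⟩
  set N := Nat.card (MulAction.orbit (cyc K) P₀)
  have hpt : ∀ P : Pt F, Nat.card (MulAction.orbit (cyc K) P) * d = Nat.card (cyc K) := fun P => by
    rw [← orbit_mul_card (cyc K) P (fun g hg => smul_eq_iff hK hg P), card_scalar hK]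
  have hN : N * d = Nat.card F ^ 2 + Nat.card F + 1 := (hpt P₀).trans hm
  have hq3 : d = 3 → Nat.card F % 3 = 1 := fun h => by
    have : 3 ∣ Nat.card Fˣ := h ▸ Nat.gcd_dvd_left _ _
    rw [Nat.card_units] at this
    have := Finite.one_lt_card (α := F)
    omega
  refine ⟨N, d, card_scalar hK, by rw [mul_comm]; exact hN, fun P => ?_, fun L => ?_, ?_, ?_⟩
  · exact Nat.eq_of_mul_eq_mul_right (by omega) ((hpt P).trans (hpt P₀).symm)
  · refine Nat.eq_of_mul_eq_mul_right (show 0 < d by omega) (Eq.trans ?_ (hpt P₀).symm)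
    have e1 := orbit_mul_card ((cyc K).map dual) L
      (p := fun g => ∃ a : F, (dual g : Matrix (Fin 3) (Fin 3) F) = a • 1) (fun g hg => by
        obtain ⟨c, hc, rfl⟩ := hg
        rw [dual_dual]
        exact dual_smul_eq_iff hK hc L)
    rw [← Nat.card_congr ((cyc K).equivMapOfInjective dual dual_injective).toEquiv] at e1
    rw [← e1]
    congr 1
    refine (card_scalar hK).symm.trans (Nat.card_congr
      { toFun := fun g => ⟨dual g.1, Subgroup.mem_map_of_mem dual g.2.1, by rw [dual_dual]; exact g.2.2⟩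
        invFun := fun g => ⟨dual g.1, by obtain ⟨c, hc, e⟩ := g.2.1; rw [← e, dual_dual]; exact hc, g.2.2⟩
        left_inv := fun g => Subtype.ext (dual_dual _)
        right_inv := fun g => Subtype.ext (dual_dual _) })
  · exact hd.imp_right fun h => ⟨h, hq3 h⟩
  · rw [Nat.prime_three.coprime_iff_not_dvd]
    intro h3
    rcases hd with h | h
    · rw [h, mul_one] at hN
      rw [hN] at h3
      have hne : Nat.card F % 3 ≠ 1 := fun e => by
        have : 3 ∣ d := Nat.dvd_gcd (by rw [Nat.card_units]; omega) dvd_rfl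
        rw [h] at this; omega
      have h4 := Nat.mod_eq_zero_of_dvd h3
      simp [Nat.add_mod, Nat.pow_mod] at h4
      have := Nat.mod_lt (Nat.card F) (show 0 < 3 by norm_num)
      interval_cases (Nat.card F % 3) <;> simp at h4 hne
    · obtain ⟨a, ha⟩ : ∃ a, Nat.card F = 3 * a + 1 := ⟨Nat.card F / 3, by have := hq3 h; omega⟩
      rw [h, ha] at hN
      have : N = 3 * (a * a) + 3 * a + 1 := by nlinarith
      omega

omit hK [Finite F] in
lemma mem_normalizer_of_mem {g : GL (Fin 3) F} (hg : (g : Matrix (Fin 3) (Fin 3) F) ∈ K)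
    (hgi : ((g⁻¹ : GL (Fin 3) F) : Matrix (Fin 3) (Fin 3) F) ∈ K) : g ∈ subalgebraNormalizer K := by
  intro k
  refine ⟨fun hk => K.mul_mem (K.mul_mem hg hk) hgi, fun h => ?_⟩
  have := K.mul_mem (K.mul_mem hgi h) hg
  simpa [mul_assoc] using this

/-- The normaliser in SL: order and cubes. -/
lemma normalizer_data :
    cyc K ≤ subalgebraNormalizer K ⊓ specialLinear (Fin 3) F ∧
    (∀ x ∈ subalgebraNormalizer K ⊓ specialLinear (Fin 3) F, x ^ 3 ∈ cyc K) ∧
    Nat.card (subalgebraNormalizer K ⊓ specialLinear (Fin 3) F : Subgroup (GL (Fin 3) F)) =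
      3 * (Nat.card F ^ 2 + Nat.card F + 1) := by
  letI := field hK
  haveI : FiniteDimensional F K := Module.finite_of_finrank_eq_succ (hK.finrank_eq)
  haveI : Finite K := Module.finite_of_finite F
  set X : Subgroup (GL (Fin 3) F) := subalgebraNormalizer K ⊓ specialLinear (Fin 3) F
  have hle : cyc K ≤ X := fun g hg => ⟨mem_normalizer_of_mem hg.1 hg.2.1, hg.2.2⟩
  let ρ : X →* (K ≃ₐ[F] K) :=
    { toFun := fun g => AlgEquiv.ofRingEquiv (f :=
        { toFun := fun k => ⟨_, (g.2.1 k).1 k.2⟩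
          invFun := fun k => ⟨_, ((X.inv_mem g.2).1 k).1 k.2⟩
          left_inv := fun k => Subtype.ext (by simp [mul_assoc])
          right_inv := fun k => Subtype.ext (by simp [mul_assoc])
          map_mul' := fun a b => Subtype.ext (by simp [mul_assoc])
          map_add' := fun a b => Subtype.ext (by simp [mul_add, add_mul]) })
        (fun c => Subtype.ext (by
          show (g.1 : Matrix (Fin 3) (Fin 3) F) * algebraMap F _ c * ((g.1⁻¹ : GL (Fin 3) F) : Matrix (Fin 3) (Fin 3) F) = _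
          rw [← Algebra.commutes, mul_assoc, Units.mul_inv, mul_one]
          rfl))
      map_one' := AlgEquiv.ext fun k => Subtype.ext (by simp)
      map_mul' := fun a b => AlgEquiv.ext fun k => Subtype.ext (by simp [mul_assoc]) }
  have hρ : ∀ (g : X) (k : K), ((ρ g k : K) : Matrix (Fin 3) (Fin 3) F) =
      (g.1 : Matrix (Fin 3) (Fin 3) F) * k * ((g.1⁻¹ : GL (Fin 3) F) : Matrix (Fin 3) (Fin 3) F) := fun g k => rfl
  have hgal : Nat.card (K ≃ₐ[F] K) = 3 := by rw [IsGalois.card_aut_eq_finrank, hK.finrank_eq]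
  have hker : ∀ g : X, g ∈ ρ.ker ↔ g.1 ∈ cyc K := by
    intro g
    constructor
    · intro h
      refine mem_cyc hK (mem_of_comm hK fun k hk => ?_) g.2.2
      have h1 := hρ g ⟨k, hk⟩
      rw [show ρ g = 1 from h] at h1
      change k = _ at h1
      conv_rhs => rw [h1]
      rw [mul_assoc _ ((g.1⁻¹ : GL (Fin 3) F) : Matrix (Fin 3) (Fin 3) F), Units.inv_mul, mul_one]
    · intro h
      refine AlgEquiv.ext fun k => Subtype.ext ?_
      rw [hρ, hK.comm _ h.1 k k.2, mul_assoc, Units.mul_inv, mul_one]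
      rfl
  refine ⟨hle, fun x hx => (hker (⟨x, hx⟩ ^ 3)).1 ?_, ?_⟩
  · show ρ (⟨x, hx⟩ ^ 3) = 1
    have := pow_card_eq_one' (x := ρ ⟨x, hx⟩)
    rw [hgal] at this
    rwa [map_pow]
  have hsurj : Function.Surjective ρ := by
    intro σ
    let ψ := eval hK (single_ne (F := F))
    let T : (Fin 3 → F) ≃ₗ[F] (Fin 3 → F) := ψ.symm.trans (σ.toLinearEquiv.trans ψ)
    let S : GL (Fin 3) F := ⟨LinearMap.toMatrix' T.toLinearMap, LinearMap.toMatrix' T.symm.toLinearMap,
      by rw [← LinearMap.toMatrix'_comp]; simp, by rw [← LinearMap.toMatrix'_comp]; simp⟩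
    have hS : ∀ v, (S : Matrix (Fin 3) (Fin 3) F) *ᵥ v = T v := fun v => LinearMap.toMatrix'_mulVec _ v
    have hconj : ∀ k : K, (S : Matrix (Fin 3) (Fin 3) F) * k = (σ k : K) * (S : Matrix (Fin 3) (Fin 3) F) := fun k => by
      refine Matrix.ext_iff_mulVec.2 fun w => ?_
      obtain ⟨y, rfl⟩ := ψ.surjective w
      have e : ∀ a b : K, (a : Matrix (Fin 3) (Fin 3) F) *ᵥ ψ b = ψ (a * b) := fun a b => by
        simp only [ψ, eval_apply, Matrix.mulVec_mulVec]
        rfl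
      rw [← Matrix.mulVec_mulVec, ← Matrix.mulVec_mulVec, e, hS, hS]
      simp only [T, LinearEquiv.trans_apply, LinearEquiv.symm_apply_apply, AlgEquiv.toLinearEquiv_apply, map_mul, e]
    obtain ⟨k₀, hk₀, hdet⟩ := (card_cyc hK).2 (Matrix.GeneralLinearGroup.det S)⁻¹
    have hinK : ∀ k : K, ((k₀ * S : GL (Fin 3) F) : Matrix (Fin 3) (Fin 3) F) * k *
        (((k₀ * S)⁻¹ : GL (Fin 3) F) : Matrix (Fin 3) (Fin 3) F) = (σ k : K) := fun k => by
      rw [Units.val_mul, mul_assoc _ (S : Matrix (Fin 3) (Fin 3) F), hconj, ← mul_assoc,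
        hK.comm _ hk₀ _ (σ k).2, mul_assoc (↑(σ k) : Matrix (Fin 3) (Fin 3) F), ← Units.val_mul, mul_assoc,
        Units.mul_inv, mul_one]
    have hN : k₀ * S ∈ X := by
      refine ⟨fun k => ⟨fun hk => (hinK ⟨k, hk⟩).symm ▸ (σ _).2, fun hk => ?_⟩, ?_⟩
      · have h1 := hinK (σ.symm ⟨_, hk⟩)
        rw [AlgEquiv.apply_symm_apply] at h1
        change _ = ((k₀ * S : GL (Fin 3) F) : Matrix (Fin 3) (Fin 3) F) * k * _ at h1
        rw [Units.mul_left_inj, Units.mul_right_inj] at h1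
        rw [← h1]
        exact (σ.symm _).2
      · show Matrix.GeneralLinearGroup.det (k₀ * S) = 1
        rw [map_mul, hdet, inv_mul_cancel]
    exact ⟨⟨_, hN⟩, AlgEquiv.ext fun k => Subtype.ext (hinK k)⟩
  have h1 : Nat.card ρ.ker = Nat.card (cyc K) := Nat.card_congr
    { toFun := fun g => ⟨g.1.1, (hker g.1).1 g.2⟩
      invFun := fun g => ⟨⟨g.1, hle g.2⟩, (hker _).2 g.2⟩
      left_inv := fun g => rfl
      right_inv := fun g => rfl }
  rw [← ρ.ker.card_mul_index, Subgroup.index_ker, MonoidHom.range_eq_top.2 hsurj, Subgroup.card_top, hgal, h1,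
    (card_cyc hK).1, mul_comm]

/-- A cube is scalar only for scalars. -/
lemma scalar_of_cube {N d : ℕ} (hD : OrbitData K N d) {c : GL (Fin 3) F} (hc : c ∈ cyc K) {a : F}
    (h : ((c ^ 3 : GL (Fin 3) F) : Matrix (Fin 3) (Fin 3) F) = a • 1) :
    ∃ b : F, (c : Matrix (Fin 3) (Fin 3) F) = b • 1 := by
  obtain ⟨P⟩ : Nonempty (Pt F) := ⟨Projectivization.mk F _ (single_ne (F := F))⟩
  set S := MulAction.stabilizer (cyc K) P
  haveI : S.Normal := ⟨fun x hx y => by
    have hxy : y * x * y⁻¹ = x := by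
      apply Subtype.ext; apply Units.ext
      simp only [Subgroup.coe_mul, Units.val_mul]
      rw [hK.comm _ y.2.1 _ x.2.1, mul_assoc, InvMemClass.coe_inv, Units.mul_inv, mul_one]
    rwa [hxy]⟩
  have hidx : S.index = N := by
    rw [MulAction.index_stabilizer, ← Nat.card_coe_set_eq]
    exact hD.pt P
  have h1 : (⟨c, hc⟩ : cyc K) ^ 3 ∈ S := smul_eq_of_scalar (g := c ^ 3) h P
  have h2 : (⟨c, hc⟩ : cyc K) ^ N ∈ S := by rw [← hidx]; exact Subgroup.pow_index_mem _ _
  have h3 : (⟨c, hc⟩ : cyc K) ∈ S := by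
    have e := Nat.gcd_eq_gcd_ab 3 N
    rw [hD.coprime.gcd_eq_one] at e
    have : (⟨c, hc⟩ : cyc K) = ((⟨c, hc⟩ : cyc K) ^ 3) ^ Nat.gcdA 3 N * ((⟨c, hc⟩ : cyc K) ^ N) ^ Nat.gcdB 3 N := by
      rw [← zpow_natCast, ← _root_.zpow_mul, ← zpow_natCast, ← _root_.zpow_mul, ← _root_.zpow_add, ← e, Nat.cast_one,
        _root_.zpow_one]
    rw [this]
    exact S.mul_mem (S.zpow_mem h1 _) (S.zpow_mem h2 _)
  exact (smul_eq_iff hK hc P).1 h3

end CfsgLib.Geo.SL3.Singer
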