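/-
Point stabilisers in a group without transvections, and central homologies at every point.
-/
import Cfsg.Agent.Geo.SLThree.Plane
import Cfsg.Agent.Geo.SLFour.Quadric
import Mathlib.LinearAlgebra.Matrix.GeneralLinearGroup.Card
import Mathlib.LinearAlgebra.Matrix.Charpoly.FiniteField

set_option autoImplicit false

namespace CfsgLib.Geo.SL3.Stab

open Matrix Cfsg Cfsg.Geo CfsgLib.Geo CfsgLib.Geo.SL3.Plane

variable {F : Type*} [Field F] {M : Subgroup (GL (Fin 3) F)}

/-- A map with values on one line. -/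
lemma exists_covector_of_line {T : Matrix (Fin 3) (Fin 3) F} {v : Fin 3 → F} (hv : v ≠ 0)
    (h : ∀ x, ∃ c : F, T *ᵥ x = c • v) : ∃ ψ : Fin 3 → F, ∀ x, T *ᵥ x = (ψ ⬝ᵥ x) • v := by
  obtain ⟨j, hj⟩ := Function.ne_iff.1 hv
  refine ⟨fun l => T j l / v j, fun x => ?_⟩
  obtain ⟨c, hc⟩ := h x
  have h1 := congrFun hc j
  simp only [Matrix.mulVec, dotProduct, Pi.smul_apply, smul_eq_mul] at h1
  rw [hc]
  congr 1
  simp only [dotProduct, div_mul_eq_mul_div]
  rw [← Finset.sum_div, h1, mul_div_assoc, div_self hj, mul_one]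

/-- A matrix with a given first column. -/
lemma exists_col {v : Fin 3 → F} (hv : v ≠ 0) :
    ∃ h : GL (Fin 3) F, (h : Matrix (Fin 3) (Fin 3) F) *ᵥ Pi.single 0 1 = v := by
  have he : (Pi.single 0 1 : Fin 3 → F) ≠ 0 := by simp
  obtain ⟨f, hf'⟩ := Submodule.exists_linearEquiv_restrict_eq
    ((LinearEquiv.toSpanNonzeroSingleton F (Fin 3 → F) _ he).symm.trans
      (LinearEquiv.toSpanNonzeroSingleton F (Fin 3 → F) _ hv))
  have hf : f (Pi.single 0 1) = v := by
    have h1 := hf' ⟨Pi.single 0 1, Submodule.mem_span_singleton_self _⟩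
    rw [← h1, LinearEquiv.trans_apply,
      show (⟨Pi.single 0 1, Submodule.mem_span_singleton_self _⟩ : Submodule.span F {(Pi.single 0 1 : Fin 3 → F)}) =
        LinearEquiv.toSpanNonzeroSingleton F (Fin 3 → F) _ he 1 from Subtype.ext (one_smul F _).symm,
      LinearEquiv.symm_apply_apply]
    exact one_smul F v
  let h : GL (Fin 3) F := ⟨LinearMap.toMatrix' f.toLinearMap, LinearMap.toMatrix' f.symm.toLinearMap,
    by rw [← LinearMap.toMatrix'_comp]; simp, by rw [← LinearMap.toMatrix'_comp]; simp⟩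
  exact ⟨h, (LinearMap.toMatrix'_mulVec _ _).trans hf⟩

variable (hMI : M ≤ specialLinear (Fin 3) F) (hno : ∀ a φ : Fin 3 → F, a ≠ 0 → HasTv M a φ → φ = 0)
include hMI hno

/-- The stabiliser of a point embeds in `GL 2`, scalars going to maps scalar modulo the point. -/
lemma exists_hom (P : Pt F) :
    ∃ f : (M ⊓ MulAction.stabilizer (GL (Fin 3) F) P : Subgroup (GL (Fin 3) F)) →* GL (Fin 2) F,
      Function.Injective f ∧ ∀ g (a : F), (f g : Matrix (Fin 2) (Fin 2) F) = a • 1 →
        ∀ x, ∃ c : F, ((g : GL (Fin 3) F) : Matrix (Fin 3) (Fin 3) F) *ᵥ x = a • x + c • P.rep := by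
  obtain ⟨h, hh⟩ := exists_col P.rep_nonzero
  set S : Subgroup (GL (Fin 3) F) := M ⊓ MulAction.stabilizer (GL (Fin 3) F) P
  let A : S → Matrix (Fin 3) (Fin 3) F := fun g => ((h⁻¹ * g * h : GL (Fin 3) F) : Matrix (Fin 3) (Fin 3) F)
  have hcol : ∀ (g : S) (k : Fin 2), A g k.succ 0 = 0 := by
    intro g k
    obtain ⟨c, hc⟩ := (smul_eq_self_iff (g : GL (Fin 3) F) P).1 g.2.2
    have h1 : A g *ᵥ Pi.single 0 1 = c • (Pi.single 0 1 : Fin 3 → F) := by
      simp only [A, mul_mulVec]
      rw [hh, hc, Matrix.mulVec_smul]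
      conv_lhs => rw [← hh, inv_mulVec_mulVec]
    have h2 := congrFun h1 k.succ
    simpa [Fin.succ_ne_zero] using h2
  have hmul : ∀ g g' : S, A (g * g') = A g * A g' := fun g g' => by
    simp only [A, Subgroup.coe_mul, ← Units.val_mul]
    congr 1
    group
  let B : S →* Matrix (Fin 2) (Fin 2) F :=
    { toFun := fun g => (A g).submatrix Fin.succ Fin.succ
      map_one' := by
        ext k l
        simp [A, Matrix.one_apply]
      map_mul' := fun g g' => by
        ext k l
        rw [Matrix.submatrix_apply, hmul, Matrix.mul_apply, Matrix.mul_apply, Fin.sum_univ_succ, hcol, zero_mul,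
          zero_add]
        rfl }
  have hB : ∀ (g : S) (k l : Fin 2), (B.toHomUnits g : Matrix (Fin 2) (Fin 2) F) k l = A g k.succ l.succ :=
    fun g k l => rfl
  have hscal : ∀ g (a : F), (B.toHomUnits g : Matrix (Fin 2) (Fin 2) F) = a • 1 →
      ∀ x, ∃ c : F, ((g : GL (Fin 3) F) : Matrix (Fin 3) (Fin 3) F) *ᵥ x = a • x + c • P.rep := by
    intro g a hga x
    obtain ⟨y, rfl⟩ : ∃ y, x = (h : Matrix (Fin 3) (Fin 3) F) *ᵥ y := ⟨_, (mulVec_inv_mulVec h x).symm⟩
    refine ⟨(A g *ᵥ y - a • y) 0, ?_⟩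
    have h1 : A g *ᵥ y = a • y + ((A g *ᵥ y - a • y) 0) • (Pi.single 0 1 : Fin 3 → F) := by
      funext k
      refine Fin.cases ?_ (fun k => ?_) k
      · simp
      · have e : ∀ l : Fin 2, A g k.succ l.succ = if k = l then a else 0 := fun l => by
          rw [← hB, hga, Matrix.smul_apply, Matrix.one_apply, smul_eq_mul, mul_ite, mul_one, mul_zero]
        simp only [Matrix.mulVec, dotProduct, Fin.sum_univ_succ, hcol, zero_mul, zero_add, e]
        fin_cases k <;> simp
    calc ((g : GL (Fin 3) F) : Matrix (Fin 3) (Fin 3) F) *ᵥ ((h : Matrix (Fin 3) (Fin 3) F) *ᵥ y)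
        = (h : Matrix (Fin 3) (Fin 3) F) *ᵥ (A g *ᵥ y) := by simp only [A, mul_mulVec, mulVec_inv_mulVec]
      _ = _ := by
          conv_lhs => rw [h1]
          rw [Matrix.mulVec_add, Matrix.mulVec_smul, Matrix.mulVec_smul, hh]
  refine ⟨B.toHomUnits, (injective_iff_map_eq_one _).2 fun g hg => ?_, hscal⟩
  by_contra hne
  have hx := hscal g 1 (by rw [hg, one_smul]; rfl)
  have hdet : A g 0 0 = 1 := by
    have h1 : (A g).det = 1 := mem_specialLinear.1 (show h⁻¹ * (g : GL (Fin 3) F) * h ∈ specialLinear (Fin 3) F by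
      have := (inferInstance : (Matrix.GeneralLinearGroup.det (n := Fin 3) (R := F)).ker.Normal).conj_mem _
        (hMI g.2.1) h⁻¹
      rwa [inv_inv] at this)
    have e : ∀ k l : Fin 2, A g k.succ l.succ = if k = l then 1 else 0 := fun k l => by
      rw [← hB, hg, Units.val_one, Matrix.one_apply]
    rw [Matrix.det_fin_three, show A g 1 0 = 0 from hcol g 0, show A g 2 0 = 0 from hcol g 1,
      show A g 1 1 = 1 from (e 0 0).trans (if_pos rfl), show A g 1 2 = 0 from (e 0 1).trans (if_neg (by decide)),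
      show A g 2 1 = 0 from (e 1 0).trans (if_neg (by decide)), show A g 2 2 = 1 from (e 1 1).trans (if_pos rfl)] at h1
    simpa using h1
  have hfix : ((g : GL (Fin 3) F) : Matrix (Fin 3) (Fin 3) F) *ᵥ P.rep = P.rep := by
    have h1 : A g *ᵥ Pi.single 0 1 = (Pi.single 0 1 : Fin 3 → F) := by
      rw [Matrix.mulVec_single_one]
      funext k
      refine Fin.cases ?_ (fun k => ?_) k
      · simp [hdet]
      · simp [hcol, Fin.succ_ne_zero]
    have h2 := congrArg (fun v => (h : Matrix (Fin 3) (Fin 3) F) *ᵥ v) h1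
    simp only [A, mul_mulVec, mulVec_inv_mulVec] at h2
    rwa [hh] at h2
  obtain ⟨φ, hφ, hT⟩ := Orth4.hasTv_of_fix g.2.1 P.rep_nonzero hfix
    (fun y => by
      obtain ⟨c, hc⟩ := hx y
      exact ⟨c, by rw [hc, one_smul]⟩) (fun e => hne (Subtype.ext e))
  exact hφ (hno _ φ P.rep_nonzero hT)

/-- The order of a point stabiliser divides that of `GL 2`. -/
lemma card_stab_dvd [Finite F] (P : Pt F) :
    Nat.card (M ⊓ MulAction.stabilizer (GL (Fin 3) F) P : Subgroup (GL (Fin 3) F)) ∣ Nat.card (GL (Fin 2) F) := by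
  obtain ⟨f, hf, -⟩ := exists_hom hMI hno P
  exact Subgroup.card_dvd_of_injective f hf

omit hMI hno in
lemma card_GL2 [Finite F] : Nat.card (GL (Fin 2) F) = Nat.card F * (Nat.card F - 1) ^ 2 * (Nat.card F + 1) := by
  haveI := Fintype.ofFinite F
  rw [Matrix.card_GL_field, Fin.prod_univ_two, Nat.card_eq_fintype_card]
  obtain ⟨t, ht⟩ : ∃ t, Fintype.card F = t + 1 := ⟨Fintype.card F - 1, by
    have := Fintype.card_pos (α := F); omega⟩
  simp only [Fin.val_zero, Fin.val_one, pow_zero, pow_one, ht]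
  rw [show (t + 1) ^ 2 - 1 = t * (t + 2) by rw [show (t + 1) ^ 2 = t * (t + 2) + 1 by ring, Nat.add_sub_cancel],
    show (t + 1) ^ 2 - (t + 1) = t * (t + 1) by rw [show (t + 1) ^ 2 = t * (t + 1) + (t + 1) by ring, Nat.add_sub_cancel],
    Nat.add_sub_cancel]
  ring

/-- A subgroup of `GL 2` of the largest order prime to the characteristic contains the scalars. -/
lemma scalar_mem [Finite F] {G : Subgroup (GL (Fin 2) F)}
    (hG : Nat.card G = (Nat.card F - 1) ^ 2 * (Nat.card F + 1)) (a : Fˣ) :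
    ∃ g ∈ G, (g : Matrix (Fin 2) (Fin 2) F) = (a : F) • 1 := by
  set q := Nat.card F
  have hq : 2 ≤ q := Finite.one_lt_card
  let sc : Fˣ →* GL (Fin 2) F := Units.map (Matrix.scalar (Fin 2) : F →+* Matrix (Fin 2) (Fin 2) F).toMonoidHom
  have hsc : ∀ u, (sc u : Matrix (Fin 2) (Fin 2) F) = (u : F) • 1 := fun u => by
    show Matrix.scalar (Fin 2) (u : F) = _
    rw [Matrix.scalar_apply, Matrix.smul_one_eq_diagonal]
  have hinj : Function.Injective sc := fun u v h => Units.ext (by
    have h1 := congrArg (fun g : GL (Fin 2) F => (g : Matrix (Fin 2) (Fin 2) F) 0 0) h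
    simpa [hsc] using h1)
  have hn : sc.range.Normal := ⟨fun x hx y => by
    obtain ⟨u, rfl⟩ := hx
    refine ⟨u, Units.ext ?_⟩
    simp [hsc, mul_assoc]⟩
  have hZ : Nat.card sc.range = q - 1 := by
    rw [← Nat.card_congr (MonoidHom.ofInjective hinj).toEquiv, Nat.card_units]
  let π : G →* GL (Fin 2) F ⧸ sc.range := (QuotientGroup.mk' sc.range).comp G.subtype
  have hker : Nat.card π.ker ∣ q - 1 := by
    rw [← hZ]
    refine Subgroup.card_dvd_of_injective
      (⟨⟨fun g => ⟨(g.1 : GL (Fin 2) F), (QuotientGroup.eq_one_iff _).1 g.2⟩, rfl⟩, fun g g' => rfl⟩ :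
        π.ker →* sc.range) fun g g' h => ?_
    exact Subtype.ext (Subtype.ext (congrArg Subtype.val h :))
  have hidx : Nat.card (GL (Fin 2) F ⧸ sc.range) = q * ((q - 1) * (q + 1)) := by
    refine Nat.eq_of_mul_eq_mul_right (show 0 < q - 1 by omega) ?_
    rw [← hZ, ← Subgroup.card_eq_card_quotient_mul_card_subgroup, card_GL2, hZ]
    ring
  have hrange : Nat.card π.range ∣ q * ((q - 1) * (q + 1)) := hidx ▸ Subgroup.card_subgroup_dvd_card _
  have hcop : Nat.Coprime (Nat.card π.range) q := by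
    have h1 : Nat.card π.range ∣ Nat.card G := Subgroup.card_range_dvd π
    rw [hG] at h1
    refine Nat.Coprime.coprime_dvd_left h1 ?_
    have e1 : Nat.Coprime (q - 1) q := by
      rw [Nat.coprime_self_sub_left (by omega : 1 ≤ q)]; exact Nat.coprime_one_left q
    exact Nat.Coprime.mul_left (e1.pow_left 2) (by simp)
  have h2 : Nat.card π.range ∣ (q - 1) * (q + 1) := hcop.dvd_of_dvd_mul_left hrange
  have h3 : Nat.card π.range * Nat.card π.ker = (q - 1) * (q + 1) * (q - 1) := by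
    rw [← Subgroup.index_ker, mul_comm, π.ker.card_mul_index, hG]
    ring
  have h4 : Nat.card π.ker = q - 1 := by
    refine Nat.dvd_antisymm hker ?_
    obtain ⟨e, he⟩ := h2
    refine ⟨e, ?_⟩
    refine Nat.eq_of_mul_eq_mul_left (show 0 < Nat.card π.range from Nat.card_pos) ?_
    rw [h3, he]
    ring
  have hle : sc.range ≤ G := by
    have : π.ker.map G.subtype = sc.range := by
      refine Subgroup.eq_of_le_of_card_ge ?_ ?_
      · rintro _ ⟨g, hg, rfl⟩
        exact (QuotientGroup.eq_one_iff _).1 hg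
      · rw [hZ, ← Nat.card_congr (π.ker.equivMapOfInjective _ G.subtype_injective).toEquiv, h4]
    rw [← this]
    exact Subgroup.map_subtype_le _
  exact ⟨sc a, hle ⟨a, rfl⟩, hsc a⟩

/-- Full point stabilisers at every point are impossible. -/
theorem false_of_large [Finite F] {p : ℕ} [Fact p.Prime] [CharP F p] (hq : 5 ≤ Nat.card F)
    (hcard : ∀ P : Pt F, Nat.card (M ⊓ MulAction.stabilizer (GL (Fin 3) F) P : Subgroup (GL (Fin 3) F)) =
      (Nat.card F - 1) ^ 2 * (Nat.card F + 1)) : False := by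
  classical
  haveI := Fintype.ofFinite F
  haveI := Fintype.ofFinite (Pt F)
  obtain ⟨a, ha⟩ := IsCyclic.exists_generator (α := Fˣ)
  have ha3 : a ^ 3 ≠ 1 := fun e => by
    have h1 : orderOf a = Nat.card Fˣ := orderOf_eq_card_of_forall_mem_zpowers ha
    have h2 := Nat.le_of_dvd (by norm_num) (orderOf_dvd_of_pow_eq_one e)
    rw [h1, Nat.card_units] at h2
    omega
  have key : ∀ P : Pt F, ∃ g : GL (Fin 3) F, ∃ ψ : Fin 3 → F, g ∈ M ∧ g • P = P ∧ ψ ⬝ᵥ P.rep ≠ 0 ∧
      (∀ x, (g : Matrix (Fin 3) (Fin 3) F) *ᵥ x = (a : F) • x + (ψ ⬝ᵥ x) • P.rep) ∧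
      ∀ x ∈ M, x • P = P → x * g = g * x := by
    intro P
    obtain ⟨f, hf, hs⟩ := exists_hom hMI hno P
    have hr : Nat.card f.range = (Nat.card F - 1) ^ 2 * (Nat.card F + 1) := by
      rw [← Nat.card_congr (MonoidHom.ofInjective hf).toEquiv, hcard]
    obtain ⟨b, ⟨g, rfl⟩, hg⟩ := scalar_mem hMI hno hr a
    have hx := hs g (a : F) hg
    obtain ⟨ψ, hψ⟩ := exists_covector_of_line (T := ((g : GL (Fin 3) F) : Matrix (Fin 3) (Fin 3) F) - (a : F) • 1)
      P.rep_nonzero (fun x => by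
        obtain ⟨c, hc⟩ := hx x
        exact ⟨c, by rw [Matrix.sub_mulVec, hc, Matrix.smul_mulVec, Matrix.one_mulVec, add_sub_cancel_left]⟩)
    have hgx : ∀ x, ((g : GL (Fin 3) F) : Matrix (Fin 3) (Fin 3) F) *ᵥ x = (a : F) • x + (ψ ⬝ᵥ x) • P.rep :=
      fun x => by rw [← hψ, Matrix.sub_mulVec, Matrix.smul_mulVec, Matrix.one_mulVec, add_sub_cancel]
    refine ⟨g, ψ, g.2.1, g.2.2, fun h0 => ha3 ?_, hgx, fun x hx hxP => ?_⟩
    · apply Units.ext
      rw [Units.val_pow_eq_pow_val, Units.val_one]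
      have hmat : ((g : GL (Fin 3) F) : Matrix (Fin 3) (Fin 3) F) =
          (a : F) • (1 + vecMulVec P.rep (((a : F)⁻¹) • ψ)) := by
        refine Matrix.ext_iff_mulVec.2 fun x => ?_
        rw [hgx, Matrix.smul_mulVec, Matrix.add_mulVec, Matrix.one_mulVec, Matrix.vecMulVec_mulVec, op_smul_eq_smul,
          smul_dotProduct, smul_add, smul_eq_mul, smul_smul, mul_inv_cancel_left₀ a.ne_zero]
      have hd := mem_specialLinear.1 (hMI g.2.1)
      rw [hmat, Matrix.det_smul, det_one_add_vecMulVec, smul_dotProduct, h0, smul_zero, add_zero, mul_one,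
        Fintype.card_fin] at hd
      exact hd
    · have hc : f (⟨x, hx, hxP⟩ * g) = f (g * ⟨x, hx, hxP⟩) := by
        rw [map_mul, map_mul]
        refine Units.ext ?_
        rw [Units.val_mul, Units.val_mul, hg, Matrix.mul_smul, Matrix.smul_mul, mul_one, one_mul]
      exact congrArg Subtype.val (hf hc)
  choose g ψ hgM hgP hψP hgx hcomm using key
  -- the relation is symmetric
  have hsym : ∀ P R : Pt F, ψ P ⬝ᵥ R.rep = 0 → ψ R ⬝ᵥ P.rep = 0 := by
    intro P R h
    have hfix : g P • R = R := (smul_eq_self_iff _ R).2 ⟨(a : F), by rw [hgx, h, zero_smul, add_zero]⟩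
    have hc := congrArg (fun y : GL (Fin 3) F => (y : Matrix (Fin 3) (Fin 3) F) *ᵥ P.rep)
      (hcomm R (g P) (hgM P) hfix)
    simp only [mul_mulVec, hgx, Matrix.mulVec_add, Matrix.mulVec_smul, dotProduct_add, dotProduct_smul, h,
      smul_eq_mul, zero_smul, add_zero] at hc
    have hc' : ((ψ P ⬝ᵥ P.rep) * (ψ R ⬝ᵥ P.rep)) • R.rep = 0 := by linear_combination (norm := module) -hc
    exact (mul_eq_zero.1 ((smul_eq_zero.1 hc').resolve_right R.rep_nonzero)).resolve_left (hψP P)
  have hψ0 : ∀ P, ψ P ≠ 0 := fun P h => hψP P (by rw [h, zero_dotProduct])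
  let L : Pt F → Pt F := fun P => Projectivization.mk F (ψ P) (hψ0 P)
  have hL : ∀ P R, Inc R (L P) ↔ ψ P ⬝ᵥ R.rep = 0 := fun P R => by
    conv_lhs => rw [← R.mk_rep]
    exact inc_mk R.rep_nonzero (hψ0 P)
  let A : Matrix (Pt F) (Pt F) (ZMod p) := Matrix.of fun P R => if Inc R (L P) then 1 else 0
  let J : Matrix (Pt F) (Pt F) (ZMod p) := Matrix.of fun _ _ => 1
  have hq0 : ((Nat.card F : ℕ) : ZMod p) = 0 := by
    obtain ⟨k, -, hk⟩ := FiniteField.card F p
    rw [Nat.card_eq_fintype_card, hk, Nat.cast_pow, CharP.cast_eq_zero, zero_pow k.ne_zero]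
  have hone : ∀ L L' : Pt F,
      ((Finset.univ.filter fun S => Inc S L ∧ Inc S L').card : ZMod p) = 1 := by
    intro L L'
    rcases eq_or_ne L L' with rfl | hne
    · rw [show (Finset.univ.filter fun S : Pt F => Inc S L ∧ Inc S L).card = Nat.card F + 1 by
        rw [← card_inc L, Nat.card_eq_fintype_card (α := {P : Pt F | Inc P L})]
        simp [Fintype.card_subtype]]
      rw [Nat.cast_add, hq0, zero_add, Nat.cast_one]
    · obtain ⟨S, hS⟩ := exists_inc_both L L'
      rw [Finset.card_eq_one.2 ⟨S, Finset.ext fun T => by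
        simp only [Finset.mem_filter, Finset.mem_univ, true_and, Finset.mem_singleton]
        exact ⟨fun h => eq_of_inc hne h.1 h.2 hS.1 hS.2, fun e => e ▸ hS⟩⟩, Nat.cast_one]
  have hA2 : A * A = J := by
    ext P R
    simp only [Matrix.mul_apply, A, J, Matrix.of_apply, mul_ite, mul_one, mul_zero, ← ite_and]
    rw [Finset.sum_boole, ← hone (L P) (L R)]
    congr 2
    refine Finset.filter_congr fun S _ => ?_
    simp only [hL]
    exact ⟨fun ⟨h1, h2⟩ => ⟨h2, hsym _ _ h1⟩, fun ⟨h1, h2⟩ => ⟨hsym _ _ h2, h1⟩⟩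
  have hJA : J * A = J := by
    ext P R
    simp only [Matrix.mul_apply, A, J, Matrix.of_apply, one_mul]
    rw [Finset.sum_boole, ← hone (L R) (L R)]
    congr 2
    refine Finset.filter_congr fun S _ => ?_
    simp only [hL, and_self]
    exact ⟨hsym _ _, hsym _ _⟩
  have hpow : ∀ k, A ^ (k + 2) = J := fun k => by
    induction k with
    | zero => rw [zero_add, sq, hA2]
    | succ k ih => rw [pow_succ, ih, hJA]
  have htr : A.trace = 0 := Finset.sum_eq_zero fun P _ => by
    simp [A, hL, hψP]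
  have h1 := ZMod.trace_pow_card A
  have he : p = (p - 2) + 2 := by have := (Fact.out : p.Prime).two_le; omega
  have hAp : A ^ p = J := (congrArg (A ^ ·) he).trans (hpow _)
  rw [htr, zero_pow (Fact.out : p.Prime).ne_zero, hAp] at h1
  simp only [Matrix.trace, Matrix.diag, J, Matrix.of_apply, Finset.sum_const, Finset.card_univ, nsmul_eq_mul,
    mul_one] at h1
  rw [← Nat.card_eq_fintype_card, card_points] at h1
  rw [Nat.card_eq_fintype_card] at hq0
  simp [hq0] at h1

end CfsgLib.Geo.SL3.Stab
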