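/-
The normaliser of a field of degree three is maximal in the special linear group of dimension three.
-/
import Cfsg.Agent.Geo.SLThree.SingerOrbit
import Cfsg.Agent.Geo.SLThree.PlaneTv
import Cfsg.Agent.Geo.SLThree.Stab

set_option autoImplicit false

namespace CfsgLib.Geo.SL3.Singer

open Matrix Cfsg Cfsg.Geo CfsgLib.Geo CfsgLib.Geo.SL3.Plane

/-- The arithmetic of the two numerical conditions. -/
lemma cofactor_eq {q N d k e : ℕ} (hq : 2 ≤ q) (hq4 : q ≠ 4) (hd : d = 1 ∨ (d = 3 ∧ q % 3 = 1))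
    (hdN : d * N = q ^ 2 + q + 1) (hco : Nat.Coprime 3 N) (hk : N ∣ k - 1) (hk1 : 2 ≤ k)
    (he : 3 * k * e = q * (q - 1) ^ 2 * (q + 1)) : e = q := by
  obtain ⟨j, hj⟩ := hk
  have hj0 : 1 ≤ j := by
    rcases Nat.eq_zero_or_pos j with rfl | h
    · rw [mul_zero] at hj; omega
    · exact h
  have hNk : N + 1 ≤ k := by nlinarith [show k = N * j + 1 by omega]
  have hk' : (k : ℤ) = N * j + 1 := by exact_mod_cast (show k = N * j + 1 by omega)
  have hB : (3 : ℤ) * k * e = (q : ℤ) * ((q : ℤ) - 1) ^ 2 * ((q : ℤ) + 1) := by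
    have := congrArg (fun x : ℕ => (x : ℤ)) he
    push_cast [Nat.cast_sub (show 1 ≤ q by omega)] at this
    exact this
  have hdN' : (d : ℤ) * N = (q : ℤ) ^ 2 + q + 1 := by exact_mod_cast hdN
  have hdvd : (N : ℤ) ∣ 3 * ((e : ℤ) - q) :=
    ⟨(d : ℤ) * ((q : ℤ) ^ 2 - 2 * q) - 3 * j * e, by
      linear_combination hB - 3 * (e : ℤ) * hk' - ((q : ℤ) ^ 2 - 2 * q) * hdN'⟩
  have hdvd' : (N : ℤ) ∣ (e : ℤ) - q :=
    (Int.isCoprime_iff_nat_coprime.2 (by simpa using hco.symm)).dvd_of_dvd_mul_left hdvd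
  obtain ⟨t, ht⟩ := hdvd'
  have hNq : q < N := by
    rcases hd with rfl | ⟨rfl, h⟩
    · nlinarith
    · have : 7 ≤ q := by omega
      nlinarith
  have ht0 : 0 ≤ t := by
    by_contra h
    have : t ≤ -1 := by omega
    have h2 : (q : ℤ) < N := by exact_mod_cast hNq
    nlinarith [Int.natCast_nonneg e]
  have hbound : 3 * ((N : ℤ) + 1) * e ≤ (q : ℤ) * ((q : ℤ) - 1) ^ 2 * ((q : ℤ) + 1) := by
    rw [← hB]
    have : (N : ℤ) + 1 ≤ k := by exact_mod_cast hNk
    nlinarith [Int.natCast_nonneg e]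
  rw [show (e : ℤ) = q + N * t by linarith] at hB hbound
  rcases eq_or_lt_of_le ht0 with rfl | ht1
  · have : (e : ℤ) = q := by linarith
    exact_mod_cast this
  exfalso
  have hq' : (2 : ℤ) ≤ q := by exact_mod_cast hq
  have hN0 : (0 : ℤ) ≤ N := Int.natCast_nonneg N
  rcases hd with rfl | ⟨rfl, h⟩
  · rw [Nat.cast_one, one_mul] at hdN'
    have : (N : ℤ) * 1 ≤ N * t := mul_le_mul_of_nonneg_left (by omega) hN0
    rw [hdN'] at this hbound
    nlinarith [mul_le_mul_of_nonneg_left this (show (0 : ℤ) ≤ 3 * ((q : ℤ) ^ 2 + q + 1 + 1) by nlinarith)]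
  · have h7 : (7 : ℤ) ≤ q := by exact_mod_cast (show 7 ≤ q by omega)
    push_cast at hdN'
    have ht3 : t ≤ 2 := by
      by_contra h
      have : (N : ℤ) * 3 ≤ N * t := mul_le_mul_of_nonneg_left (by omega) hN0
      nlinarith [mul_le_mul_of_nonneg_left this (show (0 : ℤ) ≤ 3 * ((N : ℤ) + 1) by linarith)]
    interval_cases t
    · -- the first intermediate value
      have hs : ((q : ℤ) ^ 2 + 4 * q + 1) ∣ 72 :=
        ⟨(66 * q + 246) * (((q : ℤ) ^ 2 - 5 * q + 18) - (k : ℤ)) - 4356, by
          have hsk : ((q : ℤ) ^ 2 + 4 * q + 1) * k = (q : ℤ) * ((q : ℤ) - 1) ^ 2 * ((q : ℤ) + 1) := by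
            linear_combination hB - (k : ℤ) * hdN'
          linear_combination (66 * (q : ℤ) + 246) * hsk⟩
      have h2 := Int.le_of_dvd (by norm_num) hs
      nlinarith
    · -- the second intermediate value
      have hs : (2 * (q : ℤ) + 1) ∣ 9 :=
        ⟨8 * (q : ℤ) ^ 3 - 12 * q ^ 2 - 2 * q + 9 - 16 * ((q : ℤ) + 2) * k, by
          have hsk : (2 * (q : ℤ) + 1) * ((q : ℤ) + 2) * k = (q : ℤ) * ((q : ℤ) - 1) ^ 2 * ((q : ℤ) + 1) := by
            linear_combination hB - 2 * (k : ℤ) * hdN'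
          linear_combination 16 * hsk⟩
      have h2 := Int.le_of_dvd (by norm_num) hs
      omega

variable {F : Type*} [Field F] [Fintype F] {K : Subalgebra F (Matrix (Fin 3) (Fin 3) F)}
  (hK : IsFieldSubalgebra 3 K)
include hK

theorem proper : ¬ specialLinear (Fin 3) F ≤ subalgebraNormalizer K := by
  intro hle
  obtain ⟨-, -, hX⟩ := normalizer_data hK
  rw [inf_eq_right.2 hle] at hX
  let T : Subgroup (GL (Fin 3) F) := Plane.rootAt (specialLinear (Fin 3) F) (Pi.single 0 1)
  have hT : T ≤ specialLinear (Fin 3) F := by rintro _ ⟨φ, h, hm, rfl⟩; exact hm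
  have hcard : Nat.card F * Nat.card F ≤ Nat.card T := by
    let f : F × F → T := fun ab => ⟨tvec (Pi.single 0 1) ![0, ab.1, ab.2] (by simp),
      _, by simp, tvec_mem_specialLinear _ _ _, rfl⟩
    have hf : Function.Injective f := fun a b h => by
      have e := congrArg (fun g : GL (Fin 3) F => (g : Matrix (Fin 3) (Fin 3) F) 0) (congrArg Subtype.val h)
      have e1 := congrFun e 1
      have e2 := congrFun e 2
      simp [f, tvec_val, Matrix.vecMulVec_apply] at e1 e2
      exact Prod.ext e1 e2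
    simpa [Nat.card_prod] using Nat.card_le_card_of_injective f hf
  obtain ⟨p, hp⟩ := CharP.exists F
  haveI : Fact p.Prime := ⟨CharP.char_is_prime F p⟩
  obtain ⟨s, hs⟩ : ∃ s, Nat.card T = p ^ s := by
    refine IsPGroup.exists_card_eq (p := p) fun g => ⟨1, Subtype.ext ?_⟩
    obtain ⟨φ, hd, -, hg⟩ := g.2
    rw [pow_one, SubmonoidClass.coe_pow, hg, OneMemClass.coe_one]
    exact gl_ext_mulVec fun x => by
      rw [tvec_pow, CharP.cast_eq_zero, zero_mul, zero_smul, add_zero, Units.val_one, Matrix.one_mulVec]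
  have hdvd : p ^ s ∣ 3 * (Nat.card F ^ 2 + Nat.card F + 1) := by
    rw [← hs, ← hX]; exact Subgroup.card_dvd_of_le hT
  obtain ⟨j, -, hj⟩ := FiniteField.card F p
  have hcop : Nat.Coprime (p ^ s) (Nat.card F ^ 2 + Nat.card F + 1) := by
    refine Nat.Coprime.pow_left s ((Fact.out : p.Prime).coprime_iff_not_dvd.2 fun h => ?_)
    have hq : p ∣ Nat.card F := by rw [Nat.card_eq_fintype_card, hj]; exact dvd_pow_self p j.ne_zero
    have h1 : p ∣ Nat.card F ^ 2 + Nat.card F := Dvd.dvd.add (dvd_pow hq two_ne_zero) hq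
    exact (Fact.out : p.Prime).ne_one (Nat.dvd_one.1 ((Nat.dvd_add_right h1).1 h))
  have h3 := Nat.le_of_dvd (by norm_num) (hcop.dvd_of_dvd_mul_right hdvd)
  have := Finite.one_lt_card (α := F)
  rw [← hs] at h3
  nlinarith

set_option maxHeartbeats 2000000 in
/-- The overgroups. -/
theorem key (hq4 : Fintype.card F ≠ 4) {M : Subgroup (GL (Fin 3) F)}
    (hM : subalgebraNormalizer K ⊓ specialLinear (Fin 3) F ≤ M) (hMI : M ≤ specialLinear (Fin 3) F)
    (hMX : ¬ M ≤ subalgebraNormalizer K) : specialLinear (Fin 3) F ≤ M := by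
  classical
  obtain ⟨N, d, hD⟩ := exists_orbitData hK
  obtain ⟨hCX, hcube, hXcard⟩ := normalizer_data hK
  set X : Subgroup (GL (Fin 3) F) := subalgebraNormalizer K ⊓ specialLinear (Fin 3) F with hXdef
  have hCM : cyc K ≤ M := hCX.trans hM
  set q := Nat.card F with hqdef
  have hq2 : 2 ≤ q := Finite.one_lt_card
  have hq4' : q ≠ 4 := by rwa [hqdef, Nat.card_eq_fintype_card]
  by_cases hT : ∃ a φ : Fin 3 → F, a ≠ 0 ∧ φ ≠ 0 ∧ HasTv M a φ
  · obtain ⟨a, φ, ha, hφ, h⟩ := hT
    refine sl_of_hasTv hCM hD.pt hD.line ?_ hq4' ha hφ h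
    rcases hD.three with h1 | ⟨h1, -⟩
    · left; rw [← hD.mul, h1, one_mul]
    · right; rw [← hD.mul, h1]
  exfalso
  have hno : ∀ a φ : Fin 3 → F, a ≠ 0 → HasTv M a φ → φ = 0 := fun a φ ha h => by
    by_contra hφ
    exact hT ⟨a, φ, ha, hφ, h⟩
  obtain ⟨p, hp⟩ := CharP.exists F
  haveI : Fact p.Prime := ⟨CharP.char_is_prime F p⟩
  set X' : Subgroup M := X.subgroupOf M
  set k := Nat.card (M ⧸ X') with hkdef
  have hMcard : Nat.card M = 3 * (q ^ 2 + q + 1) * k := by
    rw [Subgroup.card_eq_card_quotient_mul_card_subgroup X', ← hkdef,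
      Nat.card_congr (Subgroup.subgroupOfEquivOfLe hM).toEquiv, hXcard, mul_comm]
  have hk1 : 2 ≤ k := by
    by_contra hlt
    haveI : Subsingleton (M ⧸ X') := Finite.card_le_one_iff_subsingleton.1 (by omega)
    refine hMX fun g hg => ?_
    have h1 : ((⟨g, hg⟩ : M) : M ⧸ X') = ((1 : M) : M ⧸ X') := Subsingleton.elim _ _
    rw [QuotientGroup.eq, mul_one] at h1
    have h2 : g⁻¹ ∈ X := h1
    simpa using (subalgebraNormalizer K).inv_mem h2.1
  have hkN : N ∣ k - 1 := by
    set base : M ⧸ X' := ((1 : M) : M ⧸ X')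
    have hS : Nat.card {x : M ⧸ X' | x ≠ base} = k - 1 := by
      rw [Nat.card_coe_set_eq, show {x : M ⧸ X' | x ≠ base} = {base}ᶜ from rfl, Set.ncard_compl,
        Set.ncard_singleton]
    rw [← hS]
    set H : Subgroup M := (cyc K).subgroupOf M
    have hbase : ∀ h ∈ H, h • base = base := fun h hh => by
      show ((h * 1 : M) : M ⧸ X') = _
      rw [mul_one, QuotientGroup.eq, mul_one]
      exact X.inv_mem (hCX hh)
    refine dvd_card_of_orbits H _ (fun h hh x hx e => hx ?_) fun x hx => ?_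
    · rw [← inv_smul_smul h x, e, hbase _ (H.inv_mem hh)]
    have h1 := orbit_mul_card H x
      (p := fun g : M => ∃ a : F, ((g : GL (Fin 3) F) : Matrix (Fin 3) (Fin 3) F) = a • 1) fun c hc => ?_
    · have h2 : Nat.card {g : M // g ∈ H ∧ ∃ a : F, ((g : GL (Fin 3) F) : Matrix (Fin 3) (Fin 3) F) = a • 1} = d := by
        rw [← hD.card_scal]
        exact Nat.card_congr
          { toFun := fun g => ⟨g.1.1, g.2.1, g.2.2⟩
            invFun := fun g => ⟨⟨g.1, hCM g.2.1⟩, g.2.1, g.2.2⟩
            left_inv := fun g => rfl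
            right_inv := fun g => rfl }
      rw [h2, Nat.card_congr (Subgroup.subgroupOfEquivOfLe hCM).toEquiv, (card_cyc hK).1, ← hD.mul,
        mul_comm d] at h1
      exact Nat.eq_of_mul_eq_mul_right (by rcases hD.three with h | ⟨h, -⟩ <;> omega) h1
    · induction x using QuotientGroup.induction_on with
      | _ g =>
        show ((c * g : M) : M ⧸ X') = (g : M ⧸ X') ↔ _
        rw [eq_comm, QuotientGroup.eq]
        constructor
        · intro h
          have h3 := hcube _ (show (g : GL (Fin 3) F)⁻¹ * (c * g) ∈ X from h)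
          have h4 : ((g : GL (Fin 3) F)⁻¹ * ((c : GL (Fin 3) F) * g)) ^ 3 =
              (g : GL (Fin 3) F)⁻¹ * (c : GL (Fin 3) F) ^ 3 * g := by
            simp only [pow_succ, pow_zero, one_mul, mul_assoc, mul_inv_cancel_left]
          rw [h4] at h3
          by_contra hns
          push Not at hns
          have hg : (g : GL (Fin 3) F) ∈ subalgebraNormalizer K := by
            refine mem_normalizer_of_conj hK (c := (((c : GL (Fin 3) F) ^ 3 : GL (Fin 3) F) : Matrix _ _ F))
              ((cyc K).pow_mem hc 3).1 (fun a ha => ?_) h3.1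
            obtain ⟨b, hb⟩ := scalar_of_cube hK hD hc ha
            exact hns b hb
          refine hx ?_
          show ((g : M) : M ⧸ X') = base
          rw [QuotientGroup.eq, mul_one]
          exact X.inv_mem ⟨hg, hMI g.2⟩
        · rintro ⟨a, ha⟩
          have hcomm : (g : GL (Fin 3) F)⁻¹ * ((c : GL (Fin 3) F) * g) = c := by
            have : (c : GL (Fin 3) F) * g = g * c := Units.ext (by
              rw [Units.val_mul, Units.val_mul, ha, Matrix.smul_mul, Matrix.mul_smul, one_mul, mul_one])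
            rw [this, inv_mul_cancel_left]
          show (g : GL (Fin 3) F)⁻¹ * (c * g) ∈ X
          rw [hcomm]
          exact hCX hc
  -- orbits of M on the points
  let S : Pt F → Subgroup (GL (Fin 3) F) := fun P => M ⊓ MulAction.stabilizer (GL (Fin 3) F) P
  let O : Pt F → Set (Pt F) := fun P => MulAction.orbit M P
  have horb : ∀ P, Nat.card (O P) * Nat.card (S P) = Nat.card M := fun P => by
    rw [← orbit_mul_card M P (p := fun g => g • P = P) (fun g _ => Iff.rfl)]
    congr 1
  have hmul : ∀ P, ∃ i, 1 ≤ i ∧ i ≤ d ∧ Nat.card (O P) = N * i ∧ 3 * d * k = i * Nat.card (S P) := by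
    intro P
    obtain ⟨i, hi⟩ : N ∣ Nat.card (O P) := dvd_card_of_orbits (cyc K) (O P)
      (fun c hc x hx => by
        obtain ⟨g, rfl⟩ := hx
        exact ⟨⟨c, hCM hc⟩ * g, mul_smul _ _ _⟩) fun x _ => hD.pt x
    have hN0 : 0 < N := by
      rcases Nat.eq_zero_or_pos N with e | e
      · have := hD.mul; rw [e, mul_zero] at this; omega
      · exact e
    have hpos : 0 < Nat.card (O P) := by
      haveI : Nonempty (O P) := ⟨⟨P, MulAction.mem_orbit_self P⟩⟩
      exact Nat.card_pos
    have hle : Nat.card (O P) ≤ N * d := by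
      rw [mul_comm, hD.mul, ← card_points (F := F)]
      exact Nat.card_le_card_of_injective _ Subtype.val_injective
    rw [hi] at hpos hle
    refine ⟨i, ?_, Nat.le_of_mul_le_mul_left hle hN0, hi, ?_⟩
    · rcases Nat.eq_zero_or_pos i with e | e
      · rw [e, mul_zero] at hpos; omega
      · exact e
    · refine Nat.eq_of_mul_eq_mul_left hN0 ?_
      have := horb P
      rw [hi, hMcard, ← hD.mul] at this
      linarith
  have hB : ∀ P, Nat.card (S P) ∣ q * (q - 1) ^ 2 * (q + 1) := fun P => by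
    rw [hqdef, ← Stab.card_GL2]
    exact Stab.card_stab_dvd hMI hno P
  obtain ⟨P₀⟩ : Nonempty (Pt F) := ⟨Projectivization.mk F _ (single_ne (F := F))⟩
  have h3k : 3 * k ∣ q * (q - 1) ^ 2 * (q + 1) := by
    obtain ⟨i, hi1, hid, hiO, hi⟩ := hmul P₀
    rcases hD.three with h | ⟨h, -⟩ <;> rw [h] at hid hi
    · obtain rfl : i = 1 := by omega
      rw [one_mul, mul_one] at hi
      exact hi ▸ hB P₀
    · interval_cases i
      · exact (Dvd.intro 3 (by linarith)).trans (hB P₀)
      · obtain ⟨R, hR⟩ : ∃ R, R ∉ O P₀ := by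
          by_contra hcon
          push Not at hcon
          have h1 : Nat.card (O P₀) = Nat.card (Pt F) := by
            rw [Set.eq_univ_of_forall hcon]; exact Nat.card_coe_set_eq _ |>.trans (Set.ncard_univ _)
          rw [hiO, card_points, ← hqdef, ← hD.mul, h] at h1
          have : N = 0 := by omega
          have := hD.mul; rw [‹N = 0›, mul_zero] at this; omega
        obtain ⟨j, hj1, hjd, hjO, hj⟩ := hmul R
        have hdisj : Disjoint (O P₀) (O R) := by
          rw [Set.disjoint_left]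
          intro x hx hx'
          have : O P₀ = O R :=
            ((MulAction.orbit_eq_iff).2 hx).symm.trans ((MulAction.orbit_eq_iff).2 hx')
          exact hR (this ▸ MulAction.mem_orbit_self R)
        have hle : Nat.card (O P₀) + Nat.card (O R) ≤ Nat.card (Pt F) := by
          rw [Nat.card_coe_set_eq, Nat.card_coe_set_eq, ← Set.ncard_union_eq hdisj]
          exact Set.ncard_le_card _
        rw [hiO, hjO, card_points, ← hqdef, ← hD.mul, h] at hle
        rw [h] at hjd hj
        interval_cases j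
        · exact (Dvd.intro 3 (by linarith)).trans (hB R)
        · exfalso
          have : N = 0 := by omega
          have := hD.mul; rw [‹N = 0›, mul_zero] at this; omega
        · exact (Dvd.intro 1 (by linarith)).trans (hB R)
      · exact (Dvd.intro 1 (by linarith)).trans (hB P₀)
  obtain ⟨e, he⟩ := h3k
  have heq := cofactor_eq hq2 hq4' hD.three hD.mul hD.coprime hkN hk1 he.symm
  rw [heq] at he
  have h3k' : 3 * k = (q - 1) ^ 2 * (q + 1) :=
    Nat.eq_of_mul_eq_mul_right (show 0 < q by omega) (by linarith)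
  have hq5 : 5 ≤ q := by
    by_contra h
    interval_cases q <;> simp at h3k' <;> omega
  refine Stab.false_of_large hMI hno (p := p) hq5 fun P => ?_
  obtain ⟨i, hi1, hid, -, hi⟩ := hmul P
  obtain ⟨x, hx⟩ := hB P
  show Nat.card (S P) = _
  have hid' : d * x = i * q := by
    refine Nat.eq_of_mul_eq_mul_right (show 0 < 3 * k by omega) ?_
    calc d * x * (3 * k) = (3 * d * k) * x := by ring
      _ = i * (Nat.card (S P) * x) := by rw [hi]; ring
      _ = i * q * (3 * k) := by rw [← hx, h3k']; ring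
  have hdi : d = i := by
    rcases hD.three with h | ⟨h, h3⟩
    · omega
    · subst h
      interval_cases i <;> omega
  rw [← hdi] at hi
  refine (Nat.eq_of_mul_eq_mul_left (show 0 < d by omega) ?_).trans h3k'
  linarith

/-- The field normaliser gives a maximal subgroup. -/
theorem field_maximal (hq4 : Fintype.card F ≠ 4) :
    IsMaximalIn (specialLinear (Fin 3) F) (subalgebraNormalizer K ⊓ specialLinear (Fin 3) F) :=
  isMaximalIn_of_key (proper hK) fun _ hM hMI hMX => key hK hq4 hM hMI hMX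

end CfsgLib.Geo.SL3.Singer
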