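/-
Overgroups of a subfield group in the special linear group of dimension three.
-/
import Cfsg.Agent.Geo.SubfieldOvergroup

set_option autoImplicit false

namespace CfsgLib.Geo.SL3

open Matrix Cfsg Cfsg.Geo CfsgLib.Geo

variable {ι : Type} [Fintype ι] [DecidableEq ι] {F : Type*} [Field F] {F₀ : Subfield F}

namespace SubfieldOver

variable {M : Subgroup (GL ι F)} (hM : ratScalar ι F₀ ⊓ specialLinear ι F ≤ M)
include hM

lemma hasTv_rat {a φ : ι → F} (h : φ ⬝ᵥ a = 0) (hr : RatTv F₀ a φ) : HasTv M a φ :=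
  ⟨h, hM (tvec_mem_rat h hr)⟩

lemma hasTv_single {i j : ι} (hij : i ≠ j) {c : F} (hc : c ∈ F₀) :
    HasTv M (c • (Pi.single i 1 : ι → F)) (Pi.single j 1) := by
  refine hasTv_rat hM (by simp [hij.symm]) (RatVec.ratTv (fun k => ?_) (ratVec_single j F₀.one_mem))
  exact F₀.mul_mem hc (ratVec_single i F₀.one_mem k)

variable (h4 : Fintype.card ι = 3)
include h4

lemma move_row {i j k : ι} (hki : k ≠ i) (hkj : k ≠ j) {c : F}
    (h : HasTv M (c • (Pi.single i 1 : ι → F)) (Pi.single j 1)) :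
    HasTv M (c • (Pi.single k 1 : ι → F)) (Pi.single j 1) := by
  have h1 := hasTv_single hM hki F₀.one_mem
  rw [one_smul] at h1
  have h2 := h1.comm h (by simp [hkj.symm])
  have h3 : (Pi.single i 1 : ι → F) ⬝ᵥ (c • (Pi.single i 1 : ι → F)) = c := by simp
  rw [h3] at h2
  rcases eq_or_ne c 0 with rfl | hc
  · rw [zero_smul]; exact hasTv_zero_left M _
  · exact (hasTv_smul_iff c hc).2 h2

lemma move_col {i j k : ι} (hki : k ≠ i) (hkj : k ≠ j) {c : F}
    (h : HasTv M (c • (Pi.single i 1 : ι → F)) (Pi.single j 1)) :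
    HasTv M (c • (Pi.single i 1 : ι → F)) (Pi.single k 1) := by
  have h1 := hasTv_single hM hkj.symm F₀.one_mem
  rw [one_smul] at h1
  have h2 := h.comm h1 (by simp [hki])
  simpa using h2

lemma move {i j p q : ι} (hij : i ≠ j) (hpq : p ≠ q) {c : F}
    (h : HasTv M (c • (Pi.single i 1 : ι → F)) (Pi.single j 1)) :
    HasTv M (c • (Pi.single p 1 : ι → F)) (Pi.single q 1) := by
  have hstep : ∀ {i' : ι}, i' ≠ q → HasTv M (c • (Pi.single i' 1 : ι → F)) (Pi.single q 1) →
      HasTv M (c • (Pi.single p 1 : ι → F)) (Pi.single q 1) := fun {i'} hne h' => by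
    rcases eq_or_ne p i' with rfl | hp
    · exact h'
    · exact move_row hM h4 hp hpq h'
  rcases eq_or_ne q i with rfl | hqi
  · obtain ⟨k, -, hk⟩ := Finset.exists_mem_notMem_of_card_lt_card (s := {q, j}) (t := Finset.univ)
      (by rw [Finset.card_univ]; exact lt_of_le_of_lt Finset.card_le_two (by omega))
    simp only [Finset.mem_insert, Finset.mem_singleton, not_or] at hk
    exact hstep hk.1 (move_col hM h4 (Ne.symm hk.1) hij (move_row hM h4 hk.1 hk.2 h))
  · rcases eq_or_ne q j with rfl | hqj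
    · exact hstep hij h
    · exact hstep (Ne.symm hqi) (move_col hM h4 hqi hqj h)

/-- A single irrational elementary transvection gives all of SL. -/
theorem specialLinear_le_of_win [Fintype F] {r : ℕ} (hr : r.Prime) (hcard : Fintype.card F = Nat.card F₀ ^ r)
    {i j : ι} (hij : i ≠ j) {c : F} (hc : c ∉ F₀)
    (h : HasTv M (c • (Pi.single i 1 : ι → F)) (Pi.single j 1)) : specialLinear ι F ≤ M := by
  classical
  let E : Set F := {x | ∀ p q : ι, p ≠ q → HasTv M (x • (Pi.single p 1 : ι → F)) (Pi.single q 1)}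
  have hF₀ : ∀ x ∈ F₀, x ∈ E := fun x hx p q hpq => hasTv_single hM hpq hx
  let A : Subalgebra F₀ F :=
    { carrier := E
      zero_mem' := hF₀ 0 F₀.zero_mem
      one_mem' := hF₀ 1 F₀.one_mem
      add_mem' := fun {x y} hx hy p q hpq => by rw [add_smul]; exact (hx p q hpq).add_center (hy p q hpq)
      mul_mem' := fun {x y} hx hy p q hpq => by
        obtain ⟨k, -, hk⟩ := Finset.exists_mem_notMem_of_card_lt_card (s := {p, q}) (t := Finset.univ)
          (by rw [Finset.card_univ]; exact lt_of_le_of_lt Finset.card_le_two (by omega))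
        simp only [Finset.mem_insert, Finset.mem_singleton, not_or] at hk
        have h2 := (hx p k (Ne.symm hk.1)).comm (hy k q hk.2) (by simp [hpq.symm])
        have h3 : (Pi.single k 1 : ι → F) ⬝ᵥ (y • (Pi.single k 1 : ι → F)) = y := by simp
        rw [h3] at h2
        rcases eq_or_ne y 0 with rfl | hy0
        · rw [mul_zero, zero_smul]; exact hasTv_zero_left M _
        · have := (hasTv_smul_iff y hy0).2 h2
          rwa [smul_smul, mul_comm] at this
      algebraMap_mem' := fun a => hF₀ a a.2 }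
  have hrank : Module.finrank F₀ F = r := by
    haveI := Fintype.ofFinite F₀
    have h1 := Module.card_eq_pow_finrank (K := F₀) (V := F)
    rw [Fintype.card_eq_nat_card, Nat.card_eq_fintype_card, hcard, Fintype.card_eq_nat_card] at *
    exact (Nat.pow_right_injective (Finite.one_lt_card (α := F₀)) h1).symm
  haveI := Subalgebra.isSimpleOrder_of_finrank_prime F₀ F (hrank ▸ hr)
  have hA : A = ⊤ := by
    refine (eq_bot_or_eq_top A).resolve_left fun hbot => hc ?_
    have : c ∈ A := fun p q hpq => move hM h4 hij hpq h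
    rw [hbot, Algebra.mem_bot] at this
    obtain ⟨a, rfl⟩ := this
    exact a.2
  exact specialLinear_le_of_elementary fun p q hpq x => (hA ▸ Algebra.mem_top : x ∈ A) p q hpq

omit hM in
lemma exists_index_notMem (s : Finset ι) (hs : s.card ≤ 2) : ∃ k, k ∉ s := by
  obtain ⟨k, -, hk⟩ := Finset.exists_mem_notMem_of_card_lt_card (s := s) (t := Finset.univ)
    (by rw [Finset.card_univ]; omega)
  exact ⟨k, hk⟩

omit hM in
/-- A rational vector supported on two coordinates, killed by a given rational covector and outside a given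
coordinate. -/
lemma exists_small_kernel {ψ : ι → F} (hψ : RatVec F₀ ψ) (k : ι) :
    ∃ e : ι → F, RatVec F₀ e ∧ ψ ⬝ᵥ e = 0 ∧ e k = 0 ∧ ∃ m p, e m ≠ 0 ∧ ∀ l, l ≠ m → l ≠ p → e l = 0 := by
  obtain ⟨p, hp⟩ := exists_index_notMem h4 {k} (by simp)
  obtain ⟨q, hq⟩ := exists_index_notMem h4 {k, p} (Finset.card_le_two)
  simp only [Finset.mem_singleton, Finset.mem_insert, not_or] at hp hq
  by_cases hψp : ψ p = 0
  · exact ⟨Pi.single p 1, ratVec_single p F₀.one_mem, by simp [hψp], by simp [Ne.symm hp], p, p,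
      by simp, fun l hl _ => by simp [hl]⟩
  · refine ⟨Pi.single q (ψ p) - Pi.single p (ψ q), fun l => F₀.sub_mem (ratVec_single q (hψ p) l) (ratVec_single p (hψ q) l),
      by rw [dotProduct_sub, dotProduct_single, dotProduct_single]; ring, by simp [Ne.symm hp, Ne.symm hq.1], q, p,
      by simp [hq.2, hψp], fun l hl hl' => by simp [hl, hl']⟩

/-- No irrational elementary transvection. -/
def NoWin (M : Subgroup (GL ι F)) (F₀ : Subfield F) : Prop :=
  ∀ i j : ι, i ≠ j → ∀ c : F, HasTv M (c • (Pi.single i 1 : ι → F)) (Pi.single j 1) → c ∈ F₀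

variable (hnw : NoWin M F₀)
include hnw

/-- Rational centre and axis with an irrational factor cannot occur. -/
lemma no_scaled {e ψ : ι → F} (he : RatVec F₀ e) (he0 : e ≠ 0) (hψ : RatVec F₀ ψ) (hψ0 : ψ ≠ 0) {c : F}
    (h : HasTv M (c • e) ψ) : c ∈ F₀ := by
  rcases eq_or_ne c 0 with rfl | hc
  · exact F₀.zero_mem
  obtain ⟨m, hm⟩ : ∃ m, e m ≠ 0 := Function.ne_iff.1 he0
  obtain ⟨l, hl⟩ := exists_index_notMem h4 {m} (by simp)
  simp only [Finset.mem_singleton] at hl
  obtain ⟨η, hη, heη, hηl, p, -, hp, -⟩ := exists_small_kernel h4 he l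
  rw [dotProduct_comm] at heη
  have hpl : p ≠ l := fun e' => hp (by rw [e', hηl])
  -- an axis vanishing at `l`
  obtain ⟨μ, hμ, hμ0, h1⟩ : ∃ μ ∈ F₀, μ ≠ 0 ∧ HasTv M ((μ * c) • e) η := by
    by_cases hall : ∃ b, RatVec F₀ b ∧ η ⬝ᵥ b = 0 ∧ ψ ⬝ᵥ b ≠ 0
    · obtain ⟨b, hb, hηb, hψb⟩ := hall
      refine ⟨ψ ⬝ᵥ b, F₀.sum_mem fun k _ => F₀.mul_mem (hψ k) (hb k), hψb, ?_⟩
      have h2 := h.comm (hasTv_rat hM hηb (hb.ratTv hη)) (by rw [dotProduct_smul, heη, smul_zero])
      rwa [← hasTv_smul_iff _ hψb, smul_smul] at h2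
    · push Not at hall
      have hq : ∀ q, ψ q = ψ p / η p * η q := fun q => by
        have := hall (Pi.single q (η p) - Pi.single p (η q))
          (fun k => F₀.sub_mem (ratVec_single q (hη p) k) (ratVec_single p (hη q) k))
          (by rw [dotProduct_sub, dotProduct_single, dotProduct_single]; ring)
        rw [dotProduct_sub, dotProduct_single, dotProduct_single, sub_eq_zero] at this
        field_simp
        linear_combination this
      have hψη : ψ = (ψ p / η p) • η := funext fun q => by simpa using hq q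
      have hμ0 : ψ p / η p ≠ 0 := fun h0 => hψ0 (by rw [hψη, h0, zero_smul])
      refine ⟨ψ p / η p, F₀.div_mem (hψ p) (hη p), hμ0, ?_⟩
      rwa [hψη, ← hasTv_smul_iff _ hμ0, smul_smul] at h
  -- a unit centre
  have h2 := hasTv_single hM hl F₀.one_mem
  rw [one_smul] at h2
  have h3 := h2.comm h1 (by simp [hηl])
  have hv : (Pi.single m 1 : ι → F) ⬝ᵥ ((μ * c) • e) = μ * c * e m := by simp
  rw [hv, ← hasTv_smul_iff _ (mul_ne_zero (mul_ne_zero hμ0 hc) hm)] at h3
  -- a unit axis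
  obtain ⟨j, hj⟩ := exists_index_notMem h4 {l, p} Finset.card_le_two
  simp only [Finset.mem_insert, Finset.mem_singleton, not_or] at hj
  have h5 := hasTv_single hM (Ne.symm hj.2) F₀.one_mem
  rw [one_smul] at h5
  have h6 := h3.comm h5 (by simp [Ne.symm hj.1])
  have hv' : η ⬝ᵥ (Pi.single p 1 : ι → F) = η p := by simp
  rw [hv', ← hasTv_smul_iff _ hp, smul_smul] at h6
  have h7 := hnw l j (Ne.symm hj.1) _ h6
  rw [show c = (η p * μ * e m)⁻¹ * (η p * (μ * c * e m)) by field_simp]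
  exact F₀.mul_mem (F₀.inv_mem (F₀.mul_mem (F₀.mul_mem (hη p) hμ) (he m))) h7

lemma rat_of_axis {a ψ : ι → F} (hψ : RatVec F₀ ψ) (hψ0 : ψ ≠ 0) (h : HasTv M a ψ) : RatVec F₀ a := by
  intro k
  obtain ⟨e, he, hψe, hek, m, p, hm, hsupp⟩ := exists_small_kernel h4 hψ k
  have hd : (Pi.single k 1 : ι → F) ⬝ᵥ e = 0 := by simp [hek]
  obtain ⟨hd', ht⟩ := hasTv_rat hM hd (he.ratTv (ratVec_single k F₀.one_mem))
  have h1 := h.conj ht
  have hψinv : ψ ᵥ* (((tvec e (Pi.single k 1) hd')⁻¹ : GL ι F) : Matrix ι ι F) = ψ := by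
    change ψ ᵥ* (1 - vecMulVec e (Pi.single k 1)) = ψ
    rw [Matrix.vecMul_sub, Matrix.vecMul_one, Matrix.vecMul_vecMulVec, hψe, zero_smul, sub_zero]
  rw [tvec_mulVec, hψinv] at h1
  have h2 := h1.sub_center h
  rw [add_sub_cancel_left] at h2
  exact no_scaled hM h4 hnw he (fun e' => hm (by rw [e']; rfl)) hψ hψ0 (by simpa using h2)

lemma rat_of_centre {a φ : ι → F} (ha : RatVec F₀ a) (ha0 : a ≠ 0) (h : HasTv M a φ) : RatVec F₀ φ := by
  intro k
  obtain ⟨ψ, hψ, haψ, hψk, m, p, hm, hsupp⟩ := exists_small_kernel h4 ha k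
  rw [dotProduct_comm] at haψ
  have hd : ψ ⬝ᵥ (Pi.single k 1 : ι → F) = 0 := by simp [hψk]
  obtain ⟨hd', ht⟩ := hasTv_rat hM hd ((ratVec_single k F₀.one_mem).ratTv hψ)
  have h1 := h.conj ht
  have hinv : φ ᵥ* (((tvec (Pi.single k 1) ψ hd')⁻¹ : GL ι F) : Matrix ι ι F) = φ - φ k • ψ := by
    change φ ᵥ* (1 - vecMulVec (Pi.single k 1) ψ) = _
    rw [Matrix.vecMul_sub, Matrix.vecMul_one, Matrix.vecMul_vecMulVec, dotProduct_single, mul_one]
  rw [tvec_mulVec, haψ, zero_smul, add_zero, hinv] at h1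
  have h2 := h.sub_axis h1
  rw [sub_sub_cancel] at h2
  rcases eq_or_ne (φ k) 0 with hφk | hφk
  · rw [hφk]; exact F₀.zero_mem
  rw [← hasTv_smul_iff _ hφk] at h2
  exact no_scaled hM h4 hnw ha ha0 hψ (fun e' => hm (by rw [e']; rfl)) h2

lemma ratTv_of_centre_mul {a φ e : ι → F} (he : RatVec F₀ e) (he0 : e ≠ 0) {c : F} (hc : c ≠ 0)
    (hae : a = c • e) (h : HasTv M a φ) : RatTv F₀ a φ := by
  subst hae
  rw [hasTv_smul_iff c hc] at h
  intro k l
  have h1 := rat_of_centre hM h4 hnw he he0 h l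
  simp only [Pi.smul_apply, smul_eq_mul] at h1 ⊢
  rw [show c * e k * φ l = e k * (c * φ l) by ring]
  exact F₀.mul_mem (he k) h1

lemma ratTv_of_rat_ker {a φ ψ : ι → F} (hψ : RatVec F₀ ψ) (hψ0 : ψ ≠ 0) (hψa : ψ ⬝ᵥ a = 0)
    (h : HasTv M a φ) : RatTv F₀ a φ := by
  obtain ⟨p, hp⟩ : ∃ p, ψ p ≠ 0 := Function.ne_iff.1 hψ0
  by_cases hall : ∃ e, RatVec F₀ e ∧ ψ ⬝ᵥ e = 0 ∧ φ ⬝ᵥ e ≠ 0
  · obtain ⟨e, he, hψe, hφe⟩ := hall
    rcases eq_or_ne a 0 with rfl | ha0
    · intro k l; simp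
    have h1 := h.comm (hasTv_rat hM hψe (he.ratTv hψ)) hψa
    rw [← hasTv_smul_iff _ hφe] at h1
    have h2 := rat_of_axis hM h4 hnw hψ hψ0 h1
    exact ratTv_of_centre_mul hM h4 hnw h2 (smul_ne_zero hφe ha0) (inv_ne_zero hφe)
      (by rw [smul_smul, inv_mul_cancel₀ hφe, one_smul]) h
  · push Not at hall
    have hq : ∀ q, φ q = φ p / ψ p * ψ q := fun q => by
      have := hall (Pi.single q (ψ p) - Pi.single p (ψ q))
        (fun l => F₀.sub_mem (ratVec_single q (hψ p) l) (ratVec_single p (hψ q) l))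
        (by rw [dotProduct_sub, dotProduct_single, dotProduct_single]; ring)
      rw [dotProduct_sub, dotProduct_single, dotProduct_single, sub_eq_zero] at this
      field_simp
      linear_combination this
    have hφ : φ = (φ p / ψ p) • ψ := funext fun q => by simpa using hq q
    intro k l
    rcases eq_or_ne (φ p / ψ p) 0 with hμ | hμ
    · simp [hq l, hμ]
    rw [hφ, ← hasTv_smul_iff _ hμ] at h
    have h2 := rat_of_axis hM h4 hnw hψ hψ0 h k
    simp only [Pi.smul_apply, smul_eq_mul] at h2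
    rw [hq l, show a k * (φ p / ψ p * ψ l) = φ p / ψ p * a k * ψ l by ring]
    exact F₀.mul_mem h2 (hψ l)

lemma ratTv_of_rat_zero {a φ e : ι → F} (he : RatVec F₀ e) (he0 : e ≠ 0) (hφe : φ ⬝ᵥ e = 0)
    (h : HasTv M a φ) : RatTv F₀ a φ := by
  obtain ⟨p, hp⟩ : ∃ p, e p ≠ 0 := Function.ne_iff.1 he0
  by_cases hall : ∃ ψ, RatVec F₀ ψ ∧ ψ ⬝ᵥ e = 0 ∧ ψ ⬝ᵥ a ≠ 0
  · obtain ⟨ψ, hψ, hψe, hψa⟩ := hall
    intro k l
    rcases eq_or_ne φ 0 with rfl | hφ0
    · simp
    have h1 := (hasTv_rat hM hψe (he.ratTv hψ)).comm h hφe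
    have h2 := rat_of_centre hM h4 hnw he he0 h1
    have h3 := rat_of_axis hM h4 hnw (a := (ψ ⬝ᵥ a)⁻¹ • a) h2 (smul_ne_zero hψa hφ0)
      (by rw [hasTv_smul_iff _ (inv_ne_zero hψa), smul_smul, inv_mul_cancel₀ hψa, one_smul]; exact h)
    have e1 := F₀.mul_mem (h3 k) (h2 l)
    simp only [Pi.smul_apply, smul_eq_mul] at e1
    rwa [show (ψ ⬝ᵥ a)⁻¹ * a k * (ψ ⬝ᵥ a * φ l) = a k * φ l by field_simp] at e1
  · push Not at hall
    have hq : ∀ q, a q = a p / e p * e q := fun q => by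
      have := hall (Pi.single q (e p) - Pi.single p (e q))
        (fun l => F₀.sub_mem (ratVec_single q (he p) l) (ratVec_single p (he q) l))
        (by rw [sub_dotProduct, single_dotProduct, single_dotProduct]; ring)
      rw [sub_dotProduct, single_dotProduct, single_dotProduct, sub_eq_zero] at this
      field_simp
      linear_combination this
    intro k l
    rcases eq_or_ne (a p / e p) 0 with hμ | hμ
    · simp [hq k, hμ]
    exact ratTv_of_centre_mul hM h4 hnw he he0 hμ (funext fun q => by simpa using hq q) h k l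

lemma mem_rat_of_fix {x : GL ι F} (hx : x ∈ M) {i : ι} {α : F}
    (hxi : (x : Matrix ι ι F) *ᵥ (Pi.single i 1 : ι → F) = α • Pi.single i 1) : x ∈ ratScalar ι F₀ := by
  have himg : ∀ p q : ι, p ≠ q → HasTv M ((x : Matrix ι ι F) *ᵥ (Pi.single p 1 : ι → F))
      ((Pi.single q 1 : ι → F) ᵥ* ((x⁻¹ : GL ι F) : Matrix ι ι F)) := fun p q hpq => by
    have h1 := hasTv_single hM hpq F₀.one_mem
    rw [one_smul] at h1
    exact h1.conj hx
  have hα : α ≠ 0 := by
    rintro rfl
    rw [zero_smul] at hxi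
    have := congrArg (fun v => ((x⁻¹ : GL ι F) : Matrix ι ι F) *ᵥ v) hxi
    rw [inv_mulVec_mulVec, Matrix.mulVec_zero] at this
    simp at this
  have hrat : ∀ p q : ι, p ≠ q → RatTv F₀ ((x : Matrix ι ι F) *ᵥ (Pi.single p 1 : ι → F))
      ((Pi.single q 1 : ι → F) ᵥ* ((x⁻¹ : GL ι F) : Matrix ι ι F)) := by
    intro p q hpq
    rcases eq_or_ne p i with rfl | hpi
    · exact ratTv_of_centre_mul hM h4 hnw (ratVec_single p F₀.one_mem) (by simp) hα hxi (himg p q hpq)
    obtain ⟨q', hq'⟩ := exists_index_notMem h4 {i, p} (Finset.card_le_two)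
    simp only [Finset.mem_insert, Finset.mem_singleton, not_or] at hq'
    have hrow : RatVec F₀ (α • ((Pi.single q' 1 : ι → F) ᵥ* ((x⁻¹ : GL ι F) : Matrix ι ι F))) := by
      intro l
      have h1 := ratTv_of_centre_mul hM h4 hnw (ratVec_single i F₀.one_mem) (by simp) hα hxi
        (himg i q' (Ne.symm hq'.1)) i l
      rw [hxi] at h1
      simpa using h1
    refine ratTv_of_rat_ker hM h4 hnw hrow ?_ ?_ (himg p q hpq)
    · intro e
      rcases smul_eq_zero.1 e with e | e
      · exact hα e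
      · have := congrArg (fun v => v ⬝ᵥ ((x : Matrix ι ι F) *ᵥ (Pi.single q' 1 : ι → F))) e
        simp only [vecMul_dotProduct_mulVec, zero_dotProduct] at this
        simp at this
    · rw [smul_dotProduct, vecMul_dotProduct_mulVec]
      simp [Ne.symm hq'.2, hq'.2]
  have hxy : ∀ k p q l, (x : Matrix ι ι F) k p * ((x⁻¹ : GL ι F) : Matrix ι ι F) q l ∈ F₀ ∨ p = q := by
    intro k p q l
    by_cases hpq : p = q
    · exact Or.inr hpq
    · left; simpa [RatTv] using hrat p q hpq k l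
  have hall : ∀ k p q l, (x : Matrix ι ι F) k p * ((x⁻¹ : GL ι F) : Matrix ι ι F) q l ∈ F₀ := by
    intro k p q l
    rcases hxy k p q l with h | rfl
    · exact h
    obtain ⟨j, hj⟩ := exists_index_notMem h4 {p} (by simp)
    simp only [Finset.mem_singleton] at hj
    have hone : ∑ m, ((x⁻¹ : GL ι F) : Matrix ι ι F) j m * (x : Matrix ι ι F) m j = 1 := by
      rw [← Matrix.mul_apply, ← Units.val_mul, inv_mul_cancel, Units.val_one, Matrix.one_apply_eq]
    rw [← mul_one ((x : Matrix ι ι F) k p), ← hone, Finset.mul_sum, Finset.sum_mul]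
    refine F₀.sum_mem fun m _ => ?_
    have h1 := (hxy k p j m).resolve_right (Ne.symm hj)
    have h2 := (hxy m j p l).resolve_right hj
    convert F₀.mul_mem h1 h2 using 1
    ring
  obtain ⟨q, l, hd⟩ : ∃ q l, ((x⁻¹ : GL ι F) : Matrix ι ι F) q l ≠ 0 := by
    by_contra hcon
    push Not at hcon
    have h0 : ((x⁻¹ : GL ι F) : Matrix ι ι F) = 0 := Matrix.ext hcon
    have h1 := inv_mulVec_mulVec x (Pi.single i 1)
    rw [h0, Matrix.zero_mulVec] at h1
    simpa using congrFun h1 i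
  exact mem_ratScalar_of_scaled hd fun k p => by rw [mul_comm]; exact hall k p q l

omit hM h4 hnw in
/-- Three numbers in a plane over the subfield satisfy a rational relation. -/
lemma exists_rat_relation (s : F) (b u v : Fin 3 → F) (hu : ∀ m, u m ∈ F₀) (hv : ∀ m, v m ∈ F₀)
    (hb : ∀ m, b m = u m + s * v m) :
    ∃ w : Fin 3 → F, (∀ m, w m ∈ F₀) ∧ w ≠ 0 ∧ w ⬝ᵥ b = 0 := by
  obtain ⟨w, hw0, hw⟩ := exists_ne_zero_dot_eq_zero (ι := Fin 3) (F := F₀)
    ![fun m => (⟨u m, hu m⟩ : F₀), fun m => ⟨v m, hv m⟩] (by simp)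
  refine ⟨fun m => (w m : F), fun m => (w m).2, fun e => hw0 (funext fun m => Subtype.ext (congrFun e m)), ?_⟩
  have e1 := congrArg Subtype.val (hw 0)
  have e2 := congrArg Subtype.val (hw 1)
  simp only [Matrix.cons_val_zero, Matrix.cons_val_one, dotProduct, AddSubmonoidClass.coe_finsetSum,
    Subfield.coe_mul, ZeroMemClass.coe_zero] at e1 e2
  simp only [dotProduct, hb, mul_add, Finset.sum_add_distrib]
  have e3 : ∑ m, (w m : F) * (s * v m) = s * ∑ m, v m * (w m : F) := by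
    rw [Finset.mul_sum]; exact Finset.sum_congr rfl fun m _ => by ring
  rw [e3, e2, mul_zero, add_zero]
  exact (Finset.sum_congr rfl fun m _ => mul_comm _ _).trans e1

/-- An element of `M` moving everything into the plane spanned by the axis and a rational vector and fixing
both is trivial. -/
lemma eq_one_of_fix_plane {a φ : ι → F} (h : HasTv M a φ) {i : ι}
    (hfull : ∀ ψ, RatVec F₀ ψ → ψ ⬝ᵥ a = 0 → ψ = 0) (hφe : φ ⬝ᵥ (Pi.single i 1 : ι → F) ≠ 0)
    (ha : ∀ k, a k ≠ 0) (hae : a ∉ F ∙ (Pi.single i 1 : ι → F)) {g : GL ι F} (hgM : g ∈ M)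
    (hpresg : ∀ z, ∃ α β : F, (g : Matrix ι ι F) *ᵥ z - z = α • (Pi.single i 1 : ι → F) + β • a)
    (hge : (g : Matrix ι ι F) *ᵥ (Pi.single i 1 : ι → F) = Pi.single i 1)
    (hga : (g : Matrix ι ι F) *ᵥ a = a) : g = 1 := by
  set e : ι → F := Pi.single i 1 with hedef
  have herat : RatVec F₀ e := ratVec_single i F₀.one_mem
  have he0 : e ≠ 0 := by simp [hedef]
  have hfix : ∀ z, ((g⁻¹ : GL ι F) : Matrix ι ι F) *ᵥ ((g : Matrix ι ι F) *ᵥ z) = z := inv_mulVec_mulVec g
  set φ' := φ ᵥ* ((g⁻¹ : GL ι F) : Matrix ι ι F) - φ with hφ'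
  have h1 : HasTv M a φ' := by
    have := h.conj hgM
    rw [hga] at this
    exact this.sub_axis h
  have hgie : ((g⁻¹ : GL ι F) : Matrix ι ι F) *ᵥ e = e := by
    conv_lhs => rw [← hge]
    rw [hfix]
  have hφ'e : φ' ⬝ᵥ e = 0 := by
    rw [hφ', sub_dotProduct, ← Matrix.dotProduct_mulVec, hgie, sub_self]
  have hφ'0 : φ' = 0 := by
    funext l
    by_contra hl
    have hl' : φ' l ≠ 0 := hl
    have hrat := ratTv_of_rat_zero hM h4 hnw herat he0 hφ'e h1
    obtain ⟨k₁, hk₁⟩ := exists_index_notMem h4 {i} (by simp)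
    simp only [Finset.mem_singleton] at hk₁
    have := hfull (Pi.single k₁ (a i * φ' l) - Pi.single i (a k₁ * φ' l))
      (fun m => F₀.sub_mem (ratVec_single k₁ (hrat i l) m) (ratVec_single i (hrat k₁ l) m))
      (by rw [sub_dotProduct, single_dotProduct, single_dotProduct]; ring)
    have h2 := congrFun this k₁
    simp [hk₁, ha i] at h2
    exact hl' h2
  have hφg : ∀ z, φ ⬝ᵥ ((g : Matrix ι ι F) *ᵥ z) = φ ⬝ᵥ z := fun z => by
    have h2 := congrArg (fun ξ => ξ ⬝ᵥ ((g : Matrix ι ι F) *ᵥ z)) hφ'0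
    simp only [hφ', sub_dotProduct, zero_dotProduct, vecMul_dotProduct_mulVec, sub_eq_zero] at h2
    exact h2.symm
  have hline : ∀ z, ∃ β : F, (g : Matrix ι ι F) *ᵥ z - z = β • a := by
    intro z
    obtain ⟨α, β, hαβ⟩ := hpresg z
    refine ⟨β, ?_⟩
    have h2 := congrArg (fun v => φ ⬝ᵥ v) hαβ
    simp only [dotProduct_sub, dotProduct_add, dotProduct_smul, hφg, h.1, smul_eq_mul, mul_zero,
      add_zero, sub_self] at h2
    rw [hαβ, (mul_eq_zero.1 h2.symm).resolve_right hφe]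
    simp
  choose β hβ using hline
  let χ : ι → F := fun l => β (Pi.single l 1)
  have hdot : ∀ z, (g : Matrix ι ι F) *ᵥ z = z + (χ ⬝ᵥ z) • a := by
    intro z
    have hsum : ((g : Matrix ι ι F) *ᵥ z) - z =
        ∑ l, z l • ((g : Matrix ι ι F) *ᵥ Pi.single l 1 - Pi.single l 1) := by
      simp only [smul_sub, Finset.sum_sub_distrib, ← Matrix.mulVec_smul, ← Matrix.mulVec_sum]
      rw [← pi_eq_sum_univ' z]
    have h2 : (∑ l, z l • ((g : Matrix ι ι F) *ᵥ Pi.single l 1 - Pi.single l 1)) = (χ ⬝ᵥ z) • a := by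
      simp only [hβ, smul_smul, dotProduct, χ, Finset.sum_smul, mul_comm]
    rw [← h2, ← hsum]
    abel
  have hχa : χ ⬝ᵥ a = 0 := by
    have h2 := hdot a
    rw [hga] at h2
    exact (smul_eq_zero.1 (left_eq_add.1 h2)).resolve_right fun h0 => hae (h0 ▸ Submodule.zero_mem _)
  have hχe : χ ⬝ᵥ e = 0 := by
    have h2 := hdot e
    rw [hge] at h2
    exact (smul_eq_zero.1 (left_eq_add.1 h2)).resolve_right fun h0 => hae (h0 ▸ Submodule.zero_mem _)
  have hgeq : g = tvec a χ hχa := gl_ext_mulVec fun z => by rw [hdot, tvec_mulVec]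
  have hrat := ratTv_of_rat_zero hM h4 hnw herat he0 hχe (a := a) ⟨hχa, hgeq ▸ hgM⟩
  refine gl_ext_mulVec fun z => ?_
  rw [hdot, Units.val_one, Matrix.one_mulVec]
  suffices χ = 0 by simp [this]
  funext l
  by_contra hl
  obtain ⟨k₁, hk₁⟩ := exists_index_notMem h4 {i} (by simp)
  simp only [Finset.mem_singleton] at hk₁
  have := hfull (Pi.single k₁ (a i * χ l) - Pi.single i (a k₁ * χ l))
    (fun m => F₀.sub_mem (ratVec_single k₁ (hrat i l) m) (ratVec_single i (hrat k₁ l) m))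
    (by rw [sub_dotProduct, single_dotProduct, single_dotProduct]; ring)
  have h2 := congrFun this k₁
  simp [hk₁, ha i] at h2
  exact hl h2

/-- An element of `M` moving everything into the plane spanned by the axis and a rational vector and fixing
the rational line fixes the rational vector and shears the axis. -/
lemma fix_of_fix_line [Finite F] {r : ℕ} (hr : r.Prime) (hcard : Nat.card F = Nat.card F₀ ^ r) (hMS : M ≤ specialLinear ι F) {a : ι → F} {i : ι}
    (hfull : ∀ ψ, RatVec F₀ ψ → ψ ⬝ᵥ a = 0 → ψ = 0)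
    {g : GL ι F} (hgM : g ∈ M)
    (hpresg : ∀ z, ∃ α β : F, (g : Matrix ι ι F) *ᵥ z - z = α • (Pi.single i 1 : ι → F) + β • a)
    {α : F} (hgα : (g : Matrix ι ι F) *ᵥ (Pi.single i 1 : ι → F) = α • (Pi.single i 1 : ι → F)) :
    (g : Matrix ι ι F) *ᵥ (Pi.single i 1 : ι → F) = Pi.single i 1 ∧
      ∃ m : F, (g : Matrix ι ι F) *ᵥ a = a + m • (Pi.single i 1 : ι → F) := by
  set e : ι → F := Pi.single i 1 with hedef
  obtain ⟨d, hd, hdg⟩ := exists_scaled_of_mem (mem_rat_of_fix hM h4 hnw hgM hgα)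
  have hcol : ∀ l, ∃ α' : F, (g : Matrix ι ι F) *ᵥ Pi.single l 1 - Pi.single l 1 = α' • e := by
    obtain ⟨k₁, hk₁⟩ := exists_index_notMem h4 {i} (by simp)
    obtain ⟨k₂, hk₂⟩ := exists_index_notMem h4 {i, k₁} Finset.card_le_two
    simp only [Finset.mem_insert, Finset.mem_singleton, not_or] at hk₁ hk₂
    obtain ⟨al, bl, hab⟩ : ∃ al bl : ι → F, ∀ l,
        (g : Matrix ι ι F) *ᵥ Pi.single l 1 - Pi.single l 1 = al l • e + bl l • a := by
      choose al bl hab using fun l => hpresg (Pi.single l 1)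
      exact ⟨al, bl, hab⟩
    have hval : ∀ k, k ≠ i → ∀ l, bl l * a k = (g : Matrix ι ι F) k l - (Pi.single l 1 : ι → F) k := fun k hk l => by
      have h2 := congrFun (hab l) k
      simp only [Pi.sub_apply, Pi.add_apply, Pi.smul_apply, Matrix.mulVec_single_one, Matrix.col_apply,
        hedef, Pi.single_eq_of_ne hk, smul_eq_mul, mul_zero, zero_add] at h2
      exact h2.symm
    -- no rational dependence among the coordinates of the axis
    have hind : ∀ u v w : F, u ∈ F₀ → v ∈ F₀ → w ∈ F₀ → u * a i + v * a k₁ + w * a k₂ = 0 →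
        u = 0 ∧ v = 0 ∧ w = 0 := by
      intro u v w hu hv hw h0
      have h1 := hfull (Pi.single i u + Pi.single k₁ v + Pi.single k₂ w)
        (fun k => F₀.add_mem (F₀.add_mem (ratVec_single i hu k) (ratVec_single k₁ hv k)) (ratVec_single k₂ hw k))
        (by rw [add_dotProduct, add_dotProduct, single_dotProduct, single_dotProduct, single_dotProduct, h0])
      refine ⟨?_, ?_, ?_⟩
      · simpa [Ne.symm hk₁, Ne.symm hk₂.1] using congrFun h1 i
      · simpa [hk₁, Ne.symm hk₂.2] using congrFun h1 k₁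
      · simpa [hk₂.1, hk₂.2] using congrFun h1 k₂
    have ha2 : a k₂ ≠ 0 := fun h0 =>
      one_ne_zero (hind 0 0 1 F₀.zero_mem F₀.zero_mem F₀.one_mem (by rw [h0]; ring)).2.2
    set x := a k₁ / a k₂
    have hx : x * a k₂ = a k₁ := div_mul_cancel₀ _ ha2
    have hxF : x ∉ F₀ := fun hmem => one_ne_zero
      (hind 0 1 (-x) F₀.zero_mem F₀.one_mem (F₀.neg_mem hmem) (by linear_combination -hx)).2.1
    -- no quadratic equation for the ratio
    have hquad : ∀ p q : F, p ∈ F₀ → q ∈ F₀ → x * x ≠ p + q * x := by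
      intro p q hp hq hxx
      let A : Subalgebra F₀ F :=
        { carrier := {y | ∃ u s : F, u ∈ F₀ ∧ s ∈ F₀ ∧ y = u + s * x}
          zero_mem' := ⟨0, 0, F₀.zero_mem, F₀.zero_mem, by ring⟩
          one_mem' := ⟨1, 0, F₀.one_mem, F₀.zero_mem, by ring⟩
          add_mem' := by
            rintro _ _ ⟨u, s, hu, hs, rfl⟩ ⟨u', s', hu', hs', rfl⟩
            exact ⟨u + u', s + s', F₀.add_mem hu hu', F₀.add_mem hs hs', by ring⟩
          mul_mem' := by
            rintro _ _ ⟨u, s, hu, hs, rfl⟩ ⟨u', s', hu', hs', rfl⟩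
            exact ⟨u * u' + s * s' * p, u * s' + u' * s + s * s' * q,
              F₀.add_mem (F₀.mul_mem hu hu') (F₀.mul_mem (F₀.mul_mem hs hs') hp),
              F₀.add_mem (F₀.add_mem (F₀.mul_mem hu hs') (F₀.mul_mem hu' hs)) (F₀.mul_mem (F₀.mul_mem hs hs') hq),
              by linear_combination (s * s') * hxx⟩
          algebraMap_mem' := fun u => ⟨u, 0, u.2, F₀.zero_mem, by
            rw [zero_mul, add_zero]; rfl⟩ }
      haveI := Fintype.ofFinite F
      have hrank : Module.finrank F₀ F = r := by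
        haveI := Fintype.ofFinite F₀
        have h1 := Module.card_eq_pow_finrank (K := F₀) (V := F)
        rw [Fintype.card_eq_nat_card, Fintype.card_eq_nat_card, hcard] at h1
        exact (Nat.pow_right_injective (Finite.one_lt_card (α := F₀)) h1).symm
      haveI := Subalgebra.isSimpleOrder_of_finrank_prime F₀ F (hrank ▸ hr)
      have hA : A = ⊤ := by
        refine (eq_bot_or_eq_top A).resolve_left fun hbot => hxF ?_
        have : x ∈ A := ⟨0, 1, F₀.zero_mem, F₀.one_mem, by ring⟩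
        rw [hbot, Algebra.mem_bot] at this
        obtain ⟨y, hy⟩ := this
        rw [← hy]
        exact y.2
      obtain ⟨u, s, hu, hs, hus⟩ := (hA ▸ Algebra.mem_top : a i / a k₂ ∈ A)
      rw [div_eq_iff ha2] at hus
      exact one_ne_zero
        (hind 1 (-s) (-u) F₀.one_mem (F₀.neg_mem hs) (F₀.neg_mem hu) (by linear_combination hus + s * hx)).1
    have hrel : ∀ l, d * (g : Matrix ι ι F) k₁ l - d * (Pi.single l 1 : ι → F) k₁ =
        x * (d * (g : Matrix ι ι F) k₂ l - d * (Pi.single l 1 : ι → F) k₂) := fun l => by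
      linear_combination d * x * hval k₂ hk₂.1 l - d * hval k₁ hk₁ l - d * bl l * hx
    have e1 := hrel k₁
    have e2 := hrel k₂
    simp only [Pi.single_eq_same, Pi.single_eq_of_ne hk₂.2, Pi.single_eq_of_ne (Ne.symm hk₂.2), mul_one, mul_zero,
      sub_zero] at e1 e2
    set R11 := d * (g : Matrix ι ι F) k₁ k₁
    set R12 := d * (g : Matrix ι ι F) k₁ k₂
    set R21 := d * (g : Matrix ι ι F) k₂ k₁
    set R22 := d * (g : Matrix ι ι F) k₂ k₂
    have hR21 : R21 = 0 := by
      by_contra h0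
      refine hquad (R12 / R21) ((R11 - R22) / R21) (F₀.div_mem (hdg _ _) (hdg _ _))
        (F₀.div_mem (F₀.sub_mem (hdg _ _) (hdg _ _)) (hdg _ _)) ?_
      field_simp
      linear_combination -e2 - x * e1
    have hR22 : R22 = R11 := by
      by_contra h0
      refine hxF ?_
      have : x = R12 / (R22 - R11) := by
        rw [eq_div_iff (sub_ne_zero.2 h0)]
        linear_combination -e2 - x * e1 - x * x * hR21
      rw [this]
      exact F₀.div_mem (hdg _ _) (F₀.sub_mem (hdg _ _) (hdg _ _))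
    have hdF : d ∈ F₀ := by
      rw [show d = R11 by linear_combination -e1 - x * hR21]
      exact hdg _ _
    have hgF : ∀ k l, (g : Matrix ι ι F) k l ∈ F₀ := fun k l => by
      rw [← inv_mul_cancel_left₀ hd ((g : Matrix ι ι F) k l)]
      exact F₀.mul_mem (F₀.inv_mem hdF) (hdg k l)
    intro l
    refine ⟨al l, ?_⟩
    suffices bl l = 0 by rw [hab, this, zero_smul, add_zero]
    by_contra hb
    obtain ⟨-, -, h2⟩ := hind 0 (bl l * a k₂) (-(bl l * a k₁)) F₀.zero_mem
      (by rw [hval k₂ hk₂.1]; exact F₀.sub_mem (hgF _ _) (ratVec_single l F₀.one_mem _))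
      (F₀.neg_mem (by rw [hval k₁ hk₁]; exact F₀.sub_mem (hgF _ _) (ratVec_single l F₀.one_mem _)))
      (by ring)
    have ha1 : a k₁ ≠ 0 := fun h0 =>
      one_ne_zero (hind 0 1 0 F₀.zero_mem F₀.one_mem F₀.zero_mem (by rw [h0]; ring)).2.1
    exact mul_ne_zero hb ha1 (neg_eq_zero.1 h2)
  choose γ hγ using hcol
  let χ : ι → F := fun l => γ l
  have hdot : ∀ z, (g : Matrix ι ι F) *ᵥ z = z + (χ ⬝ᵥ z) • e := by
    intro z
    have hsum : ((g : Matrix ι ι F) *ᵥ z) - z =
        ∑ l, z l • ((g : Matrix ι ι F) *ᵥ Pi.single l 1 - Pi.single l 1) := by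
      simp only [smul_sub, Finset.sum_sub_distrib, ← Matrix.mulVec_smul, ← Matrix.mulVec_sum]
      rw [← pi_eq_sum_univ' z]
    have h2 : (∑ l, z l • ((g : Matrix ι ι F) *ᵥ Pi.single l 1 - Pi.single l 1)) = (χ ⬝ᵥ z) • e := by
      simp only [hγ, smul_smul, dotProduct, χ, Finset.sum_smul, mul_comm]
    rw [← h2, ← hsum]
    abel
  have hdet : χ ⬝ᵥ e = 0 := by
    have hg1 := mem_specialLinear.1 (hMS hgM)
    have hmat : (g : Matrix ι ι F) = 1 + vecMulVec e χ := Matrix.ext_iff_mulVec.2 fun z => by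
      rw [hdot, Matrix.add_mulVec, Matrix.one_mulVec, Matrix.vecMulVec_mulVec, op_smul_eq_smul]
    rw [hmat, det_one_add_vecMulVec] at hg1
    simpa using hg1
  exact ⟨by rw [hdot, hdet, zero_smul, add_zero], χ ⬝ᵥ a, hdot a⟩

/-- Every transvection of `M` is rational. -/
theorem ratTv_of_hasTv [Finite F] {r : ℕ} (hr : r.Prime) (hcard : Nat.card F = Nat.card F₀ ^ r) (hMS : M ≤ specialLinear ι F) {a φ : ι → F} (h : HasTv M a φ) :
    RatTv F₀ a φ := by
  by_contra hbad
  have hfull : ∀ ψ, RatVec F₀ ψ → ψ ⬝ᵥ a = 0 → ψ = 0 := fun ψ hψ hψa =>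
    by_contra fun hψ0 => hbad (ratTv_of_rat_ker hM h4 hnw hψ hψ0 hψa h)
  have hfullφ : ∀ e, RatVec F₀ e → φ ⬝ᵥ e = 0 → e = 0 := fun e he hφe =>
    by_contra fun he0 => hbad (ratTv_of_rat_zero hM h4 hnw he he0 hφe h)
  obtain ⟨i⟩ : Nonempty ι := Fintype.card_pos_iff.1 (by omega)
  set e : ι → F := Pi.single i 1 with hedef
  have herat : RatVec F₀ e := ratVec_single i F₀.one_mem
  have he0 : e ≠ 0 := by simp [hedef]
  have hφe : φ ⬝ᵥ e ≠ 0 := fun h0 => he0 (hfullφ e herat h0)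
  have ha : ∀ k, a k ≠ 0 := fun k h0 => by
    have := hfull (Pi.single k 1) (ratVec_single k F₀.one_mem) (by simp [h0])
    simp at this
  have hae : a ∉ F ∙ e := by
    intro hmem
    obtain ⟨c, hc⟩ := Submodule.mem_span_singleton.1 hmem
    obtain ⟨k, hk⟩ := exists_index_notMem h4 {i} (by simp)
    simp only [Finset.mem_singleton] at hk
    exact ha k (by rw [← hc]; simp [hedef, hk])
  let P : Submodule F (ι → F) := (F ∙ e) ⊔ (F ∙ a)
  have hPmem : ∀ z ∈ P, ∃ α β : F, z = α • e + β • a := by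
    intro z hz
    obtain ⟨y, hy, w, hw, rfl⟩ := Submodule.mem_sup.1 hz
    obtain ⟨α, rfl⟩ := Submodule.mem_span_singleton.1 hy
    obtain ⟨β, rfl⟩ := Submodule.mem_span_singleton.1 hw
    exact ⟨α, β, rfl⟩
  let gens : Set (GL ι F) := {g | ∃ ψ, ∃ hψe : ψ ⬝ᵥ e = 0, RatVec F₀ ψ ∧ g = tvec e ψ hψe} ∪ {tvec a φ h.1}
  let G : Subgroup (GL ι F) := Subgroup.closure gens
  have hGM : G ≤ M := by
    refine (Subgroup.closure_le _).2 ?_
    rintro g (⟨ψ, hψe, hψ, rfl⟩ | rfl)
    · exact hM (tvec_mem_rat hψe (herat.ratTv hψ))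
    · exact h.2
  have hpres : ∀ g ∈ G, ∀ z, (g : Matrix ι ι F) *ᵥ z - z ∈ P := by
    intro g hg
    induction hg using Subgroup.closure_induction with
    | mem g hg =>
      rcases hg with ⟨ψ, hψe, -, rfl⟩ | rfl
      · intro z
        rw [tvec_mulVec, add_sub_cancel_left]
        exact P.smul_mem _ (Submodule.mem_sup_left (Submodule.mem_span_singleton_self e))
      · intro z
        rw [tvec_mulVec, add_sub_cancel_left]
        exact P.smul_mem _ (Submodule.mem_sup_right (Submodule.mem_span_singleton_self a))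
    | one => intro z; simp
    | mul g g' _ _ hg hg' =>
      intro z
      rw [mul_mulVec]
      have := P.add_mem (hg ((g' : Matrix ι ι F) *ᵥ z)) (hg' z)
      rwa [sub_add_sub_cancel] at this
    | inv g _ hg =>
      intro z
      have := P.neg_mem (hg (((g⁻¹ : GL ι F) : Matrix ι ι F) *ᵥ z))
      rwa [neg_sub, mulVec_inv_mulVec] at this
  -- faithful on the plane
  have hfaith : ∀ g ∈ G, (g : Matrix ι ι F) *ᵥ e = e → (g : Matrix ι ι F) *ᵥ a = a → g = 1 :=
    fun g hg hge hga => eq_one_of_fix_plane hM h4 hnw h hfull hφe ha hae (hGM hg)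
      (fun z => hPmem _ (hpres g hg z)) hge hga
  -- the stabiliser of the line through `e`
  have hF1 : ∀ g ∈ G, ∀ α : F, (g : Matrix ι ι F) *ᵥ e = α • e →
      (g : Matrix ι ι F) *ᵥ e = e ∧ ∃ m : F, (g : Matrix ι ι F) *ᵥ a = a + m • e :=
    fun g hg α hgα => fix_of_fix_line hM h4 hnw hr hcard hMS hfull (hGM hg) (fun z => hPmem _ (hpres g hg z)) hgα
  -- the fixer of `e` in `G`
  let U : Subgroup G :=
    { carrier := {g | ((g : GL ι F) : Matrix ι ι F) *ᵥ e = e}
      one_mem' := by simp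
      mul_mem' := fun {x y} hx hy => by
        simp only [Set.mem_ofPred_eq, Subgroup.coe_mul, mul_mulVec] at *
        rw [hy, hx]
      inv_mem' := fun {x} hx => by
        simp only [Set.mem_ofPred_eq, Subgroup.coe_inv] at *
        conv_lhs => rw [← hx]
        rw [inv_mulVec_mulVec] }
  have hU : ∀ g : G, g ∈ U ↔ ((g : GL ι F) : Matrix ι ι F) *ᵥ e = e := fun g => Iff.rfl
  have hUm : ∀ g : G, g ∈ U → ∃ m : F, ((g : GL ι F) : Matrix ι ι F) *ᵥ a = a + m • e := fun g hg =>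
    (hF1 g g.2 1 (by rw [one_smul]; exact hg)).2
  have hmemU : ∀ (g : G) (α : F), ((g : GL ι F) : Matrix ι ι F) *ᵥ e = α • e → g ∈ U :=
    fun g α hg => (hF1 g g.2 α hg).1
  have heq : ∀ x y : G, x ∈ U → y ∈ U →
      ((x : GL ι F) : Matrix ι ι F) *ᵥ a = ((y : GL ι F) : Matrix ι ι F) *ᵥ a → x = y := by
    intro x y hx hy hxy
    rw [hU] at hx hy
    have h1 : (((x⁻¹ * y : G) : GL ι F)) = 1 := by
      refine hfaith _ (x⁻¹ * y).2 ?_ ?_
      · rw [Subgroup.coe_mul, Subgroup.coe_inv, mul_mulVec, hy]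
        conv_lhs => rw [← hx]
        rw [inv_mulVec_mulVec]
      · rw [Subgroup.coe_mul, Subgroup.coe_inv, mul_mulVec, ← hxy, inv_mulVec_mulVec]
    exact inv_mul_eq_one.1 (Subtype.ext h1)
  let p := ringChar F
  haveI : Fact p.Prime := ⟨CharP.char_is_prime F p⟩
  have hexp : ∀ x ∈ U, x ^ p = 1 := by
    intro x hx
    obtain ⟨m, hm⟩ := hUm x hx
    have hiter : ∀ k : ℕ, (((x ^ k : G) : GL ι F) : Matrix ι ι F) *ᵥ a = a + ((k : F) * m) • e := by
      intro k
      induction k with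
      | zero => simp
      | succ k ih =>
        rw [pow_succ', Subgroup.coe_mul, mul_mulVec, ih, Matrix.mulVec_add, Matrix.mulVec_smul, hm,
          (hU x).1 hx]
        push_cast
        module
    refine heq _ 1 (U.pow_mem hx p) U.one_mem ?_
    rw [hiter, CharP.cast_eq_zero]
    simp
  have hab : ∀ x ∈ U, ∀ y ∈ U, x * y = y * x := by
    intro x hx y hy
    obtain ⟨m, hm⟩ := hUm x hx
    obtain ⟨m', hm'⟩ := hUm y hy
    refine heq _ _ (U.mul_mem hx hy) (U.mul_mem hy hx) ?_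
    simp only [Subgroup.coe_mul, mul_mulVec, hm, hm', Matrix.mulVec_add, Matrix.mulVec_smul,
      (hU x).1 hx, (hU y).1 hy]
    module
  have hQ : ∀ ψ, RatVec F₀ ψ → ∀ hψe : ψ ⬝ᵥ e = 0, tvec e ψ hψe ∈ G := fun ψ hψ hψe =>
    Subgroup.subset_closure (Or.inl ⟨ψ, hψe, hψ, rfl⟩)
  have hQU : ∀ ψ (hψ : RatVec F₀ ψ) (hψe : ψ ⬝ᵥ e = 0), (⟨_, hQ ψ hψ hψe⟩ : G) ∈ U := fun ψ hψ hψe => by
    rw [hU]; change (tvec e ψ hψe : Matrix ι ι F) *ᵥ e = e
    rw [tvec_mulVec, hψe, zero_smul, add_zero]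
  obtain ⟨k₁, hk₁⟩ := exists_index_notMem h4 {i} (by simp)
  obtain ⟨k₂, hk₂⟩ := exists_index_notMem h4 {i, k₁} (Finset.card_le_two)
  simp only [Finset.mem_insert, Finset.mem_singleton, not_or] at hk₁ hk₂
  -- a vector of the plane fixed by `U` lies on the line through `e`
  have hfixP : ∀ x : G, x ∈ U → x ≠ 1 → ∀ z ∈ P,
      ((x : GL ι F) : Matrix ι ι F) *ᵥ z = z → ∃ α : F, z = α • e := by
    intro x hx hx1 z hz hxz
    obtain ⟨α, β, rfl⟩ := hPmem z hz
    obtain ⟨m, hm⟩ := hUm x hx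
    refine ⟨α, ?_⟩
    suffices β = 0 by simp [this]
    by_contra hβ
    apply hx1
    refine heq x 1 hx U.one_mem ?_
    rw [Matrix.mulVec_add, Matrix.mulVec_smul, Matrix.mulVec_smul, (hU x).1 hx, add_right_inj] at hxz
    rw [smul_right_injective _ hβ hxz]
    simp
  have hux : (⟨_, hQ (Pi.single k₁ 1) (ratVec_single k₁ F₀.one_mem) (by simp [hedef, hk₁])⟩ : G) ≠ 1 := by
    intro h1
    have h2 : (tvec e (Pi.single k₁ 1) (by simp [hedef, hk₁]) : GL ι F) = 1 := congrArg Subtype.val h1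
    have h3 := congrArg (fun g : GL ι F => (g : Matrix ι ι F) *ᵥ (Pi.single k₁ 1 : ι → F)) h2
    simp only [tvec_mulVec, Units.val_one, Matrix.one_mulVec, single_dotProduct, Pi.single_eq_same,
      mul_one, one_smul, add_eq_left] at h3
    exact he0 h3
  have hnorm : Subgroup.normalizer (U : Set G) ≤ U := by
    intro g hg
    set x : G := ⟨_, hQ (Pi.single k₁ 1) (ratVec_single k₁ F₀.one_mem) (by simp [hedef, hk₁])⟩
    have hxU : x ∈ U := hQU (Pi.single k₁ 1) (ratVec_single k₁ F₀.one_mem) _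
    have hxg : g⁻¹ * x * g ∈ U := by
      have := (Subgroup.mem_normalizer_iff.1 (Subgroup.inv_mem _ hg) x).1 hxU
      simpa using this
    have hz : ((g : GL ι F) : Matrix ι ι F) *ᵥ e ∈ P := by
      have := P.add_mem (hpres g g.2 e) (Submodule.mem_sup_left (Submodule.mem_span_singleton_self e))
      rwa [sub_add_cancel] at this
    have hfix : ((x : GL ι F) : Matrix ι ι F) *ᵥ (((g : GL ι F) : Matrix ι ι F) *ᵥ e) =
        ((g : GL ι F) : Matrix ι ι F) *ᵥ e := by
      have h2 := congrArg (fun v => ((g : GL ι F) : Matrix ι ι F) *ᵥ v) ((hU _).1 hxg)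
      simp only [Subgroup.coe_mul, Subgroup.coe_inv, mul_mulVec, mulVec_inv_mulVec] at h2
      exact h2
    obtain ⟨α, hα⟩ := hfixP x hxU hux _ hz hfix
    exact hmemU g α hα
  have hcent : ∀ x ∈ U, x ≠ 1 → ∀ y, x * y = y * x → y ∈ U := by
    intro x hx hx1 y hxy
    have hz : ((y : GL ι F) : Matrix ι ι F) *ᵥ e ∈ P := by
      have := P.add_mem (hpres y y.2 e) (Submodule.mem_sup_left (Submodule.mem_span_singleton_self e))
      rwa [sub_add_cancel] at this
    have hfix : ((x : GL ι F) : Matrix ι ι F) *ᵥ (((y : GL ι F) : Matrix ι ι F) *ᵥ e) =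
        ((y : GL ι F) : Matrix ι ι F) *ᵥ e := by
      rw [← mul_mulVec, ← Subgroup.coe_mul, hxy, Subgroup.coe_mul, mul_mulVec, (hU x).1 hx]
    obtain ⟨α, hα⟩ := hfixP x hx hx1 _ hz hfix
    exact hmemU y α hα
  have hcyc : ¬ IsCyclic U := by
    intro hc
    have hle : Nat.card U ≤ p := by
      rw [← IsCyclic.exponent_eq_card]
      exact Nat.le_of_dvd (CharP.char_is_prime F p).pos
        (Monoid.exponent_dvd_of_forall_pow_eq_one fun x => Subtype.ext (hexp x x.2))
    let ψ₂ : F₀ × F₀ → (ι → F) := fun c => Pi.single k₁ (c.1 : F) + Pi.single k₂ (c.2 : F)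
    have hψr : ∀ c, RatVec F₀ (ψ₂ c) := fun c k =>
      F₀.add_mem (ratVec_single k₁ c.1.2 k) (ratVec_single k₂ c.2.2 k)
    have hψe : ∀ c, ψ₂ c ⬝ᵥ e = 0 := fun c => by simp [ψ₂, hedef, hk₁, hk₂.1]
    have hinj : Function.Injective
        (fun c : F₀ × F₀ => (⟨⟨_, hQ _ (hψr c) (hψe c)⟩, hQU _ (hψr c) (hψe c)⟩ : U)) := by
      intro c c' hcc
      have h1 : tvec e (ψ₂ c) (hψe c) = tvec e (ψ₂ c') (hψe c') :=
        congrArg (fun u : U => ((u : G) : GL ι F)) hcc
      have h2 : ∀ l, ψ₂ c l = ψ₂ c' l := fun l => by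
        have := congrArg (fun g : GL ι F => (g : Matrix ι ι F) i l) h1
        simpa [tvec_val, Matrix.vecMulVec_apply, hedef] using this
      refine Prod.ext (Subtype.ext ?_) (Subtype.ext ?_)
      · simpa [ψ₂, Ne.symm hk₂.2] using h2 k₁
      · simpa [ψ₂, hk₂.2] using h2 k₂
    have hbig := Nat.card_le_card_of_injective _ hinj
    rw [Nat.card_prod] at hbig
    haveI : CharP F₀ p := (RingHom.charP_iff_charP (F₀.subtype : F₀ →+* F) p).2 (inferInstanceAs (CharP F (ringChar F)))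
    haveI := Fintype.ofFinite F₀
    obtain ⟨m, -, hm⟩ := FiniteField.card F₀ p
    have hp2 : p ≤ Nat.card F₀ := by rw [Nat.card_eq_fintype_card, hm]; exact Nat.le_self_pow m.pos.ne' p
    have hlt : p < Nat.card F₀ * Nat.card F₀ :=
      lt_of_le_of_lt hp2 (lt_mul_of_one_lt_left Nat.card_pos Finite.one_lt_card)
    omega
  have htop := eq_top_of_selfNormalizing U (p := p) (fun x => ⟨1, by
    rw [pow_one]; exact Subtype.ext (hexp x x.2)⟩) hab hnorm hcyc hcent
  have ht : (⟨tvec a φ h.1, Subgroup.subset_closure (Or.inr rfl)⟩ : G) ∈ U := by rw [htop]; trivial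
  have h1 : (tvec a φ h.1 : Matrix ι ι F) *ᵥ e = e := ht
  rw [tvec_mulVec, add_eq_left] at h1
  rcases smul_eq_zero.1 h1 with h2 | h2
  · exact hφe h2
  · exact ha i (by rw [h2]; rfl)

end SubfieldOver

theorem subfield_key [Fintype F] {M : Subgroup (GL ι F)} (hM : ratScalar ι F₀ ⊓ specialLinear ι F ≤ M)
    (hMS : M ≤ specialLinear ι F) (h4 : Fintype.card ι = 3) {r : ℕ} (hr : r.Prime)
    (hcard : Fintype.card F = Nat.card F₀ ^ r) (hne : ¬ M ≤ ratScalar ι F₀) : specialLinear ι F ≤ M := by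
  by_cases hnw : SubfieldOver.NoWin M F₀
  · exfalso
    obtain ⟨g, hg, hgX⟩ := SetLike.not_le_iff_exists.1 hne
    apply hgX
    have hrat : ∀ p q : ι, p ≠ q → ∀ k l,
        (g : Matrix ι ι F) k p * ((g⁻¹ : GL ι F) : Matrix ι ι F) q l ∈ F₀ := by
      intro p q hpq k l
      have h1 := SubfieldOver.hasTv_single hM hpq F₀.one_mem
      rw [one_smul] at h1
      simpa [RatTv] using SubfieldOver.ratTv_of_hasTv hM h4 hnw hr (by rw [Nat.card_eq_fintype_card, hcard]) hMS (h1.conj hg) k l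
    have hall : ∀ k p q l, (g : Matrix ι ι F) k p * ((g⁻¹ : GL ι F) : Matrix ι ι F) q l ∈ F₀ := by
      intro k p q l
      by_cases hpq : p = q
      · subst hpq
        obtain ⟨j, hj⟩ := Fintype.exists_ne_of_one_lt_card (by omega) p
        have hone : ∑ m, ((g⁻¹ : GL ι F) : Matrix ι ι F) j m * (g : Matrix ι ι F) m j = 1 := by
          rw [← Matrix.mul_apply, ← Units.val_mul, inv_mul_cancel, Units.val_one, Matrix.one_apply_eq]
        rw [← mul_one ((g : Matrix ι ι F) k p), ← hone, Finset.mul_sum, Finset.sum_mul]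
        refine F₀.sum_mem fun m _ => ?_
        convert F₀.mul_mem (hrat p j (Ne.symm hj) k m) (hrat j p hj m l) using 1
        ring
      · exact hrat p q hpq k l
    obtain ⟨i⟩ : Nonempty ι := Fintype.card_pos_iff.1 (by omega)
    obtain ⟨l, hd⟩ : ∃ l, ((g⁻¹ : GL ι F) : Matrix ι ι F) i l ≠ 0 := by
      by_contra hcon
      push Not at hcon
      have h1 := congrFun (inv_mulVec_mulVec g (Pi.single i 1)) i
      simp [Matrix.mulVec, dotProduct, hcon] at h1
    exact mem_ratScalar_of_scaled hd fun k p => by rw [mul_comm]; exact hall k p i l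
  · simp only [SubfieldOver.NoWin, not_forall] at hnw
    obtain ⟨i, j, hij, c, h, hc⟩ := hnw
    exact SubfieldOver.specialLinear_le_of_win hM h4 hr hcard hij hc h

/-- Subfield groups are maximal in dimension three. -/
theorem subfield_maximal [Fintype F] (F₀ : Subfield F) {r : ℕ} (P : GL (Fin 3) F) (hr : r.Prime)
    (hcard : Fintype.card F = Nat.card F₀ ^ r) :
    Cfsg.Geo.IsMaximalIn (Cfsg.Geo.specialLinear (Fin 3) F)
      (Cfsg.Geo.subfieldSubgroup F₀ P ⊓ Cfsg.Geo.specialLinear (Fin 3) F) := by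
  refine CfsgLib.Geo.isMaximalIn_conj P (CfsgLib.Geo.specialLinear_map_conj P)
    (CfsgLib.Geo.isMaximalIn_of_key (X := CfsgLib.Geo.ratScalar (Fin 3) F₀) ?_ ?_)
  · refine CfsgLib.Geo.subfield_proper ?_ (by rw [Fintype.card_fin]; omega)
    intro h
    have h1 : Nat.card F₀ = Fintype.card F := by
      rw [h, Nat.card_congr Subfield.topEquiv.toEquiv, Nat.card_eq_fintype_card]
    rw [h1] at hcard
    have : 1 = r := Nat.pow_right_injective (Fintype.one_lt_card (α := F)) ((pow_one _).trans hcard)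
    exact hr.one_lt.ne this
  · exact fun M hM hMS hne => subfield_key hM hMS (Fintype.card_fin 3) hr hcard hne

end CfsgLib.Geo.SL3
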